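import Groth.Agent.S1026
import Groth.Agent.CurvesB.VABaseChange
import Groth.Agent.VarietyB.PullSec
import Groth.Agent.Fga.HodgePush

/-!
# Euler characteristics at field-valued points

For `f : Y ⟶ S` proper, `F` quasi-coherent on `Y` and a pullback square over `σ : Spec K ⟶ S`, the Euler
characteristic over `K` of the pullback of `F` is `PerfAux.eulerChar f F (σ pt)`.
-/

set_option autoImplicit false
universe u
open CategoryTheory CategoryTheory.Limits AlgebraicGeometry Opposite TopologicalSpace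

namespace K846.ChiPt

variable {Y S : Scheme.{u}}

/-- A field valued point factors through the residue field of its image. -/
theorem exists_factor {K : Type u} [Field K] (σ : Spec (CommRingCat.of K) ⟶ S)
    (pt : Spec (CommRingCat.of K)) :
    ∃ τ : Spec (CommRingCat.of K) ⟶ Spec (CommRingCat.of (S.residueField (σ pt))),
      τ ≫ S.fromSpecResidueField (σ pt) = σ := by
  have h := (Scheme.SpecToEquivOfField K S).symm_apply_apply σ
  generalize hxf : (Scheme.SpecToEquivOfField K S) σ = xf at h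
  obtain ⟨x, φ⟩ := xf
  have hx : x = σ pt := by
    have h2 : σ pt = x := by
      rw [← h]
      exact S.fromSpecResidueField_apply x _
    exact h2.symm
  subst hx
  exact ⟨Spec.map φ, h⟩

theorem euler_pt (f : Y ⟶ S) [IsProper f] {K : Type u} [Field K] (σ : Spec (CommRingCat.of K) ⟶ S)
    (pt : Spec (CommRingCat.of K)) {Y' : Scheme.{u}} (p : Y' ⟶ Y) (f' : Y' ⟶ Spec (CommRingCat.of K))
    (H : IsPullback p f' f σ) (F : Y.Modules) (hF : Coh.IsQCoh F) :
    @Curv2.euler K _ Y' ⟨f'⟩ ((Scheme.Modules.pullback p).obj F) = PerfAux.eulerChar f F (σ pt) := by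
  obtain ⟨τ, hτ⟩ := exists_factor σ pt
  obtain ⟨φ, rfl⟩ : ∃ φ, τ = Spec.map φ := ⟨_, (Spec.map_preimage τ).symm⟩
  have h1 : IsPullback (f.fiberι (σ pt)) (f.fiberToSpecResidueField (σ pt)) f
    (S.fromSpecResidueField (σ pt)) := IsPullback.of_hasPullback _ _
  let g : Y' ⟶ f.fiber (σ pt) := h1.lift p (f' ≫ Spec.map φ)
    (by rw [Category.assoc, hτ]; exact H.w)
  have hg1 : g ≫ f.fiberι (σ pt) = p := h1.lift_fst _ _ _
  have hg2 : g ≫ f.fiberToSpecResidueField (σ pt) = f' ≫ Spec.map φ := h1.lift_snd _ _ _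
  have hpb : IsPullback g f' (f.fiberToSpecResidueField (σ pt)) (Spec.map φ) := by
    refine IsPullback.of_right (h₁₂ := f.fiberι (σ pt)) (h₂₂ := S.fromSpecResidueField (σ pt))
      (v₁₃ := f) ?_ hg2 h1
    rw [hg1, hτ]
    exact H
  let F' := (Scheme.Modules.pullback (f.fiberι (σ pt))).obj F
  have hF' : Coh.IsQCoh F' := Groth.Agent.VarietyB.PullSec.isQCoh_pullback _ F hF
  let _ : (f.fiber (σ pt)).Over (Spec (CommRingCat.of (S.residueField (σ pt)))) :=
    ⟨f.fiberToSpecResidueField (σ pt)⟩
  let _ : Y'.Over (Spec (CommRingCat.of K)) := ⟨f'⟩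
  let _ : Algebra (S.residueField (σ pt)) K := φ.hom.toAlgebra
  have : IsProper (f.fiber (σ pt) ↘ Spec (CommRingCat.of (S.residueField (σ pt)))) :=
    inferInstanceAs (IsProper (pullback.snd f (S.fromSpecResidueField (σ pt))))
  have e : (Scheme.Modules.pullback p).obj F ≅ (Scheme.Modules.pullback g).obj F' :=
    (Scheme.Modules.pullbackCongr hg1.symm).app F ≪≫
      ((Scheme.Modules.pullbackComp g (f.fiberι (σ pt))).app F).symm
  have h2 := Groth.Agent.CurvesB.VABaseChange.euler_eq (k := S.residueField (σ pt))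
    (X := f.fiber (σ pt)) (K := K) (X' := Y') (p := g) hpb F' hF'
  rw [Groth.Agent.Fga.HodgePush.euler_congr K Y' e, h2]
  rfl

/-- Constancy along specializations. -/
theorem eulerChar_eq_of_specializes (f : Y ⟶ S) [IsProper f] [LocallyOfFinitePresentation f]
    (F : Y.Modules) (hF : CohB1.IsFP F) (hfl : FlatMod.IsFlatOver f F) {s t : S} (h : s ⤳ t) :
    PerfAux.eulerChar f F s = PerfAux.eulerChar f F t := by
  have hc := Groth.Agent.S1026.result f F hF hfl
  have ho : IsOpen ((fun s : S => PerfAux.eulerChar f F s) ⁻¹' {PerfAux.eulerChar f F t}) := hc _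
  exact h.mem_open ho rfl

end K846.ChiPt
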