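import Groth.Agent.CohqB.PullTwist471
import Groth.Agent.Ega3B.CohTensor
import Groth.Agent.Ega3B.FlatTensInv
import Groth.Agent.FormalA.PullbackQC
import Groth.Agent.Fdesc.LocGen
import Groth.Agent.Ega2.TensPow
import Groth.Agent.Desc.FPSections
import Groth.Agent.Sga67.CohBasic
import Groth.Agent.ShStab.K846.ChiPt
import Groth.Prelude.Def_ShStab

/-!
# Twists and Hilbert polynomials: pullbacks, field extensions, families
-/

set_option autoImplicit false
universe u
open CategoryTheory CategoryTheory.Limits AlgebraicGeometry Polynomial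

namespace K846.Twist

/-- Pullback commutes with twisting. -/
theorem nonempty_pull_twist {X Y : Scheme.{u}} (f : X ⟶ Y) (M : Y.Modules) {L : Y.Modules}
    (hL : PicF.IsInvertible L) (n : ℕ) :
    Nonempty ((Scheme.Modules.pullback f).obj (ShStab.twist _ L M n) ≅
      ShStab.twist _ ((Scheme.Modules.pullback f).obj L) ((Scheme.Modules.pullback f).obj M) n) :=
  Groth.Agent.CohqB.PullTwist471.nonempty_pull_twist f M hL n

theorem isCoh_twist {X : Scheme.{u}} {L M : X.Modules} (hL : PicF.IsInvertible L)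
    (hM : Coh.IsCoh M) (n : ℕ) : Coh.IsCoh (ShStab.twist _ L M n) :=
  Groth.Agent.Ega3B.CohTensor.isCoh_tensor hM (Groth.Agent.Fdesc.LocGen.isInvertible_tensorPow hL n)

theorem isFlatOver_twist {X Y : Scheme.{u}} (f : X ⟶ Y) {L M : X.Modules}
    (hL : PicF.IsInvertible L) (hM : FlatMod.IsFlatOver f M) (n : ℕ) :
    FlatMod.IsFlatOver f (ShStab.twist _ L M n) :=
  Groth.Agent.Ega3B.FlatTensInv.isFlatOver_tensor f
    (Groth.Agent.Fdesc.LocGen.isInvertible_tensorPow hL n) hM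

/-- Twisting respects isomorphisms. -/
noncomputable def twistIso {X : Scheme.{u}} {L L' M M' : X.Modules} (a : L ≅ L') (b : M ≅ M') (n : ℕ) :
    ShStab.twist _ L M n ≅ ShStab.twist _ L' M' n :=
  Groth.Agent.Ega2.Tens.mapTIso b (Groth.Agent.Ega2.TensPow.powIso a n)

/-- Hilbert polynomials only depend on the isomorphism classes. -/
theorem isHilbPoly_iso {k : Type u} [Field k] {X : Scheme.{u}} [X.Over (Spec (CommRingCat.of k))]
    {L L' M M' : X.Modules} (a : L ≅ L') (b : M ≅ M') {P : ℚ[X]}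
    (h : ShStab.IsHilbPoly k X L M P) : ShStab.IsHilbPoly k X L' M' P := by
  intro m
  rw [← Groth.Agent.Fga.HodgePush.euler_congr k X (twistIso a b m)]
  exact h m

theorem isHilbPoly_iso_iff {k : Type u} [Field k] {X : Scheme.{u}} [X.Over (Spec (CommRingCat.of k))]
    {L L' M M' : X.Modules} (a : L ≅ L') (b : M ≅ M') {P : ℚ[X]} :
    ShStab.IsHilbPoly k X L M P ↔ ShStab.IsHilbPoly k X L' M' P :=
  ⟨isHilbPoly_iso a b, isHilbPoly_iso a.symm b.symm⟩

theorem isFP_of_isCoh {X : Scheme.{u}} [IsLocallyNoetherian X] {M : X.Modules}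
    (hM : Coh.IsCoh M) : CohB1.IsFP M := by
  rw [Groth.Agent.Desc.FPSections.isFP_iff_sections hM.1]
  intro V hV
  have : IsNoetherianRing Γ(X, V) := IsLocallyNoetherian.component_noetherian ⟨V, hV⟩
  have : Module.Finite Γ(X, V) Γ(M, V) := Groth.Agent.Sga67.CohBasic.finite_sections hM ⟨V, hV⟩
  exact Module.finitePresentation_of_finite _ _

/-- Hilbert polynomials of fibres of a family. -/
theorem isHilbPoly_pt {Y S : Scheme.{u}} (f : Y ⟶ S) [IsProper f] [IsLocallyNoetherian Y]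
    {K : Type u} [Field K] (σ : Spec (CommRingCat.of K) ⟶ S) (pt : Spec (CommRingCat.of K))
    {Y' : Scheme.{u}} [Y'.Over (Spec (CommRingCat.of K))] (p : Y' ⟶ Y)
    (H : IsPullback p (Y' ↘ Spec (CommRingCat.of K)) f σ) {L : Y.Modules} (hL : PicF.IsInvertible L)
    {M : Y.Modules} (hM : Coh.IsCoh M) {P : ℚ[X]} :
    ShStab.IsHilbPoly K Y' ((Scheme.Modules.pullback p).obj L) ((Scheme.Modules.pullback p).obj M) P ↔
      ∀ m : ℕ, (PerfAux.eulerChar f (ShStab.twist _ L M m) (σ pt) : ℚ) = P.eval (m : ℚ) := by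
  unfold ShStab.IsHilbPoly
  refine forall_congr' fun m => ?_
  obtain ⟨e⟩ := nonempty_pull_twist p M hL m
  rw [← ChiPt.euler_pt f σ pt p (Y' ↘ Spec (CommRingCat.of K)) H (ShStab.twist _ L M m)
    (isCoh_twist hL hM m).1, ← Groth.Agent.Fga.HodgePush.euler_congr K Y' e]
  exact Iff.rfl

/-- Hilbert polynomials are constant along specializations in flat families. -/
theorem isHilbPoly_of_specializes {Y S : Scheme.{u}} (f : Y ⟶ S) [IsProper f]
    [LocallyOfFinitePresentation f] [IsLocallyNoetherian Y]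
    {K : Type u} [Field K] (σ : Spec (CommRingCat.of K) ⟶ S) (pt : Spec (CommRingCat.of K))
    {Y' : Scheme.{u}} [Y'.Over (Spec (CommRingCat.of K))] (p : Y' ⟶ Y)
    (H : IsPullback p (Y' ↘ Spec (CommRingCat.of K)) f σ)
    {K₂ : Type u} [Field K₂] (σ₂ : Spec (CommRingCat.of K₂) ⟶ S) (pt₂ : Spec (CommRingCat.of K₂))
    {Y₂ : Scheme.{u}} [Y₂.Over (Spec (CommRingCat.of K₂))] (p₂ : Y₂ ⟶ Y)
    (H₂ : IsPullback p₂ (Y₂ ↘ Spec (CommRingCat.of K₂)) f σ₂) (hs : σ pt ⤳ σ₂ pt₂)
    {L : Y.Modules} (hL : PicF.IsInvertible L)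
    {M : Y.Modules} (hM : Coh.IsCoh M) (hfl : FlatMod.IsFlatOver f M) {P : ℚ[X]} :
    ShStab.IsHilbPoly K Y' ((Scheme.Modules.pullback p).obj L) ((Scheme.Modules.pullback p).obj M) P ↔
    ShStab.IsHilbPoly K₂ Y₂ ((Scheme.Modules.pullback p₂).obj L)
      ((Scheme.Modules.pullback p₂).obj M) P := by
  rw [isHilbPoly_pt f σ pt p H hL hM, isHilbPoly_pt f σ₂ pt₂ p₂ H₂ hL hM]
  refine forall_congr' fun m => ?_
  rw [ChiPt.eulerChar_eq_of_specializes f (ShStab.twist _ L M m) (isFP_of_isCoh (isCoh_twist hL hM m))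
    (isFlatOver_twist f hL hfl m) hs]

end K846.Twist
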