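import Groth.Agent.ShStab.K846.Facts
import Groth.Agent.ShStab.K846.Twist
import Groth.Agent.VBCurve.K707.Semi
import Groth.Agent.VBCurve.K707.TensL
import Groth.Agent.S1530

/-!
# Gieseker semistability and slope-semistability of vector bundles on curves

`isHilbPoly`: the Hilbert polynomial of a coherent module `M` on a regular proper curve is
`rk M deg L X + deg M + rk M χ(O)`; `isSemistable_iff`: a vector bundle of positive rank is semistable of dimension one
if and only if it is slope-semistable.
-/

set_option autoImplicit false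
set_option linter.unusedSectionVars false
universe u
open CategoryTheory CategoryTheory.Limits AlgebraicGeometry Polynomial

namespace K846.CurveSS

open K707.Base K707.Deg K707.Slope K707.Semi K707.TensL Groth.Agent.VarietyA.DegRank StabCat

section General

variable (k : Type u) [Field k] {X : Scheme.{u}} [X.Over (Spec (CommRingCat.of k))] [IsIntegral X]

omit [IsIntegral X] in
theorem isFinLocFreeOfRank_structure : FlatMod.IsFinLocFreeOfRank 1 (Coh.structureModule X) :=
  rank_one_iff.mpr Groth.Agent.Fdesc.LocGen.isInvertible_structureModule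

theorem dg_structure : dg k (Coh.structureModule X) = 0 := by
  rw [dg, rk_of_rank isFinLocFreeOfRank_structure]
  simp

variable [IsProper (X ↘ (Spec (CommRingCat.of k)))]

theorem rk_pow {L : X.Modules} (hL : PicF.IsInvertible L) (m : ℕ) : rk (CohB1.tensorPow L m) = 1 :=
  rk_of_rank (rank_one_iff.mpr (Groth.Agent.Fdesc.LocGen.isInvertible_tensorPow hL m))

theorem dg_pow (hdim : topologicalKrullDim X = 1) {L : X.Modules} (hL : PicF.IsInvertible L) (m : ℕ) :
    dg k (CohB1.tensorPow L m) = m * dg k L := by
  induction m with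
  | zero =>
    rw [show CohB1.tensorPow L 0 = Coh.structureModule X from rfl, dg_structure]
    simp
  | succ m ih =>
    have h1 := rank_one_iff.mpr (Groth.Agent.Fdesc.LocGen.isInvertible_tensorPow hL m)
    change dg k (CohB1.tensorMod (CohB1.tensorPow L m) L) = _
    rw [dg_tensor k hdim (rank_one_iff.mpr hL) (isCoh_of_rank h1), ih, rk_pow hL]
    push_cast
    ring

/-- The Hilbert polynomial on a curve. -/
noncomputable def hpol (L M : X.Modules) : ℚ[X] :=
  Polynomial.C ((rk M : ℚ) * dg k L) * Polynomial.X +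
    Polynomial.C ((dg k M : ℚ) + rk M * Curv2.euler k X (Coh.structureModule X))

theorem eval_hpol (L M : X.Modules) (x : ℚ) : (hpol k L M).eval x =
    (rk M : ℚ) * dg k L * x + ((dg k M : ℚ) + rk M * Curv2.euler k X (Coh.structureModule X)) := by
  unfold hpol
  simp only [eval_add, eval_mul, eval_C, eval_X]

theorem isHilbPoly (hdim : topologicalKrullDim X = 1) {L M : X.Modules} (hL : PicF.IsInvertible L)
    (hM : Coh.IsCoh M) : ShStab.IsHilbPoly k X L M (hpol k L M) := by
  intro m
  have h1 := rank_one_iff.mpr (Groth.Agent.Fdesc.LocGen.isInvertible_tensorPow hL m)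
  have h2 := dg_tensor k hdim h1 hM
  rw [dg_pow k hdim hL] at h2
  have h3 := rk_tensor h1 hM
  have h4 := euler_eq_dg k (CohB1.tensorMod M (CohB1.tensorPow L m))
  rw [h2, h3] at h4
  unfold ShStab.twist
  rw [h4, eval_hpol]
  push_cast
  ring

theorem coeff_one (L M : X.Modules) : (hpol k L M).coeff 1 = (rk M : ℚ) * dg k L := by
  unfold hpol
  rw [coeff_add, coeff_C_mul, coeff_X_one, coeff_C_of_ne_zero one_ne_zero, mul_one, add_zero]

theorem alpha_hpol (L M : X.Modules) : alpha 1 (hpol k L M) = (rk M : ℚ) * dg k L := by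
  unfold alpha
  rw [coeff_one]
  simp

theorem natDegree_hpol (L M : X.Modules) : (hpol k L M).natDegree ≤ 1 := by
  unfold hpol
  exact natDegree_linear_le

theorem dg_pos (hdim : topologicalKrullDim X = 1) {L : X.Modules} (hL : CohB1.IsAmple L) : 0 < dg k L := by
  rw [dg_of_rank k (rank_one_iff.mpr hL.1)]
  exact (Groth.Agent.S1530.result k X hdim L hL.1).1 hL

end General

variable {k : Type u} [Field k] {X : Scheme.{u}} [X.Over (Spec (CommRingCat.of k))] [IsIntegral X]
  [IsProper (X ↘ (Spec (CommRingCat.of k)))] (C : Crv k X)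

include C

theorem dim_support {M : X.Modules} (hM : FlatMod.IsFinLocFree M) (h0 : ¬ IsZero M) :
    topologicalKrullDim (CohB1.support M) = ((1 : ℕ) : WithBot ℕ∞) := by
  have h1 : CohB1.support M = Set.univ := by
    rw [Set.eq_univ_iff_forall]
    intro x hx
    have h2 := isFinLocFreeOfRank_rk hM
    have h3 : rk M ≠ 0 := fun h => h0 (isZero_of_rk_eq_zero C hM h)
    have h4 : 0 < Module.finrank (X.presheaf.stalk x) (M.presheaf.stalk x) := by
      rw [finrank_stalk h2 x]
      exact Nat.pos_of_ne_zero h3
    have h5 : Subsingleton (M.presheaf.stalk x) := hx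
    rw [Module.finrank_zero_of_subsingleton] at h4
    exact lt_irrefl _ h4
  rw [h1]
  have h2 : topologicalKrullDim (Set.univ : Set X) = topologicalKrullDim X :=
    IsHomeomorph.topologicalKrullDim_eq _ (Homeomorph.Set.univ X).isHomeomorph
  rw [h2, C.dim]
  rfl

theorem isPure {M : X.Modules} (hM : FlatMod.IsFinLocFree M) : ShStab.IsPure X M 1 := by
  intro F ι hι hF h0
  exact dim_support C (vb_of_mono C ι hF hM) h0

theorem redLE_iff {L M N : X.Modules} (hL : CohB1.IsAmple L) :
    RedLE 1 (hpol k L M) (hpol k L N) ↔ dg k M * rk N ≤ dg k N * rk M := by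
  have he : (0 : ℚ) < dg k L := by exact_mod_cast dg_pos k C.dim hL
  have key : ∀ m : ℕ, ((alpha 1 (hpol k L N) • hpol k L M).eval (m : ℚ) ≤
      (alpha 1 (hpol k L M) • hpol k L N).eval (m : ℚ)) ↔ dg k M * rk N ≤ dg k N * rk M := by
    intro m
    rw [alpha_hpol, alpha_hpol, eval_smul, eval_smul, eval_hpol, eval_hpol, smul_eq_mul, smul_eq_mul]
    rw [← sub_nonneg]
    have e : (rk M : ℚ) * dg k L * ((rk N : ℚ) * dg k L * m + ((dg k N : ℚ) + rk N *
        Curv2.euler k X (Coh.structureModule X))) - (rk N : ℚ) * dg k L * ((rk M : ℚ) * dg k L * m +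
        ((dg k M : ℚ) + rk M * Curv2.euler k X (Coh.structureModule X))) =
        dg k L * ((dg k N * rk M : ℤ) - (dg k M * rk N : ℤ)) := by
      push_cast
      ring
    rw [e, mul_nonneg_iff_of_pos_left he, sub_nonneg]
    exact_mod_cast Iff.rfl
  constructor
  · rintro ⟨N₀, h⟩
    exact (key N₀).1 (h N₀ le_rfl)
  · intro h
    exact ⟨0, fun m _ => (key m).2 h⟩

/-- Gieseker semistability is slope-semistability. -/
theorem isSemistable_iff {L E : X.Modules} (hL : CohB1.IsAmple L) {r : ℕ} (hr : 0 < r)
    (hE : FlatMod.IsFinLocFreeOfRank r E) :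
    ShStab.IsSemistable k X L E 1 ↔ ModFun.IsSlopeSemistable k X E r := by
  rw [← ss_iff C hE]
  have hEc := isCoh_of_rank hE
  constructor
  · rintro ⟨-, -, -, h⟩ F i hi hF
    have hFc := coh_of_vb hF
    by_cases h0 : IsZero F
    · rw [rk_of_isZero h0, dg_of_isZero h0]
      simp
    by_cases hiso : IsIso i
    · rw [dg_iso k (asIso i), rk_iso (asIso i)]
    · exact (redLE_iff C hL).1 (h F i hi hFc h0 hiso _ _ (isHilbPoly k C.dim hL.1 hFc)
        (isHilbPoly k C.dim hL.1 hEc))
  · intro h
    refine ⟨hEc, fun h0 => ?_, isPure C (isFinLocFree_of_rank hE), fun F i hi hF h0 _ pF pE hpF hpE => ?_⟩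
    · have := rk_of_isZero h0
      rw [rk_of_rank hE] at this
      omega
    · rw [Gies.unique hpF (isHilbPoly k C.dim hL.1 hF), Gies.unique hpE (isHilbPoly k C.dim hL.1 hEc),
        redLE_iff C hL]
      exact h F i hi (vb_of_mono C i hF (isFinLocFree_of_rank hE))

end K846.CurveSS
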