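import Groth.Agent.ShStab.K846.RelAmp

/-!
# Base change of an ample module over an affine base is relatively ample
-/

set_option autoImplicit false
universe u
open CategoryTheory CategoryTheory.Limits AlgebraicGeometry

namespace K846.RelAmp

open Groth.Agent

/-- The base change of an ample module along `q : S ⟶ T`, `T` affine, is relatively ample. -/
theorem isRelAmple_pullback {X T S : Scheme.{u}} [IsAffine T] (a : X ⟶ T) [QuasiCompact a] (q : S ⟶ T)
    {L : X.Modules} (hL : CohB1.IsAmple L) :
    RelAmple.IsRelAmple (pullback.snd a q) ((Scheme.Modules.pullback (pullback.fst a q)).obj L) := by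
  refine ⟨inferInstance, fun V => ?_⟩
  have : IsAffine (V.1 : Scheme.{u}) := V.2
  have H := (isPullback_morphismRestrict (pullback.snd a q) V.1).flip.paste_horiz
    (IsPullback.of_hasPullback a q)
  have : IsAffineHom (V.1.ι ≫ q) := inferInstance
  have : IsAffineHom ((pullback.snd a q ⁻¹ᵁ V.1).ι ≫ pullback.fst a q) :=
    MorphismProperty.of_isPullback H.flip this
  have h2 := Ascent.isAmple_pullback ((pullback.snd a q ⁻¹ᵁ V.1).ι ≫ pullback.fst a q) hL
  refine Flat2H.FamDict.isAmple_of_iso ?_ h2
  exact ((Scheme.Modules.pullbackComp _ _).app L).symm ≪≫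
    ((Scheme.Modules.restrictFunctorIsoPullback (pullback.snd a q ⁻¹ᵁ V.1).ι).app _).symm

end K846.RelAmp
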