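import Groth.Agent.ShStab.K846.SSPt
import Groth.Agent.ShStab.K846.CurveSS
import Groth.Agent.ShStab.K846.RelAmpBC
import Groth.Agent.BunMod.K140.Defs2
import Groth.Agent.EssDim.K995.GenusField
import Groth.Agent.JacVar.K533.CurveBasic
import Groth.Agent.PerfB.StructFlat
import Groth.Agent.PerfB.FibreConc
import Groth.Agent.S1551
import Groth.Agent.S1026

/-!
# Openness of slope-semistability for families of vector bundles on a curve

`exists_open`: the geometric points over which a family of vector bundles of rank `r` on a smooth proper curve is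
semistable of degree zero form an open set.
-/

set_option autoImplicit false
set_option linter.unusedSectionVars false
universe u
open CategoryTheory CategoryTheory.Limits AlgebraicGeometry StabCat

namespace K846.SSOpen

open Groth.Agent K140.BM FieldPt OpenMain OpenFib

/-- Common level sets of locally constant functions on a Noetherian space are open. -/
theorem isOpen_const {S : Type*} [TopologicalSpace S] [TopologicalSpace.NoetherianSpace S] {ι α : Type*}
    (e : ι → S → α) (he : ∀ i, IsLocallyConstant (e i)) (s : S) : IsOpen {s' | ∀ i, e i s' = e i s} := by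
  have hfin := TopologicalSpace.NoetherianSpace.finite_irreducibleComponents (α := S)
  have hc : {s' | ∀ i, e i s' = e i s}ᶜ =
      ⋃₀ {Z | Z ∈ irreducibleComponents S ∧ Disjoint Z {s' | ∀ i, e i s' = e i s}} := by
    ext x
    constructor
    · intro hx
      refine ⟨irreducibleComponent x, ⟨irreducibleComponent_mem_irreducibleComponents x, ?_⟩,
        mem_irreducibleComponent⟩
      rw [Set.disjoint_left]
      intro z hz hz'
      refine hx fun i => ?_
      rw [← hz' i]
      exact (he i).apply_eq_of_isPreconnected isIrreducible_irreducibleComponent.isPreirreducible.isPreconnected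
        mem_irreducibleComponent hz
    · rintro ⟨Z, ⟨-, hZ⟩, hx⟩ hx'
      exact Set.disjoint_left.1 hZ hx hx'
  rw [← isClosed_compl_iff, hc, Set.sUnion_eq_biUnion]
  exact Set.Finite.isClosed_biUnion (hfin.subset fun Z hZ => hZ.1) fun Z hZ =>
    isClosed_of_mem_irreducibleComponents Z hZ.1

/-- Finite locally free modules are flat over the base of a flat morphism. -/
theorem isFlatOver_of_rank {X S : Scheme.{u}} (f : X ⟶ S) [Flat f] {n : ℕ} {M : X.Modules}
    (hM : FlatMod.IsFinLocFreeOfRank n M) : FlatMod.IsFlatOver f M := by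
  intro x
  obtain ⟨b⟩ := K707.Base.exists_basis hM x
  let a0 : Algebra (S.presheaf.stalk (f x)) (X.presheaf.stalk x) := (f.stalkMap x).hom.toAlgebra
  let a1 := FlatMod.moduleStalkOver f M x
  have h1 : Module.Flat (S.presheaf.stalk (f x)) (X.presheaf.stalk x) := Flat.stalkMap f x
  have h2 : IsScalarTower (S.presheaf.stalk (f x)) (X.presheaf.stalk x) (M.presheaf.stalk x) :=
    IsScalarTower.of_algebraMap_smul fun r m => rfl
  have h4 : Module.Free (X.presheaf.stalk x) (M.presheaf.stalk x) := Module.Free.of_basis b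
  have h3 : Module.Flat (X.presheaf.stalk x) (M.presheaf.stalk x) := inferInstance
  exact Module.Flat.trans (S.presheaf.stalk (f x)) (X.presheaf.stalk x) (M.presheaf.stalk x)

section

variable {k : Type u} [Field k] (X : Scheme.{u}) [X.Over (Spec (CommRingCat.of k))]
  [IsProper (X ↘ Spec (CommRingCat.of k))] [Smooth (X ↘ Spec (CommRingCat.of k))]
  [GeometricallyConnected (X ↘ Spec (CommRingCat.of k))]

omit [IsProper (X ↘ Spec (CommRingCat.of k))] [Smooth (X ↘ Spec (CommRingCat.of k))]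
  [GeometricallyConnected (X ↘ Spec (CommRingCat.of k))] in
/-- The square over a field-valued point. -/
theorem isPullback_XTmap {T : Over (B0 k)} {Ω : Type u} [Field Ω] (t : Spec (CommRingCat.of Ω) ⟶ T.left) :
    IsPullback (PicF.XTmap (st k X) (Over.homMk t rfl : Over.mk (t ≫ T.hom) ⟶ T))
    (PicF.XTproj (st k X) (Over.mk (t ≫ T.hom))) (PicF.XTproj (st k X) T) t := by
  have h1 : PicF.XTmap (st k X) (Over.homMk t rfl : Over.mk (t ≫ T.hom) ⟶ T) ≫ pullback.fst _ _ =
      pullback.fst _ _ := by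
    refine (pullback.lift_fst _ _ _).trans ?_
    rw [Category.comp_id]
  have h2 : PicF.XTmap (st k X) (Over.homMk t rfl : Over.mk (t ≫ T.hom) ⟶ T) ≫ PicF.XTproj (st k X) T =
      PicF.XTproj (st k X) (Over.mk (t ≫ T.hom)) ≫ t :=
    pullback.lift_snd _ _ _
  refine IsPullback.of_right ?_ h2 (IsPullback.of_hasPullback (st k X) T.hom)
  rw [h1]
  exact IsPullback.of_hasPullback (st k X) (t ≫ T.hom)

/-- The base change of the curve to a field. -/
theorem crv (hdim : topologicalKrullDim X = 1) {Ω : Type u} [Field Ω] (s : Spec (CommRingCat.of Ω) ⟶ B0 k) :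
    letI : (PicF.XT (st k X) (Over.mk s)).Over (Spec (CommRingCat.of Ω)) := ⟨PicF.XTproj (st k X) (Over.mk s)⟩
    IsIntegral (PicF.XT (st k X) (Over.mk s)) ∧
      IsProper (PicF.XT (st k X) (Over.mk s) ↘ Spec (CommRingCat.of Ω)) ∧
      (∀ [IsIntegral (PicF.XT (st k X) (Over.mk s))], K707.Base.Crv Ω (PicF.XT (st k X) (Over.mk s))) := by
  let : (PicF.XT (st k X) (Over.mk s)).Over (Spec (CommRingCat.of Ω)) := ⟨PicF.XTproj (st k X) (Over.mk s)⟩
  have H : IsPullback (pullback.fst (st k X) (Over.mk s).hom) (PicF.XTproj (st k X) (Over.mk s)) (st k X) s :=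
    IsPullback.of_hasPullback (st k X) s
  have h1 : IsProper (PicF.XTproj (st k X) (Over.mk s)) := MorphismProperty.of_isPullback H ‹_›
  have h2 : Smooth (PicF.XTproj (st k X) (Over.mk s)) := MorphismProperty.of_isPullback H ‹_›
  have h3 : GeometricallyConnected (PicF.XTproj (st k X) (Over.mk s)) := MorphismProperty.of_isPullback H ‹_›
  have h4 : IsIntegral (PicF.XT (st k X) (Over.mk s)) :=
    K533.CurveBasic.isIntegral (k := Ω) (PicF.XTproj (st k X) (Over.mk s))
  have h5 : Smooth (PicF.XT (st k X) (Over.mk s) ↘ Spec (CommRingCat.of Ω)) := h2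
  refine ⟨h4, h1, ?_⟩
  intro _
  refine K707.Base.Crv.of_smooth ?_
  rw [K995.GenusField.dim_eq_of_isPullback (k := k) (k' := Ω) H]
  exact hdim

/-- Two fields and the two Euler characteristics. -/
theorem deg_eq {T : Over (B0 k)} [IsLocallyNoetherian T.left] {F : (PicF.XT (st k X) T).Modules} {r : ℕ}
    (hF : FlatMod.IsFinLocFreeOfRank r F) {Ω : Type u} [Field Ω] (t : Spec (CommRingCat.of Ω) ⟶ T.left)
    (pt : Spec (CommRingCat.of Ω)) :
    letI : (PicF.XT (st k X) (Over.mk (t ≫ T.hom))).Over (Spec (CommRingCat.of Ω)) :=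
      ⟨PicF.XTproj (st k X) (Over.mk (t ≫ T.hom))⟩
    Curv2.deg Ω (PicF.XT (st k X) (Over.mk (t ≫ T.hom))) (pl k X (Over.homMk t rfl) F) r =
      PerfAux.eulerChar (PicF.XTproj (st k X) T) F (t pt) -
        r * PerfAux.eulerChar (PicF.XTproj (st k X) T) (Coh.structureModule _) (t pt) := by
  let : (PicF.XT (st k X) (Over.mk (t ≫ T.hom))).Over (Spec (CommRingCat.of Ω)) :=
      ⟨PicF.XTproj (st k X) (Over.mk (t ≫ T.hom))⟩
  have H : IsPullback (PicF.XTmap (st k X) (Over.homMk t rfl : Over.mk (t ≫ T.hom) ⟶ T))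
    (PicF.XTproj (st k X) (Over.mk (t ≫ T.hom))) (PicF.XTproj (st k X) T) t := isPullback_XTmap X t
  have h1 := ChiPt.euler_pt (PicF.XTproj (st k X) T) t pt _ _ H F (K707.Base.isCoh_of_rank hF).1
  have h2 := ChiPt.euler_pt (PicF.XTproj (st k X) T) t pt _ _ H (Coh.structureModule _)
    (K707.Base.isCoh_of_rank CurveSS.isFinLocFreeOfRank_structure).1
  rw [← h1, ← h2, K847.HilbBasic.euler_congr Ω (FormalA.PullbackQC.pullbackUnitIso _)]
  rfl

variable {X}

/-- The rank is preserved. -/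
theorem rank_pl {T T' : Over (B0 k)} {F : (PicF.XT (st k X) T).Modules} {r : ℕ}
    (hF : FlatMod.IsFinLocFreeOfRank r F) (g : T' ⟶ T) : FlatMod.IsFinLocFreeOfRank r (pl k X g F) :=
  PerfB.FibreConc.isFinLocFreeOfRank_pullback _ hF

/-- Semistability of the fibre at a field-valued point is Gieseker semistability. -/
theorem ssb_iff (hdim : topologicalKrullDim X = 1) {T : Over (B0 k)} {F : (PicF.XT (st k X) T).Modules} {r : ℕ}
    (hr : 1 ≤ r) (hF : FlatMod.IsFinLocFreeOfRank r F) {L₀ : X.Modules} (hL₀ : CohB1.IsAmple L₀) {Ω : Type u}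
    [Field Ω] (t : Spec (CommRingCat.of Ω) ⟶ T.left) :
    letI : (PicF.XT (st k X) (Over.mk (t ≫ T.hom))).Over (Spec (CommRingCat.of Ω)) :=
      ⟨PicF.XTproj (st k X) (Over.mk (t ≫ T.hom))⟩
    SSB r (t ≫ T.hom) (pl k X (Over.homMk t rfl) F) ↔
      Curv2.deg Ω (PicF.XT (st k X) (Over.mk (t ≫ T.hom))) (pl k X (Over.homMk t rfl) F) r = 0 ∧
        ShStab.IsSemistable Ω (PicF.XT (st k X) (Over.mk (t ≫ T.hom)))
          ((Scheme.Modules.pullback (PicF.XTmap (st k X) (Over.homMk t rfl : Over.mk (t ≫ T.hom) ⟶ T))).obj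
            ((Scheme.Modules.pullback (pullback.fst (st k X) T.hom)).obj L₀))
          ((Scheme.Modules.pullback (PicF.XTmap (st k X) (Over.homMk t rfl : Over.mk (t ≫ T.hom) ⟶ T))).obj F) 1 := by
  let : (PicF.XT (st k X) (Over.mk (t ≫ T.hom))).Over (Spec (CommRingCat.of Ω)) :=
      ⟨PicF.XTproj (st k X) (Over.mk (t ≫ T.hom))⟩
  obtain ⟨h1, h2, h3⟩ := crv X hdim (t ≫ T.hom)
  have C := h3
  have hL : CohB1.IsAmple ((Scheme.Modules.pullback (PicF.XTmap (st k X)
      (Over.homMk t rfl : Over.mk (t ≫ T.hom) ⟶ T))).obj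
        ((Scheme.Modules.pullback (pullback.fst (st k X) T.hom)).obj L₀)) :=
    RelAmp.fAmple (RelAmp.isRelAmple_pullback (st k X) T.hom hL₀) Ω t _ _ _ (isPullback_XTmap X t)
  have hFr := rank_pl hF (Over.homMk t rfl : Over.mk (t ≫ T.hom) ⟶ T)
  rw [CurveSS.isSemistable_iff C hL hr hFr]
  constructor
  · rintro ⟨-, h4, h5⟩
    exact ⟨h4, h5⟩
  · rintro ⟨h4, h5⟩
    exact ⟨hFr, h4, h5⟩

variable (k X)

/-- **Openness of slope-semistability** for families of vector bundles of degree zero on a curve. -/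
theorem exists_open (hdim : topologicalKrullDim X = 1) {r : ℕ} (hr : 1 ≤ r) (T : Over (B0 k))
    [IsNoetherian T.left] (F : (PicF.XT (st k X) T).Modules) (hF : FlatMod.IsFinLocFreeOfRank r F)
    (Ω : Type u) [Field Ω] (t : Spec (CommRingCat.of Ω) ⟶ T.left)
    (hss : SSB r (t ≫ T.hom) (pl k X (Over.homMk t rfl) F)) :
    ∃ U : T.left.Opens, Set.range t ⊆ U ∧
      ∀ (Ω₁ : Type u) [Field Ω₁] (t₁ : Spec (CommRingCat.of Ω₁) ⟶ T.left), Set.range t₁ ⊆ U →
        SSB r (t₁ ≫ T.hom) (pl k X (Over.homMk t₁ rfl) F) := by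
  have hk : IsProper (st k X) := ‹IsProper (X ↘ Spec (CommRingCat.of k))›
  have hsm : Smooth (st k X) := ‹Smooth (X ↘ Spec (CommRingCat.of k))›
  have : IsNoetherian X := Ascent.isNoetherian_of_proper k X
  have : X.IsSeparated := by
    have h1 : IsSeparated (terminal.from X) := by
      rw [← terminal.comp_from (st k X)]
      infer_instance
    exact ⟨h1⟩
  obtain ⟨L₀, hL₀⟩ := S1551.result X hdim
  let f := PicF.XTproj (st k X) T
  let L := (Scheme.Modules.pullback (pullback.fst (st k X) T.hom)).obj L₀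
  have hL : RelAmple.IsRelAmple f L := RelAmp.isRelAmple_pullback (st k X) T.hom hL₀
  have hLi := RelAmp.isInvertible hL
  have hFc := K707.Base.isCoh_of_rank hF
  have hnX : IsLocallyNoetherian (PicF.XT (st k X) T) := LocallyOfFiniteType.isLocallyNoetherian f
  have hflF : FlatMod.IsFlatOver f F := isFlatOver_of_rank f hF
  have hflO : FlatMod.IsFlatOver f (Coh.structureModule (PicF.XT (st k X) T)) :=
    isFlatOver_of_rank f CurveSS.isFinLocFreeOfRank_structure
  have hOc : Coh.IsCoh (Coh.structureModule (PicF.XT (st k X) T)) :=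
    K707.Base.isCoh_of_rank CurveSS.isFinLocFreeOfRank_structure
  let e : Option (Option ℕ) → T.left → ℤ := fun o s => match o with
    | none => PerfAux.eulerChar f (Coh.structureModule (PicF.XT (st k X) T)) s
    | some none => PerfAux.eulerChar f F s
    | some (some m) => PerfAux.eulerChar f (ShStab.twist _ L F m) s
  have he : ∀ i, IsLocallyConstant (e i) := by
    rintro (_ | _ | m)
    · exact S1026.result f _ (Twist.isFP_of_isCoh hOc) hflO
    · exact S1026.result f _ (Twist.isFP_of_isCoh hFc) hflF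
    · exact S1026.result f _ (Twist.isFP_of_isCoh (Twist.isCoh_twist hLi hFc m)) (Twist.isFlatOver_twist f hLi hflF m)
  let pt : Spec (CommRingCat.of Ω) := IsLocalRing.closedPoint Ω
  let U₀ : T.left.Opens := ⟨{s' | ∀ i, e i s' = e i (t pt)}, isOpen_const e he (t pt)⟩
  let : (PicF.XT (st k X) (Over.mk (t ≫ T.hom))).Over (Spec (CommRingCat.of Ω)) :=
      ⟨PicF.XTproj (st k X) (Over.mk (t ≫ T.hom))⟩
  have H := isPullback_XTmap X t
  obtain ⟨g1, g2, g3⟩ := crv X hdim (t ≫ T.hom)
  have C := g3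
  have hLY := RelAmp.fAmple hL Ω t _ _ _ H
  have hFY := rank_pl hF (Over.homMk t rfl : Over.mk (t ≫ T.hom) ⟶ T)
  obtain ⟨P, hPY, hd, h0⟩ : ∃ P : Polynomial ℚ, ShStab.IsHilbPoly Ω (PicF.XT (st k X) (Over.mk (t ≫ T.hom)))
      ((Scheme.Modules.pullback (PicF.XTmap (st k X) (Over.homMk t rfl : Over.mk (t ≫ T.hom) ⟶ T))).obj L)
      ((Scheme.Modules.pullback (PicF.XTmap (st k X) (Over.homMk t rfl : Over.mk (t ≫ T.hom) ⟶ T))).obj F) P ∧
      P.natDegree ≤ 1 ∧ 0 < alpha 1 P := by
    refine ⟨_, CurveSS.isHilbPoly Ω C.dim hLY.1 (K707.Base.isCoh_of_rank hFY), CurveSS.natDegree_hpol Ω _ _, ?_⟩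
    rw [CurveSS.alpha_hpol, K707.Base.rk_of_rank hFY]
    have h1 := CurveSS.dg_pos Ω C.dim hLY
    have h2 : (0 : ℚ) < r := by exact_mod_cast hr
    have h3 : (0 : ℚ) < K707.Deg.dg Ω ((Scheme.Modules.pullback (PicF.XTmap (st k X)
      (Over.homMk t rfl : Over.mk (t ≫ T.hom) ⟶ T))).obj L) := by exact_mod_cast h1
    exact mul_pos h2 h3
  have hchi := (Twist.isHilbPoly_pt f t pt _ H hLi hFc).1 hPY
  have hP : ∀ s' ∈ U₀, @ShStab.IsHilbPoly (T.left.residueField s') _ (f.fiber s')
      (fibOver f s') (CohIII.fiberMod f L s') (CohIII.fiberMod f F s') P := by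
    intro s' hs'
    let := fibOver f s'
    refine (Twist.isHilbPoly_pt (K := T.left.residueField s') f (T.left.fromSpecResidueField s')
      (IsLocalRing.closedPoint (T.left.residueField s')) (f.fiberι s') (isPullback_fiber f s') hLi hFc).2 fun m => ?_
    have h1 : T.left.fromSpecResidueField s' (IsLocalRing.closedPoint (T.left.residueField s')) = s' :=
      Scheme.fromSpecResidueField_apply s' _
    rw [h1, ← hchi m]
    exact_mod_cast hs' (some (some m))
  have hamp := RelAmp.fAmple hL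
  have hop := OpenPt.isOpen_semistable f hL hFc U₀ hP hd h0
  refine ⟨⟨_, hop⟩, ?_, ?_⟩
  · rintro _ ⟨x, rfl⟩
    rw [eq_closedPoint x pt]
    have h1 : t pt ∈ U₀ := fun i => rfl
    exact ⟨h1, (SSPt.isSemistable_pt_iff f hLi hamp hFc (t pt) (hP _ h1) hd h0 t pt rfl _ H).1
      ((ssb_iff hdim hr hF hL₀ t).1 hss).2⟩
  · intro Ω₁ _ t₁ ht₁
    let pt₁ : Spec (CommRingCat.of Ω₁) := IsLocalRing.closedPoint Ω₁
    let : (PicF.XT (st k X) (Over.mk (t₁ ≫ T.hom))).Over (Spec (CommRingCat.of Ω₁)) :=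
      ⟨PicF.XTproj (st k X) (Over.mk (t₁ ≫ T.hom))⟩
    obtain ⟨h1, h2⟩ := ht₁ ⟨pt₁, rfl⟩
    refine (ssb_iff hdim hr hF hL₀ t₁).2 ⟨?_, (SSPt.isSemistable_pt_iff f hLi hamp hFc (t₁ pt₁) (hP _ h1) hd h0 t₁
      pt₁ rfl _ (isPullback_XTmap X t₁)).2 h2⟩
    have h3 := ((ssb_iff hdim hr hF hL₀ t).1 hss).1
    rw [deg_eq X hF t pt] at h3
    rw [deg_eq X hF t₁ pt₁]
    have h4 := h1 none
    have h5 := h1 (some none)
    change PerfAux.eulerChar f (Coh.structureModule (PicF.XT (st k X) T)) (t₁ pt₁) = _ at h4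
    change PerfAux.eulerChar f F (t₁ pt₁) = _ at h5
    rw [h4, h5]
    exact h3

end

end K846.SSOpen
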