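import Groth.Agent.Sga67.CohBasic
import Groth.Agent.FormalB.ModPowAff2
import Mathlib.CategoryTheory.Subobject.Lattice
import Mathlib.Order.WellFounded

/-!
# The ascending chain condition for coherent submodules of a coherent module
-/

set_option autoImplicit false

universe u

open CategoryTheory CategoryTheory.Limits AlgebraicGeometry TopologicalSpace

namespace K846.Acc

variable {X : Scheme.{u}}

/-- The map on sections as a linear map. -/
noncomputable def appLin {M N : X.Modules} (φ : M ⟶ N) (U : X.Opens) :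
    Γ(M, U) →ₗ[Γ(X, U)] Γ(N, U) where
  toFun := φ.app U
  map_add' := map_add _
  map_smul' := φ.app_smul

/-- The sections of a subobject. -/
noncomputable def sec {E : X.Modules} (U : X.Opens) (F : Subobject E) :
    Submodule Γ(X, U) Γ(E, U) :=
  LinearMap.range (appLin F.arrow U)

theorem sec_mono {E : X.Modules} (U : X.Opens) {F G : Subobject E} (h : F ≤ G) :
    sec U F ≤ sec U G := by
  rintro _ ⟨x, rfl⟩
  refine ⟨(Subobject.ofLE F G h).app U x, ?_⟩
  change G.arrow.app U ((Subobject.ofLE F G h).app U x) = F.arrow.app U x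
  rw [← Subobject.ofLE_arrow h]
  rfl

theorem app_injective {M N : X.Modules} (f : M ⟶ N) [Mono f] (U : X.Opens) :
    Function.Injective (f.app U) := by
  have h1 : Mono ((Scheme.Modules.toPresheaf X).map f) := inferInstance
  have h2 : Mono (((Scheme.Modules.toPresheaf X).map f).app (Opposite.op U)) := inferInstance
  exact (AddCommGrpCat.mono_iff_injective _).mp h2

/-- A coherent subobject is determined by its sections on an affine cover. -/
theorem eq_of_sec_eq {E : X.Modules} {F G : Subobject E} (hFG : F ≤ G)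
    (hG : Coh.IsQCoh (G : X.Modules))
    (h : ∀ x : X, ∃ V : X.Opens, x ∈ V ∧ IsAffineOpen V ∧ sec V F = sec V G) : F = G := by
  have hepi : Epi (Subobject.ofLE F G hFG) := by
    refine Groth.Agent.FormalB.ModPowAff2.epi_of_affine_cover hG _ fun x => ?_
    obtain ⟨V, hx, hV, he⟩ := h x
    refine ⟨V, hx, hV, fun y => ?_⟩
    have hy : G.arrow.app V y ∈ sec V F := by rw [he]; exact ⟨y, rfl⟩
    obtain ⟨z, hz⟩ := hy
    refine ⟨z, ?_⟩
    apply app_injective G.arrow V
    change (Subobject.ofLE F G hFG ≫ G.arrow).app V z = _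
    rw [Subobject.ofLE_arrow]
    exact hz
  have := isIso_of_mono_of_epi (Subobject.ofLE F G hFG)
  refine le_antisymm hFG ?_
  refine Subobject.le_of_comm (inv (Subobject.ofLE F G hFG)) ?_
  rw [IsIso.inv_comp_eq, Subobject.ofLE_arrow]

theorem exists_finite_affine_cover (X : Scheme.{u}) [CompactSpace X] :
    ∃ s : Set X.affineOpens, s.Finite ∧ ∀ x : X, ∃ i ∈ s, x ∈ (i : X.Opens) := by
  have h : ∀ x : X, ∃ i : X.affineOpens, x ∈ (i : X.Opens) := fun x => by
    have hx : x ∈ (⨆ i : X.affineOpens, (i : X.Opens)) := by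
      rw [iSup_affineOpens_eq_top]; trivial
    simpa only [Opens.mem_iSup] using hx
  obtain ⟨t, ht⟩ := isCompact_univ.elim_finite_subcover
    (fun i : X.affineOpens => ((i : X.Opens) : Set X)) (fun i => (i : X.Opens).2)
    (fun x _ => Set.mem_iUnion.mpr (h x))
  refine ⟨(t : Set X.affineOpens), t.finite_toSet, fun x => ?_⟩
  have hx := ht (Set.mem_univ x)
  simp only [Set.mem_iUnion] at hx
  obtain ⟨i, hi, hxi⟩ := hx
  exact ⟨i, hi, hxi⟩

/-- The ascending chain condition for coherent subobjects of a coherent module. -/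
theorem wellFoundedGT [IsNoetherian X] (E : X.Modules) (hE : Coh.IsCoh E) :
    WellFoundedGT {F : Subobject E // Coh.IsCoh (F : X.Modules)} := by
  obtain ⟨s, hs, hcov⟩ := exists_finite_affine_cover X
  have := hs.to_subtype
  have hN : ∀ i : s, IsNoetherianRing Γ(X, i.1.1) := fun i =>
    IsLocallyNoetherian.component_noetherian i.1
  have hf : ∀ i : s, Module.Finite Γ(X, i.1.1) Γ(E, i.1.1) := fun i =>
    Groth.Agent.Sga67.CohBasic.finite_sections hE i.1
  have hNM : ∀ i : s, _root_.IsNoetherian Γ(X, i.1.1) Γ(E, i.1.1) := fun i =>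
    isNoetherian_of_isNoetherianRing_of_finite _ _
  have hW : ∀ i : s, WellFoundedLT (Submodule Γ(X, i.1.1) Γ(E, i.1.1))ᵒᵈ := fun i => by
    infer_instance
  have hP : WellFoundedLT (∀ i : s, (Submodule Γ(X, i.1.1) Γ(E, i.1.1))ᵒᵈ) := Pi.wellFoundedLT
  let φ : {F : Subobject E // Coh.IsCoh (F : X.Modules)} →
      (∀ i : s, (Submodule Γ(X, i.1.1) Γ(E, i.1.1))ᵒᵈ) := fun F i => OrderDual.toDual (sec i.1.1 F.1)
  have hφ : ∀ F G : {F : Subobject E // Coh.IsCoh (F : X.Modules)}, F < G → φ G < φ F := by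
    intro F G hFG
    refine lt_of_le_of_ne (fun i => OrderDual.toDual_le_toDual.mpr (sec_mono _ hFG.le))
      fun he => hFG.ne ?_
    refine Subtype.ext (eq_of_sec_eq hFG.le G.2.1 fun x => ?_)
    obtain ⟨i, hi, hxi⟩ := hcov x
    exact ⟨i.1, hxi, i.2, (congrFun he ⟨i, hi⟩).symm⟩
  exact ⟨Subrelation.wf (fun {F G} h => hφ G F h) (InvImage.wf φ hP.wf)⟩

end K846.Acc
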