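import Groth.Agent.ShStab.K846.Lat
import Groth.Agent.ShStab.K846.Acc
import Groth.Agent.CycB.CohProp
import Groth.Agent.S1524

/-!
# Coherent modules on a proper scheme over a field: closure properties in the form `Lat.Add`
-/

set_option autoImplicit false

universe u w

open CategoryTheory CategoryTheory.Limits AlgebraicGeometry

namespace K846.CohAdd

variable {X : Scheme.{u}} [IsLocallyNoetherian X]

/-- The closure properties of coherent modules, with an additive invariant. -/
theorem add_of {G : Type w} [AddCommGroup G] (v : X.Modules → G)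
    (hv : ∀ S : ShortComplex X.Modules, S.ShortExact → Coh.IsCoh S.X₁ → Coh.IsCoh S.X₂ →
      Coh.IsCoh S.X₃ → v S.X₂ = v S.X₁ + v S.X₃) : Lat.Add (fun M : X.Modules => Coh.IsCoh M) v where
  ok_iso e h := Groth.Agent.Sga67.CohBasic.isCoh_of_iso e h
  ok_zero h := Groth.Agent.Sga67.CohBasic.isCoh_of_isZero h
  ok_kernel f hM hN := Groth.Agent.Sga67.CohBasic.isCoh_kernel f hM hN.1
  ok_cokernel f hM hN := Groth.Agent.Sga67.CohBasic.isCoh_cokernel f hM.1 hN
  ok_ext S hS h1 h3 := Groth.Agent.CycB.CohProp.isCoh_extension S hS h1 h3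
  add := hv

/-- The Euler characteristic is additive on coherent modules. -/
theorem add_euler (k : Type u) [Field k] (X : Scheme.{u}) [X.Over (Spec (CommRingCat.of k))]
    [IsProper (X ↘ (Spec (CommRingCat.of k)))] [IsLocallyNoetherian X] :
    Lat.Add (fun M : X.Modules => Coh.IsCoh M) (fun M => Curv2.euler k X M) :=
  add_of _ fun S hS h1 h2 h3 => Groth.Agent.S1524.result k X S hS h1 h2 h3

end K846.CohAdd
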