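import Groth.Agent.ShStab.K849.AbsMore

/-!
# No morphisms between objects with separated Harder-Narasimhan slopes (abstract form)
-/

set_option autoImplicit false

universe v u w

open CategoryTheory CategoryTheory.Limits

namespace K846.HNHom

open K849.Abs K849.LatHN

variable {C : Type u} [Category.{v} C] [Abelian C]
variable {V : Type w} [AddCommGroup V] [LinearOrder V] [IsOrderedAddMonoid V] [Module ℚ V]
  [PosSMulStrictMono ℚ V]
variable {ok : C → Prop} {P : C → V} {α : V →ₗ[ℚ] ℚ}

/-- Slopes of the factors decrease. -/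
theorem redle_of_le {E : C} {s : LTSeries (Subobject E)} (hs : IsAHN ok P α s)
    (hpos : ∀ i, 0 < α (P (StabCat.factor s i))) {i j : Fin s.length} (hij : i ≤ j) :
    redle α (P (StabCat.factor s j)) (P (StabCat.factor s i)) := by
  obtain ⟨n, hn⟩ : ∃ n, j.val = i.val + n := ⟨j.val - i.val, by
    have : i.val ≤ j.val := hij
    omega⟩
  induction n generalizing j with
  | zero =>
    have : i = j := Fin.ext (by omega)
    subst this
    exact redle_refl _
  | succ n ih =>
    have hj := j.2
    let j' : Fin s.length := ⟨i.val + n, by omega⟩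
    have h1 := ih (j := j') (Fin.mk_le_mk.mpr (by omega) : (⟨i.val, i.2⟩ : Fin s.length) ≤ j') rfl
    have h2 := (hs.2.2.2 j' j (by change i.val + n + 1 = j.val; omega)).redle
    exact redle_trans (hpos j') (hpos j).le (hpos i).le h2 h1

/-- A map which vanishes on a term and from the next factor vanishes on the next term. -/
theorem comp_eq_zero_of_factor {E G : C} {a b : Subobject E} (hab : a ≤ b) (φ : E ⟶ G)
    (h1 : a.arrow ≫ φ = 0) (h2 : ∀ ψ : cokernel (Subobject.ofLE a b hab) ⟶ G, ψ = 0) :
    b.arrow ≫ φ = 0 := by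
  have h : Subobject.ofLE a b hab ≫ b.arrow ≫ φ = 0 := by
    rw [← Category.assoc, Subobject.ofLE_arrow, h1]
  rw [← cokernel.π_desc (Subobject.ofLE a b hab) (b.arrow ≫ φ) h, h2 (cokernel.desc _ _ h),
    comp_zero]

/-- Dual form for maps to a filtered object. -/
theorem factors_of_factor {E F : C} {a b : Subobject E} (hab : a ≤ b) (φ : F ⟶ E)
    (h1 : b.Factors φ) (h2 : ∀ ψ : F ⟶ cokernel (Subobject.ofLE a b hab), ψ = 0) :
    a.Factors φ := by
  have h : b.factorThru φ h1 ≫ cokernel.π (Subobject.ofLE a b hab) = 0 := h2 _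
  have e : Abelian.monoLift (Subobject.ofLE a b hab) (b.factorThru φ h1) h ≫
      Subobject.ofLE a b hab = b.factorThru φ h1 := Abelian.monoLift_comp _ _ _
  refine (Subobject.factors_iff _ _).mpr ⟨Abelian.monoLift (Subobject.ofLE a b hab)
    (b.factorThru φ h1) h, ?_⟩
  have e2 := congrArg (fun f => f ≫ b.arrow) e
  simp only [Category.assoc, Subobject.ofLE_arrow, Subobject.factorThru_arrow] at e2
  exact e2

/-- Maps from a semistable object of large slope to an object with a filtration. -/
theorem hom_filtered_eq_zero (h : Setup ok P α) {E G : C} (hE : ok E) (hEs : ASS ok P α E)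
    {t : LTSeries (Subobject G)} (ht : IsAHN ok P α t)
    (hlt : ∀ j, redlt α (P (StabCat.factor t j)) (P E)) (φ : E ⟶ G) : φ = 0 := by
  have key : ∀ i : Fin (t.length + 1), (t (Fin.rev i)).Factors φ := by
    intro i
    induction i using Fin.induction with
    | zero =>
      rw [Fin.rev_zero]
      have : t (Fin.last _) = ⊤ := ht.2.1
      rw [this]
      exact Subobject.top_factors φ
    | succ i ih =>
      have e1 : Fin.rev i.castSucc = (Fin.rev i).succ := Fin.rev_castSucc i
      have e2 : Fin.rev i.succ = (Fin.rev i).castSucc := Fin.rev_succ i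
      rw [e1] at ih
      rw [e2]
      refine factors_of_factor (le_of_lt (t.step (Fin.rev i))) φ ih fun ψ => ?_
      have hf := ht.2.2.1 (Fin.rev i)
      exact hom_eq_zero h hE hf.1 hEs hf.2.1 hf.2.2 (hlt _) ψ
  have h0 := key (Fin.last _)
  rw [Fin.rev_last] at h0
  have : t 0 = ⊥ := ht.1
  rw [this] at h0
  exact (Subobject.bot_factors_iff_zero φ).mp h0

/-- Maps between objects with separated Harder-Narasimhan slopes vanish. -/
theorem hom_eq_zero_of_HN (h : Setup ok P α) {F G : C}
    {s : LTSeries (Subobject F)} (hs : IsAHN ok P α s)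
    {t : LTSeries (Subobject G)} (ht : IsAHN ok P α t)
    (hlt : ∀ i j, redlt α (P (StabCat.factor t j)) (P (StabCat.factor s i)))
    (φ : F ⟶ G) : φ = 0 := by
  have key : ∀ i : Fin (s.length + 1), (s i).arrow ≫ φ = 0 := by
    intro i
    induction i using Fin.induction with
    | zero =>
      have : s 0 = ⊥ := hs.1
      rw [this, Subobject.bot_arrow, zero_comp]
    | succ i ih =>
      refine comp_eq_zero_of_factor (le_of_lt (s.step i)) φ ih fun ψ => ?_
      have hf := hs.2.2.1 i
      exact hom_filtered_eq_zero h hf.1 hf.2.2 ht (hlt i) ψ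
  have h1 := key (Fin.last _)
  have : s (Fin.last _) = ⊤ := hs.2.1
  rw [this] at h1
  rwa [← cancel_epi (⊤ : Subobject F).arrow, comp_zero]

end K846.HNHom
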