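import Groth.Agent.ShStab.K846.JH
import Mathlib.Order.OrderIsoNat

/-!
# Jordan-Hölder filtrations: existence and uniqueness of the graded object
-/

set_option autoImplicit false
set_option linter.unusedSectionVars false

universe v u w

open CategoryTheory CategoryTheory.Limits

namespace K846.JH2

open K846.JH

variable {C : Type u} [Category.{v} C] [Abelian C]
variable {V : Type w} [AddCommGroup V] [LinearOrder V] [IsOrderedAddMonoid V] [Module ℚ V]
  [PosSMulStrictMono ℚ V]

/-- Jordan-Hölder filtrations with respect to an invariant in an ordered vector space. -/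
structure IsJH (ok : C → Prop) (P : C → V) (α : V →ₗ[ℚ] ℚ) {E : C}
    (s : LTSeries (Subobject E)) : Prop where
  head : s.head = ⊥
  last : s.last = ⊤
  ok_factor : ∀ i, ok (StabCat.factor s i)
  st : ∀ i, St ok P α (StabCat.factor s i)
  red : ∀ i, α (P E) • P (StabCat.factor s i) = α (P (StabCat.factor s i)) • P E

variable {ok : C → Prop} {P : C → V} {α : V →ₗ[ℚ] ℚ}

theorem IsJH.mem (h : Lat.Add ok P) {E : C} {s : LTSeries (Subobject E)}
    (hs : IsJH ok P α s) (i : Fin (s.length + 1)) : mem ok P α (s i) := by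
  induction i using Fin.induction with
  | zero =>
    have : s 0 = ⊥ := hs.head
    rw [this]
    exact mem_bot h
  | succ i hi =>
    have hle : s i.castSucc ≤ s i.succ := le_of_lt (s.step i)
    have hok : ok (s i.succ : C) :=
      h.ok_mid (Subobject.ofLE (s i.castSucc) (s i.succ) hle) hi.1 (hs.ok_factor i)
    refine ⟨hok, ?_⟩
    have h1 := hs.red i
    have h2 : P (StabCat.factor s i) = P (s i.succ : C) - P (s i.castSucc : C) :=
      h.v_factor hle hi.1 hok
    rw [h2, smul_sub, map_sub, sub_smul, hi.2, sub_left_inj] at h1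
    exact h1

/-- A Jordan-Hölder filtration as a composition series of the lattice. -/
noncomputable def toComp (h : Lat.Add ok P) {E : C} (hE : ok E) (hss : SS ok P α E)
    (hpos : ∀ M : C, ok M → ¬ IsZero M → 0 < P M) (hα : α (P E) ≠ 0)
    {s : LTSeries (Subobject E)} (hs : IsJH ok P α s) : CompositionSeries (lat h hE hss) where
  length := s.length
  toFun i := ⟨s i, hs.mem h i⟩
  step i := covBy_of_stable h hE hss hpos hα (s.step i) (hs.st i)

/-- The relation of having isomorphic quotients. -/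
def Rel (h : Lat.Add ok P) {E : C} (hE : ok E) (hss : SS ok P α E)
    (p q : lat h hE hss × lat h hE hss) : Prop :=
  (p.1 ≤ p.2 ↔ q.1 ≤ q.2) ∧ ∀ (h₁ : p.1.1 ≤ p.2.1) (h₂ : q.1.1 ≤ q.2.1),
    Nonempty (cokernel (Subobject.ofLE p.1.1 p.2.1 h₁) ≅ cokernel (Subobject.ofLE q.1.1 q.2.1 h₂))

theorem rel_of_iso (h : Lat.Add ok P) {E : C} (hE : ok E) (hss : SS ok P α E)
    {p q : lat h hE hss × lat h hE hss} (hpq : JordanHolderLattice.Iso p q) :
    Rel h hE hss p q := by
  refine JordanHolderLattice.Iso.rel (Rel h hE hss) ?_ ?_ ?_ ?_ hpq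
  · exact fun {x} => ⟨Iff.rfl, fun h₁ h₂ => ⟨Iso.refl _⟩⟩
  · exact fun {x y} hxy => ⟨hxy.1.symm, fun h₁ h₂ => ⟨(hxy.2 h₂ h₁).some.symm⟩⟩
  · exact fun {x y z} hxy hyz => ⟨hxy.1.trans hyz.1, fun h₁ h₂ =>
      ⟨(hxy.2 h₁ (hxy.1.mp h₁)).some ≪≫ (hyz.2 (hxy.1.mp h₁) h₂).some⟩⟩
  · intro x y hxy
    refine ⟨⟨fun _ => inf_le_right, fun _ => le_sup_left⟩, fun h₁ h₂ => ?_⟩
    obtain ⟨e⟩ := Groth.Agent.Cohder.SubobjLattice.secondIso x.1 y.1 h₂ h₁
    exact ⟨e.symm⟩

theorem jordanHolder (h : Lat.Add ok P) {E : C} (hE : ok E) (hss : SS ok P α E)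
    (hpos : ∀ M : C, ok M → ¬ IsZero M → 0 < P M) (hα : α (P E) ≠ 0)
    {s t : LTSeries (Subobject E)} (hs : IsJH ok P α s) (ht : IsJH ok P α t) :
    s.length = t.length ∧ Nonempty (StabCat.grObj s ≅ StabCat.grObj t) := by
  have hh : (toComp h hE hss hpos hα hs).head = (toComp h hE hss hpos hα ht).head :=
    Subtype.ext (hs.head.trans ht.head.symm)
  have hl : (toComp h hE hss hpos hα hs).last = (toComp h hE hss hpos hα ht).last :=
    Subtype.ext (hs.last.trans ht.last.symm)
  obtain ⟨f, hf⟩ := CompositionSeries.jordan_holder _ _ hh hl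
  have hcard : s.length = t.length := by
    have := Fintype.card_congr f
    simp only [Fintype.card_fin] at this
    exact this
  refine ⟨hcard, ?_⟩
  have w : ∀ i : Fin s.length, Nonempty (StabCat.factor t (f i) ≅ StabCat.factor s i) := by
    intro i
    obtain ⟨e⟩ := (rel_of_iso h hE hss (hf i)).2 (le_of_lt (s.step i)) (le_of_lt (t.step (f i)))
    exact ⟨e.symm⟩
  exact ⟨Sigma.whiskerEquiv (f := fun i : Fin s.length => StabCat.factor s i)
    (g := fun i : Fin t.length => StabCat.factor t i) f (fun i => (w i).some)⟩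

/-- Existence of Jordan-Hölder filtrations, with pure factors. -/
theorem exists_isJH (h : Lat.Add ok P) {E : C} (hE : ok E) (hss : SS ok P α E)
    (hpos : ∀ M : C, ok M → ¬ IsZero M → 0 < P M) (hα : 0 < α (P E))
    (hacc : WellFoundedGT {F : Subobject E // ok (F : C)})
    (hnat : ∀ M : C, ok M → ∃ n : ℕ, α (P M) = n) :
    ∃ s : LTSeries (Subobject E), IsJH ok P α s ∧
      ∀ i, ∀ (T : C) (κ : T ⟶ StabCat.factor s i), Mono κ → ok T → ¬ IsZero T → 0 < α (P T) := by
  have hgt : WellFoundedGT (lat h hE hss) := by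
    have hm : StrictMono (fun F : lat h hE hss => (⟨F.1, F.2.1⟩ : {F : Subobject E // ok (F : C)})) :=
      fun F G hFG => hFG
    exact hm.wellFoundedGT
  have hPE : 0 < P E := by
    refine hpos E hE fun hz => ?_
    rw [h.v_zero hz, map_zero] at hα
    exact hα.false
  have hlt : WellFoundedLT (lat h hE hss) := by
    choose n hn using fun F : lat h hE hss => hnat (F.1 : C) F.2.1
    have hm : StrictMono n := by
      intro F G hFG
      have h1 : P (F.1 : C) < P (G.1 : C) := P_lt_of_lt h hpos F.2.1 G.2.1 hFG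
      have h2 : α (P E) • P (F.1 : C) < α (P E) • P (G.1 : C) := smul_lt_smul_of_pos_left h1 hα
      rw [F.2.2, G.2.2] at h2
      have h3 : α (P (F.1 : C)) < α (P (G.1 : C)) := by
        by_contra hn
        exact absurd h2 (smul_le_smul_of_nonneg_right (not_lt.mp hn) hPE.le).not_gt
      rw [hn, hn] at h3
      exact_mod_cast h3
    exact hm.wellFoundedLT
  have : Nonempty (lat h hE hss) := ⟨⟨⊥, mem_bot h⟩⟩
  obtain ⟨a, ha0, n, hn, ha⟩ := exists_covBy_seq_of_wellFoundedLT_wellFoundedGT (lat h hE hss)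
  have hbot : (a 0).1 = ⊥ := by
    have : (⟨⊥, mem_bot h⟩ : lat h hE hss) ≤ a 0 := (bot_le : (⊥ : Subobject E) ≤ (a 0).1)
    exact le_bot_iff.mp (ha0 this)
  have htop : (a n).1 = ⊤ := by
    have : a n ≤ (⟨⊤, mem_top h hE⟩ : lat h hE hss) := (le_top : (a n).1 ≤ (⊤ : Subobject E))
    exact top_le_iff.mp (hn this)
  let s : LTSeries (Subobject E) :=
    { length := n
      toFun := fun i => (a i).1
      step := fun i => by
        have := (ha i i.2).lt
        exact this }
  have hs : ∀ i : Fin s.length, _ := fun i => stable_of_covBy h hE hss hpos hα (ha i i.2)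
  refine ⟨s, ⟨hbot, htop, fun i => ?_, fun i => ?_, fun i => ?_⟩, fun i => ?_⟩
  · exact h.ok_factor _ (a i).2.1 (a (i + 1)).2.1
  · exact (hs i).2.1
  · exact (hs i).2.2
  · exact (hs i).1

end K846.JH2
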