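import Groth.Agent.ShStab.K846.Gies
import Groth.Agent.ShStab.K846.JH2
import Groth.Agent.ShStab.K846.HNHom

/-!
# Filtrations of sheaves, relative to `HilbFacts`
-/

set_option autoImplicit false

universe u

open CategoryTheory CategoryTheory.Limits AlgebraicGeometry Polynomial

namespace K846.Rows2

open K849.PolyOrd

variable {k : Type u} [Field k] {X : Scheme.{u}} [X.Over (Spec (CommRingCat.of k))]
variable [IsNoetherian X] {L : X.Modules} (H : Gies.HilbFacts k X L)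

include H

/-- Jordan-Hölder filtrations of sheaves are the abstract ones. -/
theorem isJH_of {d : ℕ} {E : X.Modules} (hE : Coh.IsCoh E) {s : LTSeries (Subobject E)}
    (hs : ShStab.IsJHFiltration k X L E d s) :
    JH2.IsJH (Gies.okd k L d) (Gies.hv k L) (alphaL d) s := by
  have hst := fun i => (Gies.isStable_iff H).mp (hs.2.2 i).1
  refine ⟨hs.1, hs.2.1, fun i => (hst i).1, fun i => (hst i).2.2.2, fun i => ?_⟩
  have h1 := (hs.2.2 i).2 _ _ (Gies.isHilbPoly_hp H (hst i).1.1) (Gies.isHilbPoly_hp H hE)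
  exact Gies.redEq_iff.mp h1

theorem jordanHolder {d : ℕ} {E : X.Modules} (hE : ShStab.IsSemistable k X L E d)
    {s t : LTSeries (Subobject E)} (hs : ShStab.IsJHFiltration k X L E d s)
    (ht : ShStab.IsJHFiltration k X L E d t) :
    s.length = t.length ∧ Nonempty (StabCat.grObj s ≅ StabCat.grObj t) := by
  obtain ⟨h1, h2, h3, h4⟩ := (Gies.isSemistable_iff H).mp hE
  exact JH2.jordanHolder (Gies.add_okd H d) h1 h4 (Gies.pos_okd H d)
    (Gies.alpha_pos H hE.1 hE.2.1 hE.2.2.1).ne' (isJH_of H hE.1 hs) (isJH_of H hE.1 ht)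

theorem exists_jh {d : ℕ} {E : X.Modules} (hE : ShStab.IsSemistable k X L E d) :
    ∃ s : LTSeries (Subobject E), ShStab.IsJHFiltration k X L E d s := by
  obtain ⟨h1, h2, h3, h4⟩ := (Gies.isSemistable_iff H).mp hE
  obtain ⟨s, hs, hp⟩ := JH2.exists_isJH (Gies.add_okd H d) h1 h4 (Gies.pos_okd H d)
    (Gies.alpha_pos H hE.1 hE.2.1 hE.2.2.1) (Gies.acc_okd H d E hE.1) (Gies.nat_okd H d)
  refine ⟨s, hs.head, hs.last, fun i => ⟨?_, fun p q hp' hq' => ?_⟩⟩
  · refine (Gies.isStable_iff H).mpr ⟨hs.ok_factor i, fun hz => ?_, hp i, hs.st i⟩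
    exact (s.step i).ne (JH.eq_of_isZero_factor (le_of_lt (s.step i)) hz)
  · obtain rfl := (Gies.isHilbPoly_iff H (hs.ok_factor i).1).mp hp'
    obtain rfl := (Gies.isHilbPoly_iff H hE.1).mp hq'
    exact Gies.redEq_iff.mpr (hs.red i)

theorem ass_iff {d : ℕ} {E : X.Modules} :
    K849.Abs.ASS (Gies.okd k L d) (Gies.hv k L) (alphaL d) E ↔
      JH.SS (Gies.okd k L d) (Gies.hv k L) (alphaL d) E := by
  constructor
  · intro h F ι hι hF
    by_cases h0 : IsZero F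
    · rw [(Gies.add_okd H d).v_zero h0]; simp
    · exact h F ι hι hF h0
  · intro h F ι hι hF _
    exact h F ι hι hF

/-- Semistability in the language of helper849. -/
theorem isSemistable_iff {d : ℕ} {E : X.Modules} :
    ShStab.IsSemistable k X L E d ↔ Gies.okd k L d E ∧ ¬ IsZero E ∧
      K849.Abs.APure (Gies.okd k L d) (Gies.hv k L) (alphaL d) E ∧
      K849.Abs.ASS (Gies.okd k L d) (Gies.hv k L) (alphaL d) E := by
  rw [Gies.isSemistable_iff H, ass_iff H]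
  rfl

theorem isHN_iff {d : ℕ} {E : X.Modules} {s : LTSeries (Subobject E)} :
    ShStab.IsHNFiltration k X L E d s ↔
      K849.Abs.IsAHN (Gies.okd k L d) (Gies.hv k L) (alphaL d) s := by
  constructor
  · intro hs
    have hss := fun i => (isSemistable_iff H).mp (hs.2.2.1 i)
    refine ⟨hs.1, hs.2.1, fun i => ⟨(hss i).1, (hss i).2.2.1, (hss i).2.2.2⟩, fun i j hij => ?_⟩
    have h1 := hs.2.2.2 i j hij _ _ (Gies.isHilbPoly_hp H (hss i).1.1)
      (Gies.isHilbPoly_hp H (hss j).1.1)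
    exact Gies.redLT_iff.mp h1
  · intro hs
    refine ⟨hs.1, hs.2.1, fun i => ?_, fun i j hij p q hp hq => ?_⟩
    · refine (isSemistable_iff H).mpr ⟨(hs.2.2.1 i).1, fun hz => ?_, (hs.2.2.1 i).2.1,
        (hs.2.2.1 i).2.2⟩
      exact (s.step i).ne (JH.eq_of_isZero_factor (le_of_lt (s.step i)) hz)
    · obtain rfl := (Gies.isHilbPoly_iff H (hs.2.2.1 i).1.1).mp hp
      obtain rfl := (Gies.isHilbPoly_iff H (hs.2.2.1 j).1.1).mp hq
      exact Gies.redLT_iff.mpr (hs.2.2.2 i j hij)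

theorem existsUnique_hn {d : ℕ} {E : X.Modules} (hE : Coh.IsCoh E)
    (hp : ShStab.IsPure X E d) :
    ∃! s : LTSeries (Subobject E), ShStab.IsHNFiltration k X L E d s := by
  have h1 := Gies.okd_of_pure H hE hp
  have h2 := (Gies.isPure_iff H h1).mp hp
  have h3 := K849.Abs.existsUnique_isAHN (Gies.setup H d) h1 h2
  simpa only [isHN_iff H] using h3

theorem factor_pos {d : ℕ} {E : X.Modules} {s : LTSeries (Subobject E)}
    (hs : ShStab.IsHNFiltration k X L E d s) (i : Fin s.length) :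
    0 < alphaL d (Gies.hv k L (StabCat.factor s i)) :=
  Gies.alpha_pos H (hs.2.2.1 i).1 (hs.2.2.1 i).2.1 (hs.2.2.1 i).2.2.1

theorem hom_eq_zero {d : ℕ} {F G : X.Modules}
    (s : LTSeries (Subobject F)) (hs : ShStab.IsHNFiltration k X L F d s)
    (t : LTSeries (Subobject G)) (ht : ShStab.IsHNFiltration k X L G d t)
    (i : Fin s.length) (hi : i.val + 1 = s.length) (j : Fin t.length) (hj : j.val = 0)
    (pmin pmax : ℚ[X]) (hpmin : ShStab.IsHilbPoly k X L (StabCat.factor s i) pmin)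
    (hpmax : ShStab.IsHilbPoly k X L (StabCat.factor t j) pmax)
    (hlt : StabCat.RedLT d pmax pmin) (φ : F ⟶ G) : φ = 0 := by
  have hs' := (isHN_iff H).mp hs
  have ht' := (isHN_iff H).mp ht
  obtain rfl := (Gies.isHilbPoly_iff H (hs'.2.2.1 i).1.1).mp hpmin
  obtain rfl := (Gies.isHilbPoly_iff H (ht'.2.2.1 j).1.1).mp hpmax
  rw [Gies.redLT_iff] at hlt
  refine HNHom.hom_eq_zero_of_HN (Gies.setup H d) hs' ht' (fun a b => ?_) φ
  have ha : a ≤ i := by
    have := a.2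
    exact Fin.le_def.mpr (by omega)
  have hb : j ≤ b := Fin.le_def.mpr (by omega)
  have h1 := HNHom.redle_of_le hs' (factor_pos H hs) ha
  have h2 := HNHom.redle_of_le ht' (factor_pos H ht) hb
  have h3 : K849.LatHN.redlt (alphaL d) (Gies.hv k L (StabCat.factor t j))
    (Gies.hv k L (StabCat.factor s i)) := hlt
  have h4 := K849.LatHN.redlt_of_redle_of_redlt (factor_pos H ht j) (factor_pos H ht b)
    (factor_pos H hs i).le h2 h3
  exact K849.LatHN.redlt_of_redlt_of_redle (factor_pos H hs i) (factor_pos H ht b).le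
    (factor_pos H hs a) h4 h1

theorem exists_maxDestab {d : ℕ} {E : X.Modules} (hE : Coh.IsCoh E)
    (h0 : ¬ IsZero E) (hp : ShStab.IsPure X E d) :
    ∃ (F : X.Modules) (ι : F ⟶ E), ShStab.IsMaxDestab k X L E d F ι := by
  have h1 := Gies.okd_of_pure H hE hp
  have h2 := (Gies.isPure_iff H h1).mp hp
  obtain ⟨F, ι, hι, hF, hF0, hmax⟩ := K849.Abs.exists_maxDestab (Gies.setup H d) h1 h0 h2
  refine ⟨F, ι, hι, hF.1, hF0, fun G κ hκ hG hG0 pF pG hpF hpG => ?_⟩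
  obtain rfl := (Gies.isHilbPoly_iff H hF.1).mp hpF
  obtain rfl := (Gies.isHilbPoly_iff H hG).mp hpG
  have hG' := Gies.okd_of_mono H κ hG h1
  obtain ⟨h3, h4⟩ := hmax G κ hκ hG' hG0
  refine ⟨Gies.redLE_iff.mpr h3, fun he => h4 ?_⟩
  rw [Gies.redEq_iff] at he
  exact he.ge

omit [AlgebraicGeometry.IsNoetherian X] in
theorem maxDestab_unique {d : ℕ} {E : X.Modules} {F₁ F₂ : X.Modules} (ι₁ : F₁ ⟶ E)
    (ι₂ : F₂ ⟶ E) (h₁ : ShStab.IsMaxDestab k X L E d F₁ ι₁)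
    (h₂ : ShStab.IsMaxDestab k X L E d F₂ ι₂) : ∃ e : F₁ ≅ F₂, e.hom ≫ ι₂ = ι₁ := by
  obtain ⟨hm₁, hF₁, hz₁, hmax₁⟩ := h₁
  obtain ⟨hm₂, hF₂, hz₂, hmax₂⟩ := h₂
  have hp₁ := Gies.isHilbPoly_hp H hF₁
  have hp₂ := Gies.isHilbPoly_hp H hF₂
  obtain ⟨a1, a2⟩ := hmax₁ F₂ ι₂ hm₂ hF₂ hz₂ _ _ hp₁ hp₂
  obtain ⟨b1, b2⟩ := hmax₂ F₁ ι₁ hm₁ hF₁ hz₁ _ _ hp₂ hp₁
  rw [Gies.redLE_iff] at a1 b1
  obtain ⟨u, hu⟩ := a2 (Gies.redEq_iff.mpr (le_antisymm a1 b1))
  obtain ⟨v, hv⟩ := b2 (Gies.redEq_iff.mpr (le_antisymm b1 a1))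
  refine ⟨⟨v, u, ?_, ?_⟩, hv⟩
  · rw [← cancel_mono ι₁, Category.assoc, hu, hv, Category.id_comp]
  · rw [← cancel_mono ι₂, Category.assoc, hv, hu, Category.id_comp]

end K846.Rows2
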