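import Groth.Agent.ShStab.K846.Tfae
import Groth.Agent.ShStab.K846.JH2
import Groth.Agent.ShStab.K846.CohAdd
import Groth.Agent.ShStab.K847.PolyOrd
import Groth.Agent.ShStab.K849.PolyOrd
import Groth.Agent.ShStab.K849.AbsMore
import Groth.Prelude.Def_ShStab

/-!
# The dictionary between `ShStab` and the abstract theory

Everything is stated relative to `HilbFacts k X L`, the basic facts on Hilbert polynomials.
-/

set_option autoImplicit false

universe u

open CategoryTheory CategoryTheory.Limits AlgebraicGeometry Polynomial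

namespace K846.Gies

open K849.PolyOrd

variable (k : Type u) [Field k] (X : Scheme.{u}) [X.Over (Spec (CommRingCat.of k))]

/-- Basic facts on Hilbert polynomials. -/
structure HilbFacts (L : X.Modules) : Prop where
  ex : ∀ F : X.Modules, Coh.IsCoh F → ∃ P : ℚ[X], ShStab.IsHilbPoly k X L F P
  add : ∀ S : ShortComplex X.Modules, S.ShortExact → Coh.IsCoh S.X₁ → Coh.IsCoh S.X₂ →
    Coh.IsCoh S.X₃ → ∀ P Q : ℚ[X], ShStab.IsHilbPoly k X L S.X₁ P → ShStab.IsHilbPoly k X L S.X₃ Q →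
      ShStab.IsHilbPoly k X L S.X₂ (P + Q)
  dim : ∀ (F : X.Modules) (P : ℚ[X]), Coh.IsCoh F → ¬ IsZero F → ShStab.IsHilbPoly k X L F P →
    topologicalKrullDim (CohB1.support F) = P.natDegree
  pos : ∀ (F : X.Modules) (P : ℚ[X]), Coh.IsCoh F → ¬ IsZero F → ShStab.IsHilbPoly k X L F P →
    0 < P.leadingCoeff
  nat : ∀ (F : X.Modules) (P : ℚ[X]) (d : ℕ), Coh.IsCoh F → ShStab.IsHilbPoly k X L F P →
    P.natDegree ≤ d → ∃ n : ℕ, StabCat.alpha d P = n

variable {k X}
variable {L : X.Modules}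

theorem unique {F : X.Modules} {P Q : ℚ[X]} (hP : ShStab.IsHilbPoly k X L F P)
    (hQ : ShStab.IsHilbPoly k X L F Q) : P = Q :=
  K847.PolyOrd.eq_of_eval_nat fun m => (hP m).symm.trans (hQ m)

open Classical in
variable (k L) in
/-- The Hilbert polynomial. -/
noncomputable def hp (F : X.Modules) : ℚ[X] :=
  if h : ∃ P : ℚ[X], ShStab.IsHilbPoly k X L F P then h.choose else 0

theorem hp_eq {F : X.Modules} {P : ℚ[X]} (hP : ShStab.IsHilbPoly k X L F P) : hp k L F = P := by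
  have h : ∃ P : ℚ[X], ShStab.IsHilbPoly k X L F P := ⟨P, hP⟩
  unfold hp
  rw [dif_pos h]
  exact unique h.choose_spec hP

/-- The Hilbert polynomial in the ordered vector space `PV`. -/
noncomputable def hv (k : Type u) [Field k] {X : Scheme.{u}} [X.Over (Spec (CommRingCat.of k))]
    (L : X.Modules) (F : X.Modules) : PV := toPV (hp k L F)

variable (H : HilbFacts k X L)

include H

theorem isHilbPoly_hp {F : X.Modules} (hF : Coh.IsCoh F) : ShStab.IsHilbPoly k X L F (hp k L F) := by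
  obtain ⟨P, hP⟩ := H.ex F hF
  rw [hp_eq hP]
  exact hP

theorem isHilbPoly_iff {F : X.Modules} (hF : Coh.IsCoh F) {P : ℚ[X]} :
    ShStab.IsHilbPoly k X L F P ↔ P = hp k L F :=
  ⟨fun h => (hp_eq h).symm, fun h => h ▸ isHilbPoly_hp H hF⟩

theorem hp_add (S : ShortComplex X.Modules) (hS : S.ShortExact) (h₁ : Coh.IsCoh S.X₁)
    (h₂ : Coh.IsCoh S.X₂) (h₃ : Coh.IsCoh S.X₃) : hp k L S.X₂ = hp k L S.X₁ + hp k L S.X₃ :=
  hp_eq (H.add S hS h₁ h₂ h₃ _ _ (isHilbPoly_hp H h₁) (isHilbPoly_hp H h₃))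

/-- All coherent modules. -/
theorem add_coh [IsLocallyNoetherian X] :
    Lat.Add (fun M : X.Modules => Coh.IsCoh M) (hv k L) :=
  CohAdd.add_of _ fun S hS h₁ h₂ h₃ => by
    unfold hv
    rw [hp_add H S hS h₁ h₂ h₃, toPV_add]

theorem hp_zero {F : X.Modules} [IsLocallyNoetherian X] (h0 : IsZero F) : hp k L F = 0 :=
  (add_coh H).v_zero h0

theorem hv_pos {F : X.Modules} (hF : Coh.IsCoh F) (h0 : ¬ IsZero F) : 0 < hv k L F := by
  have h := H.pos F _ hF h0 (isHilbPoly_hp H hF)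
  rw [← toPV_zero, hv, toPV_lt]
  exact polyLT_iff.mpr h

theorem natDegree_eq {F : X.Modules} (hF : Coh.IsCoh F) (h0 : ¬ IsZero F) :
    topologicalKrullDim (CohB1.support F) = (hp k L F).natDegree :=
  H.dim F _ hF h0 (isHilbPoly_hp H hF)

omit H in
variable (k L) in
/-- Coherent of dimension at most `d`. -/
def okd (d : ℕ) (F : X.Modules) : Prop := Coh.IsCoh F ∧ (hp k L F).natDegree ≤ d

omit H in
omit [Field k] [X.Over (Spec (CommRingCat.of k))] in
/-- `0 ≤ P ≤ Q` eventually implies `deg P ≤ deg Q`. -/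
theorem natDegree_le_of_le {P Q : ℚ[X]} (h0 : (0 : PV) ≤ toPV P) (h : toPV P ≤ toPV Q) :
    P.natDegree ≤ Q.natDegree := by
  by_contra hlt
  rw [not_le] at hlt
  have h2 := K847.PolyOrd.polyLE_iff.mp (toPV_le.mp h)
  have h3 : (Q - P).natDegree = P.natDegree := by
    rw [natDegree_sub_eq_right_of_natDegree_lt hlt]
  have h4 : (Q - P).leadingCoeff = - P.leadingCoeff := by
    rw [leadingCoeff, h3, coeff_sub, coeff_eq_zero_of_natDegree_lt hlt, zero_sub, leadingCoeff]
  rw [← toPV_zero, toPV_le, K847.PolyOrd.polyLE_iff, sub_zero] at h0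
  have h5 : P.leadingCoeff = 0 := by linarith
  rw [leadingCoeff_eq_zero] at h5
  rw [h5, natDegree_zero] at hlt
  omega

theorem hv_nonneg [IsLocallyNoetherian X] {F : X.Modules} (hF : Coh.IsCoh F) : 0 ≤ hv k L F := by
  by_cases h0 : IsZero F
  · exact ((add_coh H).v_zero h0).ge
  · exact (hv_pos H hF h0).le

theorem hv_mono [IsLocallyNoetherian X] {F G : X.Modules} (f : F ⟶ G) [Mono f] (hF : Coh.IsCoh F)
    (hG : Coh.IsCoh G) : hv k L F ≤ hv k L G := by
  have h1 := (add_coh H).v_cokernel f hF hG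
  have h2 := hv_nonneg H ((add_coh H).ok_cokernel f hF hG)
  rw [h1] at h2
  exact sub_nonneg.mp h2

theorem hv_epi [IsLocallyNoetherian X] {F G : X.Modules} (f : F ⟶ G) [Epi f] (hF : Coh.IsCoh F)
    (hG : Coh.IsCoh G) : hv k L G ≤ hv k L F := by
  have h1 := (add_coh H).v_kernel f hF hG
  have h2 := hv_nonneg H ((add_coh H).ok_kernel f hF hG)
  rw [h1] at h2
  exact sub_nonneg.mp h2

theorem natDegree_mono [IsLocallyNoetherian X] {F G : X.Modules} (f : F ⟶ G) [Mono f]
    (hF : Coh.IsCoh F) (hG : Coh.IsCoh G) : (hp k L F).natDegree ≤ (hp k L G).natDegree :=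
  natDegree_le_of_le (hv_nonneg H hF) (hv_mono H f hF hG)

theorem natDegree_epi [IsLocallyNoetherian X] {F G : X.Modules} (f : F ⟶ G) [Epi f]
    (hF : Coh.IsCoh F) (hG : Coh.IsCoh G) : (hp k L G).natDegree ≤ (hp k L F).natDegree :=
  natDegree_le_of_le (hv_nonneg H hG) (hv_epi H f hF hG)

theorem okd_of_mono [IsLocallyNoetherian X] {d : ℕ} {F G : X.Modules} (f : F ⟶ G) [Mono f]
    (hF : Coh.IsCoh F) (hG : okd k L d G) : okd k L d F :=
  ⟨hF, (natDegree_mono H f hF hG.1).trans hG.2⟩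

theorem okd_of_epi [IsLocallyNoetherian X] {d : ℕ} {F G : X.Modules} (f : F ⟶ G) [Epi f]
    (hG : Coh.IsCoh G) (hF : okd k L d F) : okd k L d G :=
  ⟨hG, (natDegree_epi H f hF.1 hG).trans hF.2⟩

/-- Coherent modules of dimension at most `d`. -/
theorem add_okd [IsLocallyNoetherian X] (d : ℕ) : Lat.Add (okd k L d) (hv k L) where
  ok_iso e h := ⟨(add_coh H).ok_iso e h.1, by
    have : hv k L _ = hv k L _ := (add_coh H).v_iso e h.1
    have h2 : hp k L _ = hp k L _ := toPV_injective this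
    rw [← h2]
    exact h.2⟩
  ok_zero h := ⟨(add_coh H).ok_zero h, by rw [hp_zero H h]; simp⟩
  ok_kernel f hM hN := okd_of_mono H (kernel.ι f) ((add_coh H).ok_kernel f hM.1 hN.1) hM
  ok_cokernel f hM hN := okd_of_epi H (cokernel.π f) ((add_coh H).ok_cokernel f hM.1 hN.1) hN
  ok_ext S hS h₁ h₃ := by
    have h₂ := (add_coh H).ok_ext S hS h₁.1 h₃.1
    refine ⟨h₂, ?_⟩
    rw [hp_add H S hS h₁.1 h₂ h₃.1]
    exact (natDegree_add_le _ _).trans (max_le h₁.2 h₃.2)
  add S hS h₁ h₂ h₃ := (add_coh H).add S hS h₁.1 h₂.1 h₃.1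

theorem pos_okd (d : ℕ) : ∀ M : X.Modules, okd k L d M → ¬ IsZero M → 0 < hv k L M :=
  fun _ hM h0 => hv_pos H hM.1 h0

theorem nat_okd (d : ℕ) : ∀ M : X.Modules, okd k L d M → ∃ n : ℕ, alphaL d (hv k L M) = n := by
  intro M hM
  rw [hv, alphaL_toPV]
  exact H.nat M _ d hM.1 (isHilbPoly_hp H hM.1) hM.2

theorem alpha_nonneg (d : ℕ) : ∀ M : X.Modules, okd k L d M → 0 ≤ alphaL d (hv k L M) := by
  intro M hM
  obtain ⟨n, hn⟩ := nat_okd H d M hM
  rw [hn]
  exact Nat.cast_nonneg n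

theorem acc_okd [IsNoetherian X] (d : ℕ) (E : X.Modules) (hE : Coh.IsCoh E) :
    WellFoundedGT {F : Subobject E // okd k L d (F : X.Modules)} := by
  have := Acc.wellFoundedGT E hE
  have hm : StrictMono (fun F : {F : Subobject E // okd k L d (F : X.Modules)} =>
      (⟨F.1, F.2.1⟩ : {F : Subobject E // Coh.IsCoh (F : X.Modules)})) := fun F G hFG => hFG
  exact hm.wellFoundedGT

/-- The abstract setting of helper849. -/
theorem setup [IsNoetherian X] (d : ℕ) : K849.Abs.Setup (okd k L d) (hv k L) (alphaL d) where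
  ok_iso := (add_okd H d).ok_iso
  ok_ker := (add_okd H d).ok_kernel
  ok_coker := (add_okd H d).ok_cokernel
  ok_ext := (add_okd H d).ok_ext
  noeth E hE := acc_okd H d E hE.1
  add := (add_okd H d).add
  nat := nat_okd H d
  nonneg E hE _ := hv_nonneg H hE.1

/-! ### The dictionary -/

theorem alpha_pos_of_dim {d : ℕ} {F : X.Modules} (hF : Coh.IsCoh F) (h0 : ¬ IsZero F)
    (hd : topologicalKrullDim (CohB1.support F) = (d : WithBot ℕ∞)) :
    0 < alphaL d (hv k L F) := by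
  have h1 := natDegree_eq H hF h0
  rw [hd] at h1
  have h2 : (hp k L F).natDegree = d := by exact_mod_cast h1.symm
  rw [hv, alphaL_toPV, ← K847.PolyOrd.coeff_pos_iff_alpha_pos, ← h2]
  exact H.pos F _ hF h0 (isHilbPoly_hp H hF)

theorem dim_of_alpha_pos {d : ℕ} {F : X.Modules} (hF : okd k L d F) (h0 : ¬ IsZero F)
    (hα : 0 < alphaL d (hv k L F)) :
    topologicalKrullDim (CohB1.support F) = (d : WithBot ℕ∞) := by
  rw [natDegree_eq H hF.1 h0]
  rw [hv, alphaL_toPV, ← K847.PolyOrd.coeff_pos_iff_alpha_pos] at hα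
  have := le_antisymm hF.2 (le_natDegree_of_ne_zero hα.ne')
  rw [this]

theorem okd_of_pure [IsLocallyNoetherian X] {d : ℕ} {E : X.Modules} (hE : Coh.IsCoh E)
    (hp : ShStab.IsPure X E d) : okd k L d E := by
  refine ⟨hE, ?_⟩
  by_cases h0 : IsZero E
  · rw [hp_zero H h0]; simp
  · have h1 := hp E (𝟙 E) inferInstance hE h0
    rw [natDegree_eq H hE h0] at h1
    exact (by exact_mod_cast h1 : (Gies.hp k L E).natDegree = d).le

theorem isPure_iff [IsLocallyNoetherian X] {d : ℕ} {E : X.Modules} (hE : okd k L d E) :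
    ShStab.IsPure X E d ↔ HomAbs.PosMult (okd k L d) (hv k L) (alphaL d) E := by
  constructor
  · intro h F ι hι hF h0
    exact alpha_pos_of_dim H hF.1 h0 (h F ι hι hF.1 h0)
  · intro h F ι hι hF h0
    have hF' : okd k L d F := okd_of_mono H ι hF hE
    exact dim_of_alpha_pos H hF' h0 (h F ι hι hF' h0)

omit H in
theorem redLE_iff {d : ℕ} {F G : X.Modules} :
    StabCat.RedLE d (hp k L F) (hp k L G) ↔
      alphaL d (hv k L G) • hv k L F ≤ alphaL d (hv k L F) • hv k L G := by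
  unfold hv
  rw [alphaL_toPV, alphaL_toPV, ← toPV_smul, ← toPV_smul, toPV_le]
  rfl

omit H in
theorem redLT_iff {d : ℕ} {F G : X.Modules} :
    StabCat.RedLT d (hp k L F) (hp k L G) ↔
      alphaL d (hv k L G) • hv k L F < alphaL d (hv k L F) • hv k L G := by
  unfold hv
  rw [alphaL_toPV, alphaL_toPV, ← toPV_smul, ← toPV_smul, toPV_lt]
  rfl

omit H in
theorem redEq_iff {d : ℕ} {F G : X.Modules} :
    StabCat.RedEq d (hp k L F) (hp k L G) ↔
      alphaL d (hv k L G) • hv k L F = alphaL d (hv k L F) • hv k L G := by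
  unfold hv
  rw [alphaL_toPV, alphaL_toPV, ← toPV_smul, ← toPV_smul, toPV_injective.eq_iff]
  rfl

/-- `StabCat.IsSS` in abstract terms. -/
theorem isSS_iff [IsLocallyNoetherian X] {d : ℕ} {E : X.Modules} (hE : okd k L d E) :
    StabCat.IsSS Coh.IsCoh (ShStab.IsHilbPoly k X L) d E ↔
      JH.SS (okd k L d) (hv k L) (alphaL d) E := by
  constructor
  · intro h F ι hι hF
    by_cases h0 : IsZero F
    · rw [(add_okd H d).v_zero h0]; simp
    by_cases hi : IsIso ι
    · have e := (add_okd H d).v_iso (asIso ι) hF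
      rw [e]
    · rw [← redLE_iff]
      exact h F ι hι hF.1 h0 hi _ _ (isHilbPoly_hp H hF.1) (isHilbPoly_hp H hE.1)
  · intro h F ι hι hF h0 hi pF pE hpF hpE
    rw [isHilbPoly_iff H hF] at hpF
    rw [isHilbPoly_iff H hE.1] at hpE
    subst hpF hpE
    rw [redLE_iff]
    exact h F ι hι (okd_of_mono H ι hF hE)

/-- `StabCat.IsSt` in abstract terms. -/
theorem isSt_iff [IsLocallyNoetherian X] {d : ℕ} {E : X.Modules} (hE : okd k L d E) :
    StabCat.IsSt Coh.IsCoh (ShStab.IsHilbPoly k X L) d E ↔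
      JH.St (okd k L d) (hv k L) (alphaL d) E := by
  constructor
  · intro h F ι hι hF h0 hi
    rw [← redLT_iff]
    exact h F ι hι hF.1 h0 hi _ _ (isHilbPoly_hp H hF.1) (isHilbPoly_hp H hE.1)
  · intro h F ι hι hF h0 hi pF pE hpF hpE
    rw [isHilbPoly_iff H hF] at hpF
    rw [isHilbPoly_iff H hE.1] at hpE
    subst hpF hpE
    rw [redLT_iff]
    exact h F ι hι (okd_of_mono H ι hF hE) h0 hi

/-- Semistability in abstract terms. -/
theorem isSemistable_iff [IsLocallyNoetherian X] {d : ℕ} {E : X.Modules} :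
    ShStab.IsSemistable k X L E d ↔ okd k L d E ∧ ¬ IsZero E ∧
      HomAbs.PosMult (okd k L d) (hv k L) (alphaL d) E ∧
      JH.SS (okd k L d) (hv k L) (alphaL d) E := by
  constructor
  · rintro ⟨h1, h2, h3, h4⟩
    have hE := okd_of_pure H h1 h3
    exact ⟨hE, h2, (isPure_iff H hE).mp h3, (isSS_iff H hE).mp h4⟩
  · rintro ⟨h1, h2, h3, h4⟩
    exact ⟨h1.1, h2, (isPure_iff H h1).mpr h3, (isSS_iff H h1).mpr h4⟩

/-- Stability in abstract terms. -/
theorem isStable_iff [IsLocallyNoetherian X] {d : ℕ} {E : X.Modules} :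
    ShStab.IsStable k X L E d ↔ okd k L d E ∧ ¬ IsZero E ∧
      HomAbs.PosMult (okd k L d) (hv k L) (alphaL d) E ∧
      JH.St (okd k L d) (hv k L) (alphaL d) E := by
  constructor
  · rintro ⟨h1, h2, h3, h4⟩
    have hE := okd_of_pure H h1 h3
    exact ⟨hE, h2, (isPure_iff H hE).mp h3, (isSt_iff H hE).mp h4⟩
  · rintro ⟨h1, h2, h3, h4⟩
    exact ⟨h1.1, h2, (isPure_iff H h1).mpr h3, (isSt_iff H h1).mpr h4⟩

omit H in
/-- Stable implies semistable. -/
theorem isSemistable_of_isStable {d : ℕ} {E : X.Modules}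
    (h : ShStab.IsStable k X L E d) : ShStab.IsSemistable k X L E d := by
  refine ⟨h.1, h.2.1, h.2.2.1, fun F ι hι hF h0 hi pF pE hpF hpE => ?_⟩
  exact K847.PolyOrd.redLE_of_redLT (h.2.2.2 F ι hι hF h0 hi pF pE hpF hpE)

theorem alpha_pos [IsLocallyNoetherian X] {d : ℕ} {E : X.Modules} (hE : Coh.IsCoh E)
    (h0 : ¬ IsZero E) (hp : ShStab.IsPure X E d) : 0 < alphaL d (hv k L E) :=
  alpha_pos_of_dim H hE h0 (hp E (𝟙 E) inferInstance hE h0)

end K846.Gies
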