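import Groth.Agent.ShStab.K846.Gies
import Groth.Agent.ShStab.K847.HilbBasic

/-!
# `HilbFacts` for polarised proper schemes over a field
-/

set_option autoImplicit false
universe u
open CategoryTheory CategoryTheory.Limits AlgebraicGeometry Polynomial

namespace K846.Facts

open K847.HilbBasic

/-- The multiplicity of an integer-valued polynomial is an integer. -/
theorem alpha_int : ∀ (d : ℕ) (P : ℚ[X]), P.natDegree ≤ d → (∀ m : ℕ, ∃ z : ℤ, P.eval (m : ℚ) = z) →
    ∃ z : ℤ, StabCat.alpha d P = z := by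
  intro d
  induction d with
  | zero =>
    intro P hP h
    obtain ⟨z, hz⟩ := h 0
    refine ⟨z, ?_⟩
    rw [← hz, StabCat.alpha, Nat.factorial_zero, Nat.cast_one, one_mul, Nat.cast_zero,
      ← coeff_zero_eq_eval_zero]
  | succ d ih =>
    intro P hP h
    have hc : ∀ r : ℕ, d ≤ r → (P.comp (Polynomial.X + C 1) - P).coeff r =
        (r + 1) * 1 * P.coeff (r + 1) :=
      fun r hr => coeff_comp_sub (hP.trans (by omega)) 1
    have hdeg : (P.comp (Polynomial.X + C 1) - P).natDegree ≤ d := by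
      rw [natDegree_le_iff_coeff_eq_zero]
      intro N hN
      rw [hc N hN.le, coeff_eq_zero_of_natDegree_lt (by omega), mul_zero]
    obtain ⟨z, hz⟩ := ih _ hdeg fun m => by
      obtain ⟨a, ha⟩ := h m
      obtain ⟨b, hb⟩ := h (m + 1)
      refine ⟨b - a, ?_⟩
      push_cast at hb ⊢
      rw [eval_sub, eval_comp, eval_add, eval_X, eval_C, ha, hb]
    refine ⟨z, ?_⟩
    rw [← hz, StabCat.alpha, StabCat.alpha, hc d le_rfl, Nat.factorial_succ]
    push_cast
    ring

variable (k : Type u) [Field k] {X : Scheme.{u}} [X.Over (Spec (CommRingCat.of k))]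
  [IsProper (X ↘ Spec (CommRingCat.of k))]

/-- The basic facts on Hilbert polynomials. -/
theorem hilbFacts {L : X.Modules} (hL : CohB1.IsAmple L) : Gies.HilbFacts k X L where
  ex F hF := exists_hilbPoly k hL.1 hF
  add S hS h₁ h₂ h₃ P Q hP hQ := by
    obtain ⟨R, hR⟩ := exists_hilbPoly k hL.1 h₂
    rw [← hilbPoly_add k hL.1 S hS h₁ h₂ h₃ hP hR hQ]
    exact hR
  dim F P hF h0 hP := by
    obtain ⟨d, hd⟩ := exists_dim_support_eq k h0
    rw [natDegree_eq k hL hF hd hP, hd]
  pos F P hF h0 hP := leadingCoeff_pos k hL hF h0 hP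
  nat F P d hF hP hd := by
    obtain ⟨z, hz⟩ := alpha_int d P hd fun m => ⟨_, (hP m).symm⟩
    have h0 : 0 ≤ StabCat.alpha d P := by
      by_cases h0 : IsZero F
      · rw [hilbPoly_eq_zero k h0 hP, K847.PolyOrd.alpha_zero]
      · obtain ⟨e, he⟩ := exists_dim_support_eq k h0
        refine alpha_nonneg k hL hF ?_ hP
        rw [he]
        rw [natDegree_eq k hL hF he hP] at hd
        exact_mod_cast hd
    rw [hz] at h0
    have h1 : 0 ≤ z := by exact_mod_cast h0
    refine ⟨z.toNat, ?_⟩
    rw [hz]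
    exact_mod_cast (Int.toNat_of_nonneg h1).symm

end K846.Facts
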