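import Groth.Agent.ShStab.K846.OpenFib

/-!
# Openness of the stability conditions, given the two inputs
-/

set_option autoImplicit false
universe u
open CategoryTheory CategoryTheory.Limits AlgebraicGeometry StabCat

namespace K846.OpenFinal

open K849.PolyOrd BadPoly FieldPt OpenMain OpenFib

variable {X S : Scheme.{u}} [IsLocallyNoetherian S] (f : X ⟶ S) [IsProper f] {L : X.Modules}
  (hLi : PicF.IsInvertible L) (hamp : FAmple f L) {F : X.Modules} (hF : Coh.IsCoh F)
  {P : Polynomial ℚ} {d : ℕ}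
  (hP : ∀ s : S, @ShStab.IsHilbPoly (S.residueField s) _ (f.fiber s)
    (fibOver f s) (CohIII.fiberMod f L s) (CohIII.fiberMod f F s) P)
  (hd : ∀ s : S, topologicalKrullDim (CohB1.support (CohIII.fiberMod f F s)) = (d : WithBot ℕ∞))

include hamp hF hP hd

/-- The degree and the leading coefficient of the Hilbert polynomial. -/
theorem natDegree_and_alpha (s : S) : P.natDegree ≤ d ∧ 0 < alpha d P := by
  let := fibOver f s
  have : IsProper (f.fiber s ↘ Spec (CommRingCat.of (S.residueField s))) := isProper_fiber f s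
  have : IsLocallyNoetherian X := LocallyOfFiniteType.isLocallyNoetherian f
  have := Ascent.isLocallyNoetherian_of_proper (S.residueField s) (f.fiber s)
  have hLs := isAmple_fiber f hamp s
  have Hs := Facts.hilbFacts (S.residueField s) hLs
  have hFs : Coh.IsCoh (CohIII.fiberMod f F s) :=
    Groth.Agent.FormalA.PullbackQC.isCoh_pullback _ _ hF
  have hps : Gies.hp (S.residueField s) (CohIII.fiberMod f L s) (CohIII.fiberMod f F s) = P :=
    Gies.hp_eq (hP s)
  have hnz : ¬ IsZero (CohIII.fiberMod f F s) := by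
    intro hz
    have h1 := hd s
    rw [K847.HilbBasic.dim_support_isZero hz] at h1
    exact absurd h1 (by simp)
  have h1 := Gies.natDegree_eq Hs hFs hnz
  rw [hps, hd s] at h1
  have h2 : P.natDegree = d := by exact_mod_cast h1.symm
  have h3 := Gies.alpha_pos_of_dim Hs hFs hnz (hd s)
  rw [Gies.hv, alphaL_toPV, hps] at h3
  exact ⟨h2.le, h3⟩

include hLi

variable (hGL : P.natDegree ≤ d → 0 < alpha d P → GLem f L F d (alpha d P) (hatSlope d P))
  (hQ : ∀ Φ : Polynomial ℚ, IsClosed (Z f L F (fun Q => Q = Φ)))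

include hGL hQ

theorem isOpen_of_bad {B : Polynomial ℚ → Prop}
    (hB : P.natDegree ≤ d → 0 < alpha d P → BadSet d P B) (T : Set S)
    (hT : P.natDegree ≤ d → 0 < alpha d P → ∀ s, s ∈ T ↔ s ∉ Z f L F (fun Q => B (P - Q))) :
    IsOpen T := by
  rcases isEmpty_or_nonempty S with hS | ⟨⟨s⟩⟩
  · have : T = ∅ := Set.eq_empty_of_isEmpty T
    rw [this]
    exact isOpen_empty
  · obtain ⟨h1, h2⟩ := natDegree_and_alpha f hamp hF hP hd s
    have h3 := isClosed_Z_bad hLi hamp hF (fHilb_of_fiber f hLi hF hP) h1 h2 (hB h1 h2) (hGL h1 h2) hQ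
    have : T = (Z f L F (fun Q => B (P - Q)))ᶜ := by
      ext s
      exact hT h1 h2 s
    rw [this]
    exact h3.isOpen_compl

theorem isOpen_semistable : IsOpen {s : S | @ShStab.IsSemistable (S.residueField s) _ (f.fiber s)
    (fibOver f s) (CohIII.fiberMod f L s) (CohIII.fiberMod f F s) d} :=
  isOpen_of_bad f hLi hamp hF hP hd hGL hQ (B := Bss d P) (fun h1 h2 => badSet_ss h1 h2) _
    fun h1 h2 s => isSemistable_iff f hLi hamp hF (fHilb_of_fiber f hLi hF hP) h1 h2 s

theorem isOpen_geomStable : IsOpen {s : S | @ShStab.IsGeomStable (S.residueField s) _ (f.fiber s)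
    (fibOver f s) (CohIII.fiberMod f L s) (CohIII.fiberMod f F s) d} :=
  isOpen_of_bad f hLi hamp hF hP hd hGL hQ (B := Bst d P) (fun h1 h2 => badSet_st h1 h2) _
    fun h1 h2 s => isGeomStable_iff f hLi hamp hF (fHilb_of_fiber f hLi hF hP) h1 h2 s

theorem isOpen_ellSemistable {ℓ : ℕ} (hℓ : 1 ≤ ℓ) :
    IsOpen {s : S | @ShStab.IsEllSemistable (S.residueField s) _ (f.fiber s)
      (fibOver f s) (CohIII.fiberMod f L s) (CohIII.fiberMod f F s) d ℓ} :=
  isOpen_of_bad f hLi hamp hF hP hd hGL hQ (B := Blss d ℓ P) (fun _ h2 => badSet_lss hℓ h2) _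
    fun h1 h2 s => isEllSemistable_iff f hLi hamp hF (fHilb_of_fiber f hLi hF hP) h1 h2 ℓ s

theorem isOpen_geomEllStable {ℓ : ℕ} (hℓ : 1 ≤ ℓ) :
    IsOpen {s : S | ∀ (K : Type u) [Field K] [Algebra (S.residueField s) K],
      letI := fibOver f s
      ShStab.IsEllStable K (Curv2.bc (S.residueField s) (f.fiber s) K)
        ((Scheme.Modules.pullback (Curv2.bcFst (S.residueField s) (f.fiber s) K)).obj
          (CohIII.fiberMod f L s))
        ((Scheme.Modules.pullback (Curv2.bcFst (S.residueField s) (f.fiber s) K)).obj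
          (CohIII.fiberMod f F s)) d ℓ} :=
  isOpen_of_bad f hLi hamp hF hP hd hGL hQ (B := Blst d ℓ P) (fun _ h2 => badSet_lst hℓ h2) _
    fun h1 h2 s => isGeomEllStable_iff f hLi hamp hF (fHilb_of_fiber f hLi hF hP) h1 h2 ℓ s

end K846.OpenFinal
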