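import Groth.Agent.ShStab.K846.GLFam
import Groth.Agent.ShStab.K846.OpenFinal
import Groth.Agent.CalgB.ProjImm2

/-!
# Openness of the stability conditions: relatively very ample polarisations
-/

set_option autoImplicit false
universe u
open CategoryTheory CategoryTheory.Limits AlgebraicGeometry StabCat

namespace K846.OpenVA

open Groth.Agent Groth.Agent.Fga.QTDefs Groth.Agent.Fga.QT6a K846.FieldPt K846.OpenMain K846.Localize K846.OpenFib

variable {X S : Scheme.{u}} {f : X ⟶ S} {L F : X.Modules}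

theorem exists_toPS [IsProper f] (hL : RelAmple.IsRelVeryAmplePn f L) :
    ∃ (n : ℕ) (g₀ : X ⟶ PZ n), IsClosedImmersion (toPS g₀ f) ∧
      Nonempty (L ≅ (Scheme.Modules.pullback g₀).obj (Twist.twistProjSpace n (ULift.{u} ℤ) 1)) := by
  obtain ⟨n, i, hi, hf, ⟨e⟩⟩ := hL
  change i ≫ CohB1.ProjSpaceOver.toBase n S = f at hf
  have hp : IsProper (i ≫ CohB1.ProjSpaceOver.toBase n S) := by rw [hf]; infer_instance
  have hsep : IsSeparated (CohB1.ProjSpaceOver.toBase n S) := by
    have := Ega3B.ProjProper.isProper_toBase n S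
    infer_instance
  have hcl : IsClosedImmersion i :=
    CalgB.ProjImm.isClosedImmersion_of_isImmersion_of_isProper i (CohB1.ProjSpaceOver.toBase n S)
  have hi' := eq_toPS i
  rw [hf] at hi'
  refine ⟨n, i ≫ prZ n S, hi' ▸ hcl, ⟨e ≪≫ ?_⟩⟩
  exact (Scheme.Modules.pullbackComp i (prZ n S)).app _

theorem isInvertible_of_veryAmple [IsProper f] (hL : RelAmple.IsRelVeryAmplePn f L) : PicF.IsInvertible L := by
  obtain ⟨n, g₀, -, ⟨e⟩⟩ := exists_toPS hL
  exact Ega2.VeryAmpleAmple.isInvertible_of_iso e.symm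
    (Fdesc.LocGen.isInvertible_pullback _ (FormalB.TwistGen.isInvertible_twistProjSpace n _ 1))

/-- The set of points over which there is a quotient with given Hilbert polynomial is closed. -/
theorem isClosed_Z [IsProper f] [IsLocallyNoetherian S] (hL : RelAmple.IsRelVeryAmplePn f L) (hF : Coh.IsCoh F)
    (Φ : Polynomial ℚ) : IsClosed (Z f L F (fun Q => Q = Φ)) := by
  refine isClosed_Z_of_cover f F (isInvertible_of_veryAmple hL) _ fun s => ?_
  obtain ⟨_, ⟨V, hV, rfl⟩, hsV, -⟩ :=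
    S.isBasis_affineOpens.exists_subset_of_mem_open (Set.mem_univ s) isOpen_univ
  let V' : S.Opens := V
  have : IsAffine (V' : Scheme.{u}) := hV
  refine ⟨V', V'.ι, inferInstance, ⟨⟨s, hsV⟩, rfl⟩, ?_⟩
  have hL' := K385.VeryAmpleBC.of_isPullback (IsPullback.of_hasPullback f V'.ι) hL
  obtain ⟨n, g₀, hcl, ⟨e⟩⟩ := exists_toPS hL'
  exact QClosed.isClosed_Z e (FormalA.PullbackQC.isCoh_pullback _ _ hF) Φ

/-- **Grothendieck's lemma for families.** -/
theorem gls [IsProper f] [IsNoetherian S] (hL : RelAmple.IsRelVeryAmplePn f L) (hF : Coh.IsCoh F)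
    (d : ℕ) (a₀ μ₀ : ℚ) : GLS f L F d a₀ μ₀ := by
  obtain ⟨J, hJ, V, hV, hc⟩ := Ega2.H287.FinGenFree.exists_cover S
  refine gls_of_cover f F (ι := J) (fun j => (V j : Scheme.{u})) (fun j => (V j).ι) (fun s => ?_) fun j => ?_
  · have h1 : s ∈ (⨆ j, V j : S.Opens) := by rw [hc]; trivial
    obtain ⟨j, hj⟩ := TopologicalSpace.Opens.mem_iSup.1 h1
    exact ⟨j, ⟨s, hj⟩, rfl⟩
  · have : IsAffine (V j : Scheme.{u}) := hV j
    have hL' := K385.VeryAmpleBC.of_isPullback (IsPullback.of_hasPullback f (V j).ι) hL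
    obtain ⟨n, g₀, hcl, ⟨e⟩⟩ := exists_toPS hL'
    exact GLFam.gls e (FormalA.PullbackQC.isCoh_pullback _ _ hF) d a₀ μ₀

section Open

variable [IsNoetherian S] (f) [IsProper f] (hL : RelAmple.IsRelVeryAmplePn f L) (hF : Coh.IsCoh F)
  {P : Polynomial ℚ} {d : ℕ}
  (hP : ∀ s : S, @ShStab.IsHilbPoly (S.residueField s) _ (f.fiber s)
    (fibOver f s) (CohIII.fiberMod f L s) (CohIII.fiberMod f F s) P)
  (hd : ∀ s : S, topologicalKrullDim (CohB1.support (CohIII.fiberMod f F s)) = (d : WithBot ℕ∞))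

include hL hF hP hd

/-- **Openness of semistability.** -/
theorem isOpen_semistable : IsOpen {s : S | @ShStab.IsSemistable (S.residueField s) _ (f.fiber s)
    (fibOver f s) (CohIII.fiberMod f L s) (CohIII.fiberMod f F s) d} :=
  OpenFinal.isOpen_semistable f (isInvertible_of_veryAmple hL) (fAmple_of_veryAmple hL) hF hP hd
    (fun _ _ => (gls hL hF d _ _).gLem) (isClosed_Z hL hF)

/-- **Openness of geometric stability.** -/
theorem isOpen_geomStable : IsOpen {s : S | @ShStab.IsGeomStable (S.residueField s) _ (f.fiber s)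
    (fibOver f s) (CohIII.fiberMod f L s) (CohIII.fiberMod f F s) d} :=
  OpenFinal.isOpen_geomStable f (isInvertible_of_veryAmple hL) (fAmple_of_veryAmple hL) hF hP hd
    (fun _ _ => (gls hL hF d _ _).gLem) (isClosed_Z hL hF)

/-- **Openness of `ℓ`-semistability.** -/
theorem isOpen_ellSemistable {ℓ : ℕ} (hℓ : 1 ≤ ℓ) :
    IsOpen {s : S | @ShStab.IsEllSemistable (S.residueField s) _ (f.fiber s)
      (fibOver f s) (CohIII.fiberMod f L s) (CohIII.fiberMod f F s) d ℓ} :=
  OpenFinal.isOpen_ellSemistable f (isInvertible_of_veryAmple hL) (fAmple_of_veryAmple hL) hF hP hd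
    (fun _ _ => (gls hL hF d _ _).gLem) (isClosed_Z hL hF) hℓ

/-- **Openness of geometric `ℓ`-stability.** -/
theorem isOpen_geomEllStable {ℓ : ℕ} (hℓ : 1 ≤ ℓ) :
    IsOpen {s : S | ∀ (K : Type u) [Field K] [Algebra (S.residueField s) K],
      letI := fibOver f s
      ShStab.IsEllStable K (Curv2.bc (S.residueField s) (f.fiber s) K)
        ((Scheme.Modules.pullback (Curv2.bcFst (S.residueField s) (f.fiber s) K)).obj
          (CohIII.fiberMod f L s))
        ((Scheme.Modules.pullback (Curv2.bcFst (S.residueField s) (f.fiber s) K)).obj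
          (CohIII.fiberMod f F s)) d ℓ} :=
  OpenFinal.isOpen_geomEllStable f (isInvertible_of_veryAmple hL) (fAmple_of_veryAmple hL) hF hP hd
    (fun _ _ => (gls hL hF d _ _).gLem) (isClosed_Z hL hF) hℓ

end Open

end K846.OpenVA
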