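import Groth.Agent.ShStab.K846.JH

/-!
# Morphisms between (semi)stable objects, abstract form
-/

set_option autoImplicit false
set_option linter.unusedSectionVars false

universe v u w

open CategoryTheory CategoryTheory.Limits

namespace K846.HomAbs

open K846.JH

variable {C : Type u} [Category.{v} C] [Abelian C]
variable {V : Type w} [AddCommGroup V] [LinearOrder V] [IsOrderedAddMonoid V] [Module ℚ V]
  [PosSMulStrictMono ℚ V]
variable {ok : C → Prop} {P : C → V} {α : V →ₗ[ℚ] ℚ}

/-- Purity: nonzero tested subobjects have positive multiplicity. -/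
def PosMult (ok : C → Prop) (P : C → V) (α : V →ₗ[ℚ] ℚ) (E : C) : Prop :=
  ∀ (F : C) (ι : F ⟶ E), Mono ι → ok F → ¬ IsZero F → 0 < α (P F)

/-- `P (ker φ) + P (im φ) = P F`. -/
theorem P_kernel_add_image (h : Lat.Add ok P) {F G : C} (hF : ok F) (hG : ok G) (φ : F ⟶ G) :
    P F = P (kernel φ) + P (Abelian.image φ) := by
  have hk := h.ok_kernel φ hF hG
  have hi := h.ok_image φ hF hG
  have e : cokernel (kernel.ι φ) ≅ Abelian.image φ := Abelian.coimageIsoImage φ
  have h1 := h.v_cokernel (kernel.ι φ) hk hF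
  have h2 := h.v_iso e (h.ok_cokernel _ hk hF)
  rw [← h2, h1]; abel

theorem image_not_isZero {F G : C} {φ : F ⟶ G} (hφ : φ ≠ 0) : ¬ IsZero (Abelian.image φ) := by
  intro hz
  apply hφ
  rw [← Abelian.image.fac φ, hz.eq_of_tgt (Abelian.factorThruImage φ) 0, zero_comp]

/-- The image of a nonzero map from a semistable object: `p(F) ≤ p(im φ)`. -/
theorem le_image (h : Lat.Add ok P) {F G : C} (hF : ok F) (hG : ok G) (hss : SS ok P α F)
    (φ : F ⟶ G) : α (P (Abelian.image φ)) • P F ≤ α (P F) • P (Abelian.image φ) := by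
  have hk := hss _ (kernel.ι φ) inferInstance (h.ok_kernel φ hF hG)
  have e := P_kernel_add_image h hF hG φ
  have e1 : P (Abelian.image φ) = P F - P (kernel φ) := by rw [e]; abel
  rw [e1, map_sub, sub_smul, smul_sub]
  exact sub_le_sub_left hk _

/-- The strict form for a stable object and a map with nonzero kernel. -/
theorem lt_image (h : Lat.Add ok P) {F G : C} (hF : ok F) (hG : ok G) (hst : St ok P α F)
    (φ : F ⟶ G) (hφ : φ ≠ 0) (hm : ¬ Mono φ) :
    α (P (Abelian.image φ)) • P F < α (P F) • P (Abelian.image φ) := by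
  have hz : ¬ IsZero (kernel φ) := fun hz => hm (Preadditive.mono_of_isZero_kernel φ hz)
  have hi : ¬ IsIso (kernel.ι φ) := by
    intro hi
    apply hφ
    have := kernel.condition φ
    rwa [← cancel_epi (kernel.ι φ), comp_zero]
  have hk := hst _ (kernel.ι φ) inferInstance (h.ok_kernel φ hF hG) hz hi
  have e := P_kernel_add_image h hF hG φ
  have e1 : P (Abelian.image φ) = P F - P (kernel φ) := by rw [e]; abel
  rw [e1, map_sub, sub_smul, smul_sub]
  exact sub_lt_sub_left hk _

/-- There is no nonzero map from a semistable object to a semistable one with smaller reduced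
invariant. -/
theorem hom_eq_zero (h : Lat.Add ok P) {F G : C} (hF : ok F) (hG : ok G) (hssF : SS ok P α F)
    (hssG : SS ok P α G) (hpG : PosMult ok P α G) (hαF : 0 < α (P F)) (hαG : 0 < α (P G))
    (hlt : α (P F) • P G < α (P G) • P F) (φ : F ⟶ G) : φ = 0 := by
  by_contra hφ
  have hI := h.ok_image φ hF hG
  have hz := image_not_isZero hφ
  have hαI : 0 < α (P (Abelian.image φ)) := hpG _ (Abelian.image.ι φ) inferInstance hI hz
  have h1 := le_image h hF hG hssF φ
  have h2 := hssG _ (Abelian.image.ι φ) inferInstance hI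
  have h3 : α (P (Abelian.image φ)) • (α (P F) • P G) < α (P (Abelian.image φ)) • (α (P G) • P F) :=
    smul_lt_smul_of_pos_left hlt hαI
  have h4 : α (P G) • (α (P (Abelian.image φ)) • P F) ≤ α (P G) • (α (P F) • P (Abelian.image φ)) :=
    smul_le_smul_of_nonneg_left h1 hαG.le
  have h5 : α (P F) • (α (P G) • P (Abelian.image φ)) ≤ α (P F) • (α (P (Abelian.image φ)) • P G) :=
    smul_le_smul_of_nonneg_left h2 hαF.le
  rw [smul_comm (α (P G)) (α (P (Abelian.image φ)))] at h4
  rw [smul_comm (α (P F)) (α (P G)), smul_comm (α (P F)) (α (P (Abelian.image φ)))] at h5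
  exact absurd h3 (h4.trans h5).not_gt

/-- A nonzero map from a stable object to a semistable one with the same reduced invariant is mono. -/
theorem mono_of_stable (h : Lat.Add ok P) {F G : C} (hF : ok F) (hG : ok G) (hstF : St ok P α F)
    (hssG : SS ok P α G) (hpG : PosMult ok P α G) (hαF : 0 < α (P F)) (hαG : 0 < α (P G))
    (heq : α (P G) • P F = α (P F) • P G) (φ : F ⟶ G) (hφ : φ ≠ 0) : Mono φ := by
  by_contra hm
  have hI := h.ok_image φ hF hG
  have hz := image_not_isZero hφ
  have hαI : 0 < α (P (Abelian.image φ)) := hpG _ (Abelian.image.ι φ) inferInstance hI hz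
  have h1 := lt_image h hF hG hstF φ hφ hm
  have h2 := hssG _ (Abelian.image.ι φ) inferInstance hI
  have h4 : α (P G) • (α (P (Abelian.image φ)) • P F) < α (P G) • (α (P F) • P (Abelian.image φ)) :=
    smul_lt_smul_of_pos_left h1 hαG
  have h5 : α (P F) • (α (P G) • P (Abelian.image φ)) ≤ α (P F) • (α (P (Abelian.image φ)) • P G) :=
    smul_le_smul_of_nonneg_left h2 hαF.le
  rw [smul_comm (α (P G)) (α (P (Abelian.image φ))), heq,
    smul_comm (α (P (Abelian.image φ)))] at h4
  rw [smul_comm (α (P F)) (α (P G))] at h5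
  exact absurd h4 h5.not_gt

/-- A nonzero map from a semistable object to a stable one with the same reduced invariant is epi. -/
theorem epi_of_stable (h : Lat.Add ok P) {F G : C} (hF : ok F) (hG : ok G) (hssF : SS ok P α F)
    (hstG : St ok P α G) (hαF : 0 < α (P F)) (hαG : 0 < α (P G))
    (heq : α (P G) • P F = α (P F) • P G) (φ : F ⟶ G) (hφ : φ ≠ 0) : Epi φ := by
  by_contra hm
  have hI := h.ok_image φ hF hG
  have hz := image_not_isZero hφ
  have hni : ¬ IsIso (Abelian.image.ι φ) := by
    intro hi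
    apply hm
    rw [← Abelian.image.fac φ]
    exact epi_comp _ _
  have h1 := le_image h hF hG hssF φ
  have h2 := hstG _ (Abelian.image.ι φ) inferInstance hI hz hni
  have h4 : α (P G) • (α (P (Abelian.image φ)) • P F) ≤ α (P G) • (α (P F) • P (Abelian.image φ)) :=
    smul_le_smul_of_nonneg_left h1 hαG.le
  have h5 : α (P F) • (α (P G) • P (Abelian.image φ)) < α (P F) • (α (P (Abelian.image φ)) • P G) :=
    smul_lt_smul_of_pos_left h2 hαF
  rw [smul_comm (α (P G)) (α (P (Abelian.image φ))), heq,
    smul_comm (α (P (Abelian.image φ)))] at h4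
  rw [smul_comm (α (P F)) (α (P G))] at h5
  exact absurd h5 h4.not_gt

theorem isIso_of_mono (h : Lat.Add ok P) {F G : C} (hF : ok F) (hG : ok G)
    (hpos : ∀ M : C, ok M → ¬ IsZero M → 0 < P M) (he : P F = P G) (φ : F ⟶ G) [Mono φ] :
    IsIso φ := by
  have h1 : P (cokernel φ) = 0 := by rw [h.v_cokernel φ hF hG, he, sub_self]
  have h2 : IsZero (cokernel φ) := by
    by_contra hn
    exact (hpos _ (h.ok_cokernel φ hF hG) hn).ne' h1
  have := Preadditive.epi_of_isZero_cokernel φ h2
  exact isIso_of_mono_of_epi φ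

theorem isIso_of_epi (h : Lat.Add ok P) {F G : C} (hF : ok F) (hG : ok G)
    (hpos : ∀ M : C, ok M → ¬ IsZero M → 0 < P M) (he : P F = P G) (φ : F ⟶ G) [Epi φ] :
    IsIso φ := by
  have h1 : P (kernel φ) = 0 := by rw [h.v_kernel φ hF hG, he, sub_self]
  have h2 : IsZero (kernel φ) := by
    by_contra hn
    exact (hpos _ (h.ok_kernel φ hF hG) hn).ne' h1
  have := Preadditive.mono_of_isZero_kernel φ h2
  exact isIso_of_mono_of_epi φ

end K846.HomAbs
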