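import Groth.Agent.ShStab.K846.Lat
import Groth.Prelude.Def_StabCat
import Mathlib.Order.JordanHolder
import Mathlib.Order.Sublattice
import Mathlib.Algebra.Order.Module.Defs
import Mathlib.Algebra.Order.Module.Basic
import Mathlib.CategoryTheory.Limits.Shapes.Products
import Mathlib.Tactic.Linarith
import Mathlib.Tactic.Positivity
import Mathlib.Tactic.Module

/-!
# The lattice of subobjects with the same reduced invariant, and Jordan-Hölder filtrations
-/

set_option autoImplicit false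
set_option linter.unusedSectionVars false

universe v u w

open CategoryTheory CategoryTheory.Limits

namespace K846.JH

variable {C : Type u} [Category.{v} C] [Abelian C]
variable {V : Type w} [AddCommGroup V] [LinearOrder V] [IsOrderedAddMonoid V] [Module ℚ V]
  [PosSMulStrictMono ℚ V]

variable (ok : C → Prop) (P : C → V) (α : V →ₗ[ℚ] ℚ)

/-- Semistability with respect to an invariant in an ordered vector space. -/
def SS (E : C) : Prop :=
  ∀ (F : C) (ι : F ⟶ E), Mono ι → ok F → α (P E) • P F ≤ α (P F) • P E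

/-- Stability with respect to an invariant in an ordered vector space. -/
def St (E : C) : Prop :=
  ∀ (F : C) (ι : F ⟶ E), Mono ι → ok F → ¬ IsZero F → ¬ IsIso ι → α (P E) • P F < α (P F) • P E

/-- The tested subobjects with the same reduced invariant as `E` (and zero). -/
def mem {E : C} (F : Subobject E) : Prop :=
  ok (F : C) ∧ α (P E) • P (F : C) = α (P (F : C)) • P E

omit [Abelian C] in
theorem isZero_bot {C : Type u} [Category.{v} C] [Abelian C] {E : C} :
    IsZero ((⊥ : Subobject E) : C) :=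
  IsZero.of_mono_eq_zero _ Subobject.bot_arrow

theorem eq_bot_of_isZero {E : C} {F : Subobject E} (h : IsZero (F : C)) : F = ⊥ := by
  have h0 : F.arrow = 0 := h.eq_of_src _ _
  rw [← Subobject.mk_arrow F, Subobject.mk_eq_bot_iff_zero, h0]

theorem isZero_iff {E : C} {F : Subobject E} : IsZero (F : C) ↔ F = ⊥ :=
  ⟨eq_bot_of_isZero, fun h => by rw [h]; exact isZero_bot⟩

noncomputable def topIso (E : C) : ((⊤ : Subobject E) : C) ≅ E :=
  asIso (⊤ : Subobject E).arrow

variable {ok P α}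

theorem mem_bot (h : Lat.Add ok P) {E : C} : mem ok P α (⊥ : Subobject E) :=
  ⟨h.ok_zero isZero_bot, by rw [h.v_zero isZero_bot]; simp⟩

theorem P_top (h : Lat.Add ok P) {E : C} (hE : ok E) : P ((⊤ : Subobject E) : C) = P E :=
  (h.v_iso (topIso E).symm hE).symm

theorem ok_top (h : Lat.Add ok P) {E : C} (hE : ok E) : ok ((⊤ : Subobject E) : C) :=
  h.ok_iso (topIso E).symm hE

theorem mem_top (h : Lat.Add ok P) {E : C} (hE : ok E) : mem ok P α (⊤ : Subobject E) :=
  ⟨ok_top h hE, by rw [P_top h hE]⟩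

theorem SS.le {E : C} (hss : SS ok P α E) (F : Subobject E) (hF : ok (F : C)) :
    α (P E) • P (F : C) ≤ α (P (F : C)) • P E := hss _ F.arrow inferInstance hF

theorem mem_inf_sup (h : Lat.Add ok P) {E : C} (hE : ok E) (hss : SS ok P α E)
    {F G : Subobject E} (hF : mem ok P α F) (hG : mem ok P α G) :
    mem ok P α (F ⊓ G) ∧ mem ok P α (F ⊔ G) := by
  have hi := h.ok_inf hE F G hF.1 hG.1
  have hs := h.ok_sup hE F G hF.1 hG.1
  have h1 := hss.le _ hi
  have h2 := hss.le _ hs
  have h3 := h.v_sup_add_inf hE F G hF.1 hG.1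
  have h4 : α (P E) • P ((F ⊔ G : Subobject E) : C) + α (P E) • P ((F ⊓ G : Subobject E) : C) =
      α (P ((F ⊔ G : Subobject E) : C)) • P E + α (P ((F ⊓ G : Subobject E) : C)) • P E := by
    rw [← smul_add, h3, smul_add, hF.2, hG.2, ← add_smul, ← add_smul, ← map_add, ← map_add, h3]
  refine ⟨⟨hi, le_antisymm h1 ?_⟩, ⟨hs, le_antisymm h2 ?_⟩⟩
  · by_contra hlt
    exact absurd h4 (add_lt_add_of_le_of_lt h2 (lt_of_not_ge hlt)).ne
  · by_contra hlt
    exact absurd h4 (add_lt_add_of_lt_of_le (lt_of_not_ge hlt) h1).ne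

/-- The sublattice of subobjects with the same reduced invariant. -/
def lat (h : Lat.Add ok P) {E : C} (hE : ok E) (hss : SS ok P α E) : Sublattice (Subobject E) where
  carrier := {F | mem ok P α F}
  supClosed' := fun _ hF _ hG => (mem_inf_sup h hE hss hF hG).2
  infClosed' := fun _ hF _ hG => (mem_inf_sup h hE hss hF hG).1

instance (h : Lat.Add ok P) {E : C} (hE : ok E) (hss : SS ok P α E) :
    IsModularLattice (lat h hE hss) where
  sup_inf_le_assoc_of_le := fun {x} y {z} hxz => by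
    have := IsModularLattice.sup_inf_le_assoc_of_le (x := x.1) y.1 (z := z.1) hxz
    exact this

/-! ### Covering relations and stable factors -/

/-- If `Q / F` is stable with the reduced invariant of `E`, then `F ⋖ Q` in the lattice. -/
theorem covBy_of_stable (h : Lat.Add ok P) {E : C} (hE : ok E) (hss : SS ok P α E)
    (hpos : ∀ M : C, ok M → ¬ IsZero M → 0 < P M) (hα : α (P E) ≠ 0)
    {F Q : lat h hE hss} (hFQ : F < Q)
    (hst : St ok P α (cokernel (Subobject.ofLE F.1 Q.1 hFQ.le))) : F ⋖ Q := by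
  refine ⟨hFQ, fun {H} hFH hHQ => ?_⟩
  have hF := F.2
  have hQ := Q.2
  have hH := H.2
  have hFH' : F.1 ≤ H.1 := hFH.le
  have hHQ' : H.1 ≤ Q.1 := hHQ.le
  -- the subobject `H / F` of `Q / F`
  have hz : ¬ IsZero (cokernel (Subobject.ofLE F.1 H.1 hFH')) := by
    intro hz
    have := h.v_zero hz
    have hepi : Epi (Subobject.ofLE F.1 H.1 hFH') := Preadditive.epi_of_isZero_cokernel _ hz
    have hi := isIso_of_mono_of_epi (Subobject.ofLE F.1 H.1 hFH')
    have : H.1 ≤ F.1 := Subobject.le_of_comm (inv (Subobject.ofLE F.1 H.1 hFH'))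
      (by rw [IsIso.inv_comp_eq, Subobject.ofLE_arrow])
    exact absurd (le_antisymm hFH' this) (fun e => hFH.ne (Subtype.ext e))
  have hni : ¬ IsIso (Lat.quotIncl hFH' hHQ') := by
    intro hi
    have e := h.v_iso (asIso (Lat.quotIncl hFH' hHQ')) (h.ok_factor hFH' hF.1 hH.1)
    rw [h.v_factor _ hF.1 hH.1, h.v_factor _ hF.1 hQ.1, sub_left_inj] at e
    -- then `Q / H` is zero
    have hz2 : P (cokernel (Subobject.ofLE H.1 Q.1 hHQ')) = 0 := by
      rw [h.v_factor _ hH.1 hQ.1, e, sub_self]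
    have hz3 : IsZero (cokernel (Subobject.ofLE H.1 Q.1 hHQ')) := by
      by_contra hne
      exact (hpos _ (h.ok_factor hHQ' hH.1 hQ.1) hne).ne' hz2
    have hepi : Epi (Subobject.ofLE H.1 Q.1 hHQ') := Preadditive.epi_of_isZero_cokernel _ hz3
    have hi := isIso_of_mono_of_epi (Subobject.ofLE H.1 Q.1 hHQ')
    have : Q.1 ≤ H.1 := Subobject.le_of_comm (inv (Subobject.ofLE H.1 Q.1 hHQ'))
      (by rw [IsIso.inv_comp_eq, Subobject.ofLE_arrow])
    exact absurd (le_antisymm hHQ' this) (fun e => hHQ.ne (Subtype.ext e))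
  have key := hst _ (Lat.quotIncl hFH' hHQ') inferInstance (h.ok_factor hFH' hF.1 hH.1) hz hni
  rw [h.v_factor _ hF.1 hH.1, h.v_factor _ hF.1 hQ.1] at key
  have e1 : α (P E) • (P (H.1 : C) - P (F.1 : C)) = (α (P (H.1 : C)) - α (P (F.1 : C))) • P E := by
    rw [smul_sub, sub_smul, hH.2, hF.2]
  have e2 : α (P E) • (P (Q.1 : C) - P (F.1 : C)) = (α (P (Q.1 : C)) - α (P (F.1 : C))) • P E := by
    rw [smul_sub, sub_smul, hQ.2, hF.2]
  rw [map_sub, map_sub] at key
  refine key.ne ?_
  have e3 : α (P E) • ((α (P (Q.1 : C)) - α (P (F.1 : C))) • (P (H.1 : C) - P (F.1 : C))) =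
      α (P E) • ((α (P (H.1 : C)) - α (P (F.1 : C))) • (P (Q.1 : C) - P (F.1 : C))) := by
    rw [smul_comm, e1, smul_comm (α (P E)), e2, smul_comm]
  have := congrArg (fun z => (α (P E))⁻¹ • z) e3
  simpa only [smul_smul, inv_mul_cancel_left₀ hα] using this

theorem eq_of_isZero_factor {E : C} {F Q : Subobject E} (hFQ : F ≤ Q)
    (hz : IsZero (cokernel (Subobject.ofLE F Q hFQ))) : F = Q := by
  have hepi : Epi (Subobject.ofLE F Q hFQ) := Preadditive.epi_of_isZero_cokernel _ hz
  have hi := isIso_of_mono_of_epi (Subobject.ofLE F Q hFQ)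
  exact le_antisymm hFQ (Subobject.le_of_comm (inv (Subobject.ofLE F Q hFQ))
    (by rw [IsIso.inv_comp_eq, Subobject.ofLE_arrow]))

theorem P_lt_of_lt (h : Lat.Add ok P) (hpos : ∀ M : C, ok M → ¬ IsZero M → 0 < P M)
    {E : C} {F Q : Subobject E} (hF : ok (F : C)) (hQ : ok (Q : C)) (hFQ : F < Q) :
    P (F : C) < P (Q : C) := by
  have h1 := hpos _ (h.ok_factor hFQ.le hF hQ) (fun hz => hFQ.ne (eq_of_isZero_factor _ hz))
  rw [h.v_factor _ hF hQ] at h1
  exact sub_pos.mp h1

theorem P_le_of_le (h : Lat.Add ok P) (hpos : ∀ M : C, ok M → ¬ IsZero M → 0 < P M)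
    {E : C} {F Q : Subobject E} (hF : ok (F : C)) (hQ : ok (Q : C)) (hFQ : F ≤ Q) :
    P (F : C) ≤ P (Q : C) := by
  rcases hFQ.eq_or_lt with rfl | h1
  · exact le_rfl
  · exact (P_lt_of_lt h hpos hF hQ h1).le

/-- If `F ⋖ Q` in the lattice, then `Q / F` is pure and stable with the reduced invariant of `E`. -/
theorem stable_of_covBy (h : Lat.Add ok P) {E : C} (hE : ok E) (hss : SS ok P α E)
    (hpos : ∀ M : C, ok M → ¬ IsZero M → 0 < P M) (hα : 0 < α (P E))
    {F Q : lat h hE hss} (hFQ : F ⋖ Q) :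
    (∀ (T : C) (κ : T ⟶ cokernel (Subobject.ofLE F.1 Q.1 hFQ.le)), Mono κ → ok T → ¬ IsZero T →
      0 < α (P T)) ∧
    St ok P α (cokernel (Subobject.ofLE F.1 Q.1 hFQ.le)) ∧
    α (P E) • P (cokernel (Subobject.ofLE F.1 Q.1 hFQ.le)) =
      α (P (cokernel (Subobject.ofLE F.1 Q.1 hFQ.le))) • P E := by
  have hF := F.2
  have hQ := Q.2
  have hle : F.1 ≤ Q.1 := hFQ.le
  have key : ∀ (T : C) (κ : T ⟶ cokernel (Subobject.ofLE F.1 Q.1 hFQ.le)), Mono κ → ok T →
      α (P E) • P T ≤ α (P T) • P E := by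
    intro T κ hκ hT
    obtain ⟨H, h1, h2, h3, h4⟩ := h.exists_between hle hF.1 hQ.1 κ hT
    rw [h4, smul_sub, map_sub, sub_smul, hF.2]
    exact sub_le_sub_right (hss.le H h3) _
  have eQ : α (P E) • P (cokernel (Subobject.ofLE F.1 Q.1 hFQ.le)) =
      α (P (cokernel (Subobject.ofLE F.1 Q.1 hFQ.le))) • P E := by
    rw [h.v_factor hle hF.1 hQ.1, smul_sub, map_sub, sub_smul, hF.2, hQ.2]
  have hPE : 0 < P E := by
    refine hpos E hE fun hz => ?_
    rw [h.v_zero hz, map_zero] at hα
    exact hα.false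
  refine ⟨fun T κ hκ hT hz => ?_, fun T κ hκ hT hz hni => ?_, eQ⟩
  · have h1 := key T κ hκ hT
    have h2 : 0 < α (P E) • P T := smul_pos hα (hpos T hT hz)
    have h3 := h2.trans_le h1
    by_contra hn
    have h4 : α (P T) • P E ≤ 0 := smul_nonpos_of_nonpos_of_nonneg (not_lt.mp hn) hPE.le
    exact absurd h3 h4.not_gt
  · obtain ⟨H, h1, h2, h3, h4⟩ := h.exists_between hle hF.1 hQ.1 κ hT
    have h5 := key T κ hκ hT
    have h6 : α (P E) • P T ≠ α (P T) • P E := by
      intro he
      have hH : mem ok P α H := by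
        refine ⟨h3, ?_⟩
        rw [h4, smul_sub, map_sub, sub_smul, hF.2, sub_left_inj] at he
        exact he
      rcases hFQ.eq_or_eq (c := (⟨H, hH⟩ : lat h hE hss)) h1 h2 with h7 | h7
      · have h8 : H = F.1 := congrArg Subtype.val h7
        rw [h8, sub_self] at h4
        exact (hpos T hT hz).ne' h4
      · have h8 : H = Q.1 := congrArg Subtype.val h7
        apply hni
        have h9 : P (cokernel κ) = 0 := by
          rw [h.v_cokernel κ hT (h.ok_factor hle hF.1 hQ.1), h4, h8, h.v_factor hle hF.1 hQ.1,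
            sub_self]
        have h10 : IsZero (cokernel κ) := by
          by_contra hne
          exact (hpos _ (h.ok_cokernel κ hT (h.ok_factor hle hF.1 hQ.1)) hne).ne' h9
        have := Preadditive.epi_of_isZero_cokernel κ h10
        exact isIso_of_mono_of_epi κ
    have h7 : α (P E) • P T < α (P T) • P E := lt_of_le_of_ne h5 h6
    have hpQ : 0 < α (P (cokernel (Subobject.ofLE F.1 Q.1 hFQ.le))) := by
      have hne : ¬ IsZero (cokernel (Subobject.ofLE F.1 Q.1 hFQ.le)) := fun hz' =>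
        hFQ.ne (Subtype.ext (eq_of_isZero_factor _ hz'))
      have h2 : 0 < α (P E) • P (cokernel (Subobject.ofLE F.1 Q.1 hFQ.le)) :=
        smul_pos hα (hpos _ (h.ok_factor hle hF.1 hQ.1) hne)
      rw [eQ] at h2
      by_contra hn
      have h4 : α (P (cokernel (Subobject.ofLE F.1 Q.1 hFQ.le))) • P E ≤ 0 :=
        smul_nonpos_of_nonpos_of_nonneg (not_lt.mp hn) hPE.le
      exact absurd h2 h4.not_gt
    -- multiply by `α (P Q)` and use `eQ`
    have h8 : α (P E) • (α (P (cokernel (Subobject.ofLE F.1 Q.1 hFQ.le))) • P T) <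
        α (P E) • (α (P T) • P (cokernel (Subobject.ofLE F.1 Q.1 hFQ.le))) := by
      rw [smul_comm, smul_comm (α (P E)) (α (P T)), eQ, smul_comm (α (P T))]
      exact smul_lt_smul_of_pos_left h7 hpQ
    exact lt_of_smul_lt_smul_left h8 hα.le

end K846.JH
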