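import Groth.Agent.ShStab.K846.FinPush
import Groth.Agent.ShStab.K846.Twist
import Groth.Agent.VarietyB.ProjForm
import Groth.Agent.Ega3B.PullTensor
import Groth.Agent.Fdesc.LocGenPullback
import Mathlib.LinearAlgebra.Dimension.Finite
import Mathlib.LinearAlgebra.FreeModule.Finite.Basic

/-!
# Finite field extensions: pushforward and Hilbert polynomials
-/

set_option autoImplicit false
universe u
open CategoryTheory CategoryTheory.Limits AlgebraicGeometry TensorProduct Polynomial

namespace K846.FinExt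

attribute [local instance] Abelian.hasFiniteBiproducts

section Basis

variable (k k₁ : Type u) [Field k] [Field k₁] [Algebra k k₁]

/-- Functions on `Spec k₁` over functions on `Spec k`. -/
theorem nonempty_basis [Module.Finite k k₁] :
    letI := Groth.Agent.CurvesA.FlatH0.baseAlg (Spec.map (CommRingCat.ofHom (algebraMap k k₁)))
    Nonempty (Module.Basis (Fin (Module.finrank k k₁)) Γ(Spec (CommRingCat.of k), ⊤)
      Γ(Spec (CommRingCat.of k₁), ⊤)) := by
  let _ := Groth.Agent.CurvesA.FlatH0.baseAlg (Spec.map (CommRingCat.ofHom (algebraMap k k₁)))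
  let e : k ≃+* Γ(Spec (CommRingCat.of k), ⊤) :=
    (Scheme.ΓSpecIso (CommRingCat.of k)).symm.commRingCatIsoToRingEquiv
  let e₁ : k₁ ≃+* Γ(Spec (CommRingCat.of k₁), ⊤) :=
    (Scheme.ΓSpecIso (CommRingCat.of k₁)).symm.commRingCatIsoToRingEquiv
  have hcomm : ∀ c : k, algebraMap Γ(Spec (CommRingCat.of k), ⊤) Γ(Spec (CommRingCat.of k₁), ⊤) (e c) =
      e₁ (algebraMap k k₁ c) := by
    intro c
    exact congr($((Scheme.ΓSpecIso_inv_naturality (CommRingCat.ofHom (algebraMap k k₁))).symm) c)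
  let _ : Module k Γ(Spec (CommRingCat.of k₁), ⊤) :=
    Module.compHom _ (e₁.toRingHom.comp (algebraMap k k₁))
  let l : k₁ ≃ₗ[k] Γ(Spec (CommRingCat.of k₁), ⊤) :=
    { e₁ with
      map_smul' := fun c x => by
        change e₁ (c • x) = e₁ (algebraMap k k₁ c) * e₁ x
        rw [Algebra.smul_def, map_mul] }
  refine ⟨((Module.finBasis k k₁).map l).mapCoeffs e fun c x => ?_⟩
  rw [Algebra.smul_def, hcomm]
  rfl

end Basis

section HH

variable (k k₁ : Type u) [Field k] [Field k₁] [Algebra k k₁] {X : Scheme.{u}}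

theorem toGlobal_comp (q : X ⟶ Spec (CommRingCat.of k₁)) (c : k) :
    Coh.toGlobal (q ≫ Spec.map (CommRingCat.ofHom (algebraMap k k₁))) c =
      Coh.toGlobal q (algebraMap k k₁ c) := by
  have h := congr($((Scheme.ΓSpecIso_inv_naturality (CommRingCat.ofHom (algebraMap k k₁)))) c)
  change (q ≫ Spec.map (CommRingCat.ofHom (algebraMap k k₁))).appTop
    ((Scheme.ΓSpecIso (CommRingCat.of k)).inv c) = q.appTop _
  rw [Scheme.Hom.comp_appTop]
  exact congrArg q.appTop h.symm

/-- Euler characteristics over a subfield of finite index. -/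
theorem euler_restrict [Module.Finite k k₁] (q : X ⟶ Spec (CommRingCat.of k₁)) (M : X.Modules) :
    @Curv2.euler k _ X ⟨q ≫ Spec.map (CommRingCat.ofHom (algebraMap k k₁))⟩ M =
      Module.finrank k k₁ * @Curv2.euler k₁ _ X ⟨q⟩ M := by
  have h : ∀ i : ℕ, (@Module.finrank k (Coh.HH X M i) _ _
      (@Coh.moduleOver k _ X ⟨q ≫ Spec.map (CommRingCat.ofHom (algebraMap k k₁))⟩ M i)) =
      Module.finrank k k₁ * (@Module.finrank k₁ (Coh.HH X M i) _ _
      (@Coh.moduleOver k₁ _ X ⟨q⟩ M i)) := by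
    intro i
    let _ : Module k (Coh.HH X M i) :=
      @Coh.moduleOver k _ X ⟨q ≫ Spec.map (CommRingCat.ofHom (algebraMap k k₁))⟩ M i
    let _ : Module k₁ (Coh.HH X M i) := @Coh.moduleOver k₁ _ X ⟨q⟩ M i
    have : IsScalarTower k k₁ (Coh.HH X M i) := by
      refine IsScalarTower.of_algebraMap_smul fun c x => ?_
      change Coh.toGlobal q (algebraMap k k₁ c) • x =
        Coh.toGlobal (q ≫ Spec.map (CommRingCat.ofHom (algebraMap k k₁))) c • x
      rw [toGlobal_comp]
    exact (Module.finrank_mul_finrank k k₁ (Coh.HH X M i)).symm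
  unfold Curv2.euler
  rw [← smul_eq_mul, smul_finsum]
  refine finsum_congr fun i => ?_
  rw [h i, smul_eq_mul]
  push_cast
  ring

end HH

section Push

variable {k k₁ : Type u} [Field k] [Field k₁] [Algebra k k₁] [Module.Finite k k₁]
variable {X X' : Scheme.{u}} [X.Over (Spec (CommRingCat.of k))] [X'.Over (Spec (CommRingCat.of k₁))]
variable [IsProper (X ↘ Spec (CommRingCat.of k))]

/-- The Hilbert polynomial of a pushforward along a finite extension of the base field. -/
theorem isHilbPoly_push (g : X' ⟶ X) (H : IsPullback g (X' ↘ Spec (CommRingCat.of k₁))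
    (X ↘ Spec (CommRingCat.of k)) (Spec.map (CommRingCat.ofHom (algebraMap k k₁))))
    {L : X.Modules} (hL : PicF.IsInvertible L) {M : X'.Modules} (hM : Coh.IsCoh M) {P : ℚ[X]}
    (hP : ShStab.IsHilbPoly k₁ X' ((Scheme.Modules.pullback g).obj L) M P) :
    ShStab.IsHilbPoly k X L ((Coh.push g).obj M) ((Module.finrank k k₁ : ℚ) • P) := by
  intro m
  let φ := Spec.map (CommRingCat.ofHom (algebraMap k k₁))
  have hfin : (algebraMap k k₁).Finite := RingHom.finite_algebraMap.mpr ‹_›
  have : IsFinite φ := (IsFinite.SpecMap_iff _).mpr hfin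
  have : IsProper (X' ↘ Spec (CommRingCat.of k₁)) := MorphismProperty.of_isPullback H ‹_›
  have : IsFinite g := MorphismProperty.of_isPullback H.flip ‹_›
  let _ : X'.Over (Spec (CommRingCat.of k)) := ⟨(X' ↘ Spec (CommRingCat.of k₁)) ≫ φ⟩
  have hp : IsProper (X' ↘ Spec (CommRingCat.of k)) :=
    inferInstanceAs (IsProper ((X' ↘ Spec (CommRingCat.of k₁)) ≫ φ))
  have hLm := Groth.Agent.Fdesc.LocGen.isInvertible_tensorPow hL m
  obtain ⟨e1⟩ := Groth.Agent.Ega3B.PullTensor.nonempty_pullPowIso g hL m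
  let G := ShStab.twist _ ((Scheme.Modules.pullback g).obj L) M m
  have hG : Coh.IsCoh G := Twist.isCoh_twist
    (Groth.Agent.Fdesc.LocGen.isInvertible_pullback g hL) hM m
  let e : ShStab.twist _ L ((Coh.push g).obj M) m ≅ (Coh.push g).obj G :=
    Groth.Agent.Ega2.Tens.swap _ _ ≪≫
      Groth.Agent.VarietyB.ProjForm.projIso g
        (Groth.Agent.Fga.HodgePush.hasBases_of_isInvertible hLm) M ≪≫
      (Scheme.Modules.pushforward g).mapIso
        (Groth.Agent.Ega2.Tens.mapTIso e1 (Iso.refl _) ≪≫ Groth.Agent.Ega2.Tens.swap _ _)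
  have h1 := Groth.Agent.Fga.HodgePush.euler_push k X X' g H.w G hG
    (Groth.Agent.Fga.HodgePush.acyc_of_isAffineHom g hG.1)
  have h2 := euler_restrict k k₁ (X' ↘ Spec (CommRingCat.of k₁)) G
  rw [Groth.Agent.Fga.HodgePush.euler_congr k X e, ← h1]
  have h3 := hP m
  rw [eval_smul, smul_eq_mul, ← h3]
  refine (congrArg (fun z : ℤ => (z : ℚ)) h2).trans ?_
  push_cast
  rfl

end Push

end K846.FinExt
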