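import Groth.Agent.ShStab.K846.Lat

/-!
# Objects jointly embedded in an object
-/

set_option autoImplicit false

universe v u w

open CategoryTheory CategoryTheory.Limits

namespace K846.Joint

variable {C : Type u} [Category.{v} C] [Abelian C] {V : Type w} [AddCommGroup V]
variable {ok : C → Prop} {P : C → V}

/-- A property closed under extensions holds for objects with finitely many jointly monic maps to an
object all of whose subobjects have the property. -/
theorem of_jointly_mono (h : Lat.Add ok P) (Q : C → Prop)
    (hz : ∀ Z : C, ok Z → IsZero Z → Q Z) (hiso : ∀ {A B : C}, (A ≅ B) → Q A → Q B)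
    (hext : ∀ S : ShortComplex C, S.ShortExact → ok S.X₁ → ok S.X₂ → ok S.X₃ →
      Q S.X₁ → Q S.X₃ → Q S.X₂) {E : C} (hE : ok E)
    (hsub : ∀ (F : C) (ι : F ⟶ E), Mono ι → ok F → Q F) :
    ∀ (n : ℕ) (F : C), ok F → ∀ p : Fin n → (F ⟶ E),
      (∀ (T : C) (t : T ⟶ F), (∀ j, t ≫ p j = 0) → t = 0) → Q F := by
  intro n
  induction n with
  | zero =>
    intro F hF p hp
    refine hz F hF ?_
    rw [IsZero.iff_id_eq_zero]
    exact hp F (𝟙 F) fun j => j.elim0
  | succ n ih =>
    intro F hF p hp
    let φ := p (Fin.last n)
    have hk : ok (kernel φ) := h.ok_kernel φ hF hE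
    have hi : ok (Abelian.image φ) := h.ok_image φ hF hE
    have h1 : Q (kernel φ) := by
      refine ih (kernel φ) hk (fun j => kernel.ι φ ≫ p j.castSucc) fun T t ht => ?_
      have : t ≫ kernel.ι φ = 0 := by
        refine hp T _ fun j => ?_
        refine Fin.lastCases ?_ (fun i => ?_) j
        · rw [Category.assoc]
          exact (congrArg (t ≫ ·) (kernel.condition φ)).trans comp_zero
        · rw [Category.assoc]
          exact ht i
      rw [← cancel_mono (kernel.ι φ), this, zero_comp]
    have h2 : Q (Abelian.image φ) := hsub _ (Abelian.image.ι φ) inferInstance hi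
    have h3 : Q (cokernel (kernel.ι φ)) :=
      hiso (Abelian.coimageIsoImage φ).symm h2
    exact hext _ (Lat.shortExact_cokernel (kernel.ι φ)) hk hF (h.ok_cokernel _ hk hF) h1 h3

end K846.Joint
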