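import Groth.Agent.ShStab.K846.Spread
import Groth.Agent.ShStab.K846.FinExt
import Groth.Agent.ShStab.K846.Joint
import Groth.Agent.ShStab.K846.Gies
import Groth.Agent.CalgB.AmpleBase

/-!
# Ascent of semistability along field extensions
-/

set_option autoImplicit false
universe u
open CategoryTheory CategoryTheory.Limits AlgebraicGeometry Polynomial

namespace K846.Ascent

attribute [local instance] Abelian.hasFiniteBiproducts

open K849.PolyOrd

/-- The basic facts on Hilbert polynomials for all polarised schemes. -/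
def AllHilb : Prop :=
  ∀ (k : Type u) [Field k] (X : Scheme.{u}) [X.Over (Spec (CommRingCat.of k))]
    [IsProper (X ↘ Spec (CommRingCat.of k))] (L : X.Modules), CohB1.IsAmple L → Gies.HilbFacts k X L

theorem isAmple_pullback {X Y : Scheme.{u}} (f : X ⟶ Y) [IsAffineHom f] {L : Y.Modules}
    (hL : CohB1.IsAmple L) : CohB1.IsAmple ((Scheme.Modules.pullback f).obj L) :=
  Groth.Agent.CalgB.AmpleBase.isAmple_pullback f hL fun x => by
    obtain ⟨U, hU, hx, -⟩ := exists_isAffineOpen_mem_and_subset (x := f.base x) (U := ⊤) trivial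
    exact ⟨U, hx, fun V _ hV => hV.preimage f⟩

section Square

variable {k : Type u} [Field k] {X : Scheme.{u}} [X.Over (Spec (CommRingCat.of k))]
  [IsProper (X ↘ Spec (CommRingCat.of k))]
  {K : Type u} [Field K] [Algebra k K] {X' : Scheme.{u}} [X'.Over (Spec (CommRingCat.of K))]
  (g : X' ⟶ X) (H : IsPullback g (X' ↘ Spec (CommRingCat.of K)) (X ↘ Spec (CommRingCat.of k))
    (Spec.map (CommRingCat.ofHom (algebraMap k K))))

include H

/-- Hilbert polynomials are invariant under field extension. -/
theorem isHilbPoly_pull {L : X.Modules} (hL : PicF.IsInvertible L) {M : X.Modules}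
    (hM : Coh.IsCoh M) {P : ℚ[X]} :
    ShStab.IsHilbPoly K X' ((Scheme.Modules.pullback g).obj L) ((Scheme.Modules.pullback g).obj M) P ↔
      ShStab.IsHilbPoly k X L M P := by
  refine forall_congr' fun m => ?_
  obtain ⟨e⟩ := Twist.nonempty_pull_twist g M hL m
  rw [← Groth.Agent.Fga.HodgePush.euler_congr K X' e,
    Groth.Agent.CurvesB.VABaseChange.euler_eq H _ (Twist.isCoh_twist hL hM m).1]

end Square

/-- Hilbert polynomials do not see the way the structure morphism is written. -/
theorem isHilbPoly_bc_iff (k : Type u) [Field k] (X : Scheme.{u}) [X.Over (Spec (CommRingCat.of k))]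
    (K : Type u) [Field K] [Algebra k K] (L M : (Curv2.bc k X K).Modules) (P : ℚ[X]) :
    @ShStab.IsHilbPoly K _ (pullback (X ↘ Spec (CommRingCat.of k))
      (Spec.map (CommRingCat.ofHom (algebraMap k K)))) ⟨pullback.snd _ _⟩ L M P ↔
    ShStab.IsHilbPoly K (Curv2.bc k X K) L M P := Iff.rfl

theorem isPullback_bc (k : Type u) [Field k] (X : Scheme.{u}) [X.Over (Spec (CommRingCat.of k))]
    (K : Type u) [Field K] [Algebra k K] :
    IsPullback (Curv2.bcFst k X K) (Curv2.bc k X K ↘ Spec (CommRingCat.of K))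
      (X ↘ Spec (CommRingCat.of k)) (Spec.map (CommRingCat.ofHom (algebraMap k K))) :=
  IsPullback.of_hasPullback _ _

instance isProper_bc (k : Type u) [Field k] (X : Scheme.{u}) [X.Over (Spec (CommRingCat.of k))]
    [IsProper (X ↘ Spec (CommRingCat.of k))] (K : Type u) [Field K] [Algebra k K] :
    IsProper (Curv2.bc k X K ↘ Spec (CommRingCat.of K)) :=
  MorphismProperty.of_isPullback (isPullback_bc k X K) ‹_›

theorem isLocallyNoetherian_of_proper (k : Type u) [Field k] (X : Scheme.{u})
    [X.Over (Spec (CommRingCat.of k))] [IsProper (X ↘ Spec (CommRingCat.of k))] :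
    IsLocallyNoetherian X :=
  LocallyOfFiniteType.isLocallyNoetherian (X ↘ Spec (CommRingCat.of k))

theorem isNoetherian_of_proper (k : Type u) [Field k] (X : Scheme.{u})
    [X.Over (Spec (CommRingCat.of k))] [IsProper (X ↘ Spec (CommRingCat.of k))] :
    AlgebraicGeometry.IsNoetherian X := by
  have := isLocallyNoetherian_of_proper k X
  have : CompactSpace X := QuasiCompact.compactSpace_of_compactSpace (X ↘ Spec (CommRingCat.of k))
  exact ⟨⟩

section Main

variable (𝓗 : AllHilb.{u}) {k : Type u} [Field k] {X : Scheme.{u}}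
  [X.Over (Spec (CommRingCat.of k))] [IsProper (X ↘ Spec (CommRingCat.of k))]
  {L : X.Modules} (hL : CohB1.IsAmple L) (K : Type u) [Field K] [Algebra k K]

include 𝓗 hL

theorem hilb_bc : Gies.HilbFacts K (Curv2.bc k X K)
    ((Scheme.Modules.pullback (Curv2.bcFst k X K)).obj L) := by
  have : IsAffineHom (Curv2.bcFst k X K) :=
    MorphismProperty.of_isPullback (isPullback_bc k X K).flip inferInstance
  exact 𝓗 K (Curv2.bc k X K) _ (isAmple_pullback _ hL)

theorem hp_bc {E : X.Modules} (hE : Coh.IsCoh E) :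
    Gies.hp K ((Scheme.Modules.pullback (Curv2.bcFst k X K)).obj L)
      ((Scheme.Modules.pullback (Curv2.bcFst k X K)).obj E) = Gies.hp k L E := by
  have := isLocallyNoetherian_of_proper k X
  exact Gies.hp_eq ((isHilbPoly_pull _ (isPullback_bc k X K) hL.1 hE).mpr
    (Gies.isHilbPoly_hp (𝓗 k X L hL) hE))

/-- Hilbert polynomials of subobjects from those of quotients. -/
theorem hp_sub_bc {E : X.Modules} (hE : Coh.IsCoh E) {F : (Curv2.bc k X K).Modules}
    (hF : Coh.IsCoh F) (ι : F ⟶ (Scheme.Modules.pullback (Curv2.bcFst k X K)).obj E) [Mono ι]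
    {Q : ℚ[X]} (hQ : ShStab.IsHilbPoly K (Curv2.bc k X K)
      ((Scheme.Modules.pullback (Curv2.bcFst k X K)).obj L) (cokernel ι) Q) :
    Gies.hp K ((Scheme.Modules.pullback (Curv2.bcFst k X K)).obj L) F = Gies.hp k L E - Q := by
  have := isLocallyNoetherian_of_proper k X
  have := isLocallyNoetherian_of_proper K (Curv2.bc k X K)
  have hEK : Coh.IsCoh ((Scheme.Modules.pullback (Curv2.bcFst k X K)).obj E) :=
    Groth.Agent.FormalA.PullbackQC.isCoh_pullback _ _ hE
  have hc := Groth.Agent.Sga67.CohBasic.isCoh_cokernel ι hF.1 hEK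
  have h1 := Gies.hp_add (hilb_bc (k := k) 𝓗 hL K) _ (Lat.shortExact_cokernel ι) hF hEK hc
  have h2 := hp_bc (k := k) 𝓗 hL K hE
  have h3 := Gies.hp_eq hQ
  simp only at h1
  rw [h2, h3] at h1
  rw [h1]
  ring

end Main

end K846.Ascent
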