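import Groth.Agent.CycB.ClosedDev
import Groth.Agent.CohqB.DevSimple
import Groth.Agent.FormalA.PullbackQC
import Groth.Prelude.Def_ShStab

/-!
# Purity and direct images under closed immersions
-/

set_option autoImplicit false
universe u
open CategoryTheory CategoryTheory.Limits AlgebraicGeometry

namespace K846.ClPush

open Groth.Agent Groth.Agent.CycB.ClosedDev

variable {Z X : Scheme.{u}} (i : Z ⟶ X) [IsClosedImmersion i]

/-- The dimension of the support does not change under closed immersions. -/
theorem dim_support_push (G : Z.Modules) :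
    topologicalKrullDim (CohB1.support ((Scheme.Modules.pushforward i).obj G)) =
      topologicalKrullDim (CohB1.support G) := by
  rw [CohqB.DevSimple.support_push]
  exact (i.isClosedEmbedding.toIsEmbedding.homeomorphImage (CohB1.support G)).isHomeomorph.topologicalKrullDim_eq.symm

variable {i} in
/-- A submodule of a direct image is a direct image. -/
theorem isIso_unit_of_mono {G : Z.Modules} {F : X.Modules} (ι : F ⟶ (Scheme.Modules.pushforward i).obj G)
    [Mono ι] : IsIso ((ηη i).app F) := by
  have h1 : Epi ((ηη i).app F) := epi_unit i F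
  have h2 : IsIso ((ηη i).app ((Scheme.Modules.pushforward i).obj G)) := isIso_unit_push i G
  have h3 : Mono ((ηη i).app F ≫ (TT i).map ι) := by
    rw [← (ηη i).naturality ι]
    exact mono_comp _ _
  have h4 : Mono ((ηη i).app F) := mono_of_mono _ ((TT i).map ι)
  exact isIso_of_mono_of_epi _

/-- The direct image of a pure module is pure. -/
theorem isPure_push {G : Z.Modules} {d : ℕ} (h : ShStab.IsPure Z G d) :
    ShStab.IsPure X ((Scheme.Modules.pushforward i).obj G) d := by
  intro F ι hι hF h0
  have h1 : IsIso ((ηη i).app F) := isIso_unit_of_mono ι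
  have h2 : IsIso ((ηη i).app ((Scheme.Modules.pushforward i).obj G)) := isIso_unit_push i G
  have := CohqA.ClosedPush.full (i := i)
  have := CohqA.ClosedPush.faithful (i := i)
  let ψ : (Scheme.Modules.pullback i).obj F ⟶ G :=
    ((Scheme.Modules.pullbackPushforwardAdjunction i).homEquiv F G).symm ι
  have hψ : (ηη i).app F ≫ (Scheme.Modules.pushforward i).map ψ = ι := by
    have := (Scheme.Modules.pullbackPushforwardAdjunction i).homEquiv_unit (X := F) (Y := G) (f := ψ)
    rw [Equiv.apply_symm_apply] at this
    exact this.symm
  have h3 : Mono ((Scheme.Modules.pushforward i).map ψ) := by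
    have e : (Scheme.Modules.pushforward i).map ψ = inv ((ηη i).app F) ≫ ι := by
      rw [← hψ, IsIso.inv_hom_id_assoc]
    rw [e]
    exact mono_comp _ _
  have h4 : Mono ψ := (Scheme.Modules.pushforward i).mono_of_mono_map h3
  have hF' : Coh.IsCoh ((Scheme.Modules.pullback i).obj F) := FormalA.PullbackQC.isCoh_pullback _ _ hF
  have e : F ≅ (Scheme.Modules.pushforward i).obj ((Scheme.Modules.pullback i).obj F) :=
    @asIso _ _ _ _ ((ηη i).app F) h1
  have h5 : ¬ IsZero ((Scheme.Modules.pullback i).obj F) := fun h =>
    h0 (((Scheme.Modules.pushforward i).map_isZero h).of_iso e)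
  have h6 := h _ ψ h4 hF' h5
  rw [← h6, ← dim_support_push i, CohqB.DevSupport.support_congr e]

end K846.ClPush
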