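import Groth.Agent.ShStab.K846.HilbChi
import Groth.Agent.ShStab.K847.GL
import Groth.Agent.ShStab.K846.ClPush

/-!
# Hilbert polynomials of direct images in projective spaces

`hp_push`: the direct image in `P^n_k` has the same Hilbert polynomial.
-/

set_option autoImplicit false
universe u
open CategoryTheory CategoryTheory.Limits AlgebraicGeometry

namespace K846.HilbPush

open Groth.Agent Groth.Agent.Fga.QTDefs Groth.Agent.Fga.QT4b Groth.Agent.Fga.PicMon K277.ChiHilb K847.Pn K847.GL
  K846.HilbChi

variable {n : ℕ} {Y : Scheme.{u}} (k : Type u) [Field k] [Y.Over (Spec (CommRingCat.of k))] (g : Y ⟶ PZ n)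
  [IsClosedImmersion (toPA g (Y ↘ Spec (CommRingCat.of k)))]

theorem euler_tw_push {G : Y.Modules} (hG : Coh.IsQCoh G) (m : ℤ) :
    Curv2.euler k (CohB1.ProjSpace n k) (tw ((Scheme.Modules.pushforward (emb k g)).obj G) m) = chi k g G m := by
  rw [chi_eq k g hG, ← K847.HilbBasic.euler_congr k (twIso k g G m), ← euler_push k (emb k g) (emb_toSpec k g)]
  exact (K847.HilbBasic.euler_congr k (pushTwist (i := emb k g) k G m)).symm

variable {k g}

/-- The Hilbert polynomial of the direct image. -/
theorem hp_push {L : Y.Modules}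
    (e : L ≅ (Scheme.Modules.pullback g).obj (Twist.twistProjSpace n (ULift.{u} ℤ) 1)) {G : Y.Modules}
    (hG : Coh.IsCoh G) {Q : Polynomial ℚ} (hQ : ShStab.IsHilbPoly k Y L G Q) :
    HP k ((Scheme.Modules.pushforward (emb k g)).obj G) Q := by
  intro m
  rw [euler_tw_push k g hG.1]
  exact (isHilbPoly_iff e hG Q).1 hQ m

end K846.HilbPush
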