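import Groth.Agent.ShStab.K846.BadPoly
import Groth.Agent.ShStab.K846.Gies

/-!
# Destabilising submodules: characterisation of the stability conditions and saturation

* `isSemistable_iff_bad` etc.: `E` satisfies the stability condition iff no coherent submodule has Hilbert
  polynomial in the corresponding set `B`;
* `exists_saturated`: if some coherent submodule of `E` has Hilbert polynomial in `B`, then there is one with
  pure nonzero quotient, whose `hatSlope` is at most that of `E`.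
-/

set_option autoImplicit false
universe u
open CategoryTheory CategoryTheory.Limits AlgebraicGeometry Polynomial StabCat

namespace K846.Bad

open K849.PolyOrd K849.TopPart BadPoly

variable {k : Type u} [Field k] {X : Scheme.{u}} [X.Over (Spec (CommRingCat.of k))] {L : X.Modules}
  (H : Gies.HilbFacts k X L)

include H

section Sat

variable [AlgebraicGeometry.IsNoetherian X]

/-- Subobjects of a quotient `E / H₀`. -/
theorem exists_above {E : X.Modules} (hE : Coh.IsCoh E) (S : Subobject E)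
    (hS : Coh.IsCoh (S : X.Modules)) {T : X.Modules} (κ : T ⟶ cokernel S.arrow) [Mono κ]
    (hT : Coh.IsCoh T) :
    ∃ S' : Subobject E, S ≤ S' ∧ Coh.IsCoh (S' : X.Modules) ∧
      Gies.hv k L (S' : X.Modules) = Gies.hv k L (S : X.Modules) + Gies.hv k L T := by
  have h := Gies.add_coh H
  have hc := h.ok_cokernel S.arrow hS hE
  have hcκ := h.ok_cokernel κ hT hc
  let π := cokernel.π S.arrow ≫ cokernel.π κ
  have hπ : Epi π := epi_comp _ _
  have hk := h.ok_kernel π hE hcκ
  refine ⟨Subobject.mk (kernel.ι π), ?_, h.ok_iso (Subobject.underlyingIso _).symm hk, ?_⟩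
  · refine Subobject.le_of_comm (kernel.lift π S.arrow (by simp [π]) ≫
      (Subobject.underlyingIso _).inv) ?_
    simp
  · rw [← h.v_iso (Subobject.underlyingIso _).symm hk, h.v_kernel π hE hcκ,
      h.v_cokernel κ hT hc, h.v_cokernel S.arrow hS hE]
    abel

theorem exists_saturated {d : ℕ} {E : X.Modules} (hE : Gies.okd k L d E) {B : ℚ[X] → Prop}
    (hB : BadSet d (Gies.hp k L E) B) (h0 : 0 < alpha d (Gies.hp k L E)) {F : X.Modules}
    (ι : F ⟶ E) [Mono ι] (hF : Coh.IsCoh F) (hbad : B (Gies.hp k L F)) :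
    ∃ S : Subobject E, Coh.IsCoh (S : X.Modules) ∧ B (Gies.hp k L (S : X.Modules)) ∧
      ¬ IsZero (cokernel S.arrow) ∧ ShStab.IsPure X (cokernel S.arrow) d ∧
      Gies.okd k L d (cokernel S.arrow) ∧
      alpha d (Gies.hp k L (cokernel S.arrow)) ≤ alpha d (Gies.hp k L E) ∧
      hatSlope d (Gies.hp k L (cokernel S.arrow)) ≤ hatSlope d (Gies.hp k L E) := by
  have h := Gies.add_coh H
  have hacc := Acc.wellFoundedGT E hE.1
  have hF0 : Coh.IsCoh (Subobject.mk ι : X.Modules) := h.ok_iso (Subobject.underlyingIso ι).symm hF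
  have hvF : Gies.hv k L (Subobject.mk ι : X.Modules) = Gies.hv k L F :=
    h.v_iso (Subobject.underlyingIso ι) hF0
  -- a maximal coherent subobject above `F` with the same multiplicity
  obtain ⟨⟨S, hS⟩, ⟨hFS, hαS⟩, hmax⟩ := hacc.wf.has_min
    {T : {F : Subobject E // Coh.IsCoh (F : X.Modules)} | Subobject.mk ι ≤ T.1 ∧
      alphaL d (Gies.hv k L (T.1 : X.Modules)) = alphaL d (Gies.hv k L F)}
    ⟨⟨Subobject.mk ι, hF0⟩, le_rfl, by rw [hvF]⟩
  have hFd : Gies.okd k L d F := Gies.okd_of_mono H ι hF hE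
  have hSd : Gies.okd k L d (S : X.Modules) := Gies.okd_of_mono H S.arrow hS hE
  have hc : Coh.IsCoh (cokernel S.arrow) := h.ok_cokernel S.arrow hS hE.1
  have hcd : Gies.okd k L d (cokernel S.arrow) := Gies.okd_of_epi H (cokernel.π S.arrow) hc hE
  -- the part between `F` and `S`
  have hR := h.ok_cokernel (Subobject.ofLE _ _ hFS) hF0 hS
  have hvR := h.v_cokernel (Subobject.ofLE _ _ hFS) hF0 hS
  have hRd : Gies.okd k L d (cokernel (Subobject.ofLE _ _ hFS)) :=
    Gies.okd_of_epi H (cokernel.π _) hR hSd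
  have hSR : Gies.hp k L (S : X.Modules) =
      Gies.hp k L F + Gies.hp k L (cokernel (Subobject.ofLE _ _ hFS)) := by
    apply toPV_injective
    change Gies.hv k L _ = Gies.hv k L _ + Gies.hv k L _
    rw [hvR, hvF]; abel
  have hR0 : 0 ≤ Gies.hv k L (cokernel (Subobject.ofLE _ _ hFS)) := Gies.hv_nonneg H hR
  have hαR : alpha d (Gies.hp k L (cokernel (Subobject.ofLE _ _ hFS))) = 0 := by
    rw [← alphaL_toPV]
    change alphaL d (Gies.hv k L _) = 0
    rw [hvR, map_sub, hvF, hαS, sub_self]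
  have hBS : B (Gies.hp k L (S : X.Modules)) := by
    rw [hSR]
    exact hB.add _ _ hbad (Gies.hv_nonneg H hF) hFd.2 hR0 hαR hRd.2
  have hS0 : 0 ≤ toPV (Gies.hp k L (S : X.Modules)) := Gies.hv_nonneg H hS
  have hSE : toPV (Gies.hp k L (S : X.Modules)) ≤ toPV (Gies.hp k L E) :=
    Gies.hv_mono H S.arrow hS hE.1
  have hvc := h.v_cokernel S.arrow hS hE.1
  have hpc : Gies.hp k L (cokernel S.arrow) = Gies.hp k L E - Gies.hp k L (S : X.Modules) :=
    toPV_injective hvc
  have hnz : ¬ IsZero (cokernel S.arrow) := by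
    intro hz
    have h1 := h.v_zero hz
    rw [hvc, sub_eq_zero] at h1
    refine hB.ne _ hBS hS0 hSE ?_
    have h2 : Gies.hp k L E = Gies.hp k L (S : X.Modules) := toPV_injective h1
    rw [h2]
  have hpure : ShStab.IsPure X (cokernel S.arrow) d := by
    rw [Gies.isPure_iff H hcd]
    intro T κ hκ hT hT0
    have hT' := Gies.alpha_nonneg H d T hT
    refine lt_of_le_of_ne hT' fun he => ?_
    obtain ⟨S', hSS', hS', hvS'⟩ := exists_above H hE.1 S hS κ hT.1
    refine hmax ⟨S', hS'⟩ ⟨hFS.trans hSS', ?_⟩ (lt_of_le_of_ne hSS' fun hh => ?_)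
    · simp only [hvS', map_add]
      rw [← he, add_zero]
      exact hαS
    · have h1 : S = S' := congrArg Subtype.val hh
      subst h1
      have h2 := Gies.hv_pos H hT.1 hT0
      have h3 : Gies.hv k L T = 0 := by
        have := hvS'
        exact (add_eq_left.mp this.symm)
      exact h2.ne' h3
  have hαc : 0 < alpha d (Gies.hp k L (cokernel S.arrow)) := by
    have := (Gies.isPure_iff H hcd).mp hpure _ (𝟙 _) inferInstance hcd hnz
    rwa [Gies.hv, alphaL_toPV] at this
  have hαSn : 0 ≤ alpha d (Gies.hp k L (S : X.Modules)) := by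
    have := Gies.alpha_nonneg H d _ hSd
    rwa [Gies.hv, alphaL_toPV] at this
  refine ⟨S, hS, hBS, hnz, hpure, hcd, ?_, ?_⟩
  · rw [hpc, K847.PolyOrd.alpha_sub]
    linarith
  · rw [hpc] at hαc ⊢
    exact hB.hatSlope_le hBS hS0 hSd.2 h0 hαc

end Sat

section Iff

variable [IsLocallyNoetherian X] {d : ℕ} {E : X.Modules} (hE : Gies.okd k L d E)
  (h0 : 0 < alpha d (Gies.hp k L E))

include h0

theorem not_isZero_of_alpha : ¬ IsZero E := by
  intro hz
  rw [Gies.hp_zero H hz, K847.PolyOrd.alpha_zero] at h0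
  exact lt_irrefl _ h0

include hE

theorem alpha_nonneg' {F : X.Modules} (hF : Gies.okd k L d F) :
    0 ≤ alpha d (Gies.hp k L F) := by
  have := Gies.alpha_nonneg H d F hF
  rwa [Gies.hv, alphaL_toPV] at this

omit h0 hE in
theorem hp_ne_zero {F : X.Modules} (hF : Coh.IsCoh F) (hF0 : ¬ IsZero F) : Gies.hp k L F ≠ 0 := by
  intro h
  have h1 := Gies.hv_pos H hF hF0
  rw [Gies.hv, h, toPV_zero] at h1
  exact lt_irrefl _ h1

omit h0 in
theorem isIso_of_hp_eq {F : X.Modules} (hF : Coh.IsCoh F) (ι : F ⟶ E) [Mono ι]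
    (h : Gies.hp k L F = Gies.hp k L E) : IsIso ι := by
  have hadd := Gies.add_coh H
  have hc := hadd.ok_cokernel ι hF hE.1
  have h1 := hadd.v_cokernel ι hF hE.1
  have h2 : IsZero (cokernel ι) := by
    by_contra h3
    have h4 := Gies.hv_pos H hc h3
    rw [h1, Gies.hv, Gies.hv, h, sub_self] at h4
    exact lt_irrefl _ h4
  have : Epi ι := Preadditive.epi_of_isZero_cokernel ι h2
  exact isIso_of_mono_of_epi ι

theorem isSemistable_iff_bad : ShStab.IsSemistable k X L E d ↔
    ∀ (F : X.Modules) (ι : F ⟶ E), Mono ι → Coh.IsCoh F →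
      ¬ Bss d (Gies.hp k L E) (Gies.hp k L F) := by
  have hz := not_isZero_of_alpha H h0
  rw [Gies.isSemistable_iff H]
  constructor
  · rintro ⟨-, -, -, h4⟩ F ι hι hF hb
    apply hb
    have hF' := Gies.okd_of_mono H ι hF hE
    have := h4 F ι hι hF'
    rw [Gies.hv, Gies.hv, alphaL_toPV, alphaL_toPV] at this
    exact this
  · intro h
    have h' : ∀ (F : X.Modules) (ι : F ⟶ E), Mono ι → Coh.IsCoh F →
        alpha d (Gies.hp k L E) • Gies.hv k L F ≤ alpha d (Gies.hp k L F) • Gies.hv k L E := by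
      intro F ι hι hF
      exact not_not.mp (h F ι hι hF)
    refine ⟨hE, hz, fun F ι hι hF hF0 => ?_, fun F ι hι hF => ?_⟩
    · rw [Gies.hv, alphaL_toPV]
      refine lt_of_le_of_ne (alpha_nonneg' H hE h0 hF) fun he => ?_
      have := h' F ι hι hF.1
      rw [← he, zero_smul] at this
      exact absurd this (not_le.mpr (smul_pos h0 (Gies.hv_pos H hF.1 hF0)))
    · have := h' F ι hι hF.1
      rw [← alphaL_toPV, ← alphaL_toPV] at this
      exact this

theorem isStable_iff_bad : ShStab.IsStable k X L E d ↔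
    ∀ (F : X.Modules) (ι : F ⟶ E), Mono ι → Coh.IsCoh F →
      ¬ Bst d (Gies.hp k L E) (Gies.hp k L F) := by
  have hz := not_isZero_of_alpha H h0
  rw [Gies.isStable_iff H]
  constructor
  · rintro ⟨-, -, -, h4⟩ F ι hι hF ⟨hb1, hb2, hb3⟩
    apply hb3
    have hF' := Gies.okd_of_mono H ι hF hE
    have := h4 F ι hι hF' (fun h => hb1 (Gies.hp_zero H h)) (fun h => hb2 ?_)
    · rw [Gies.hv, Gies.hv, alphaL_toPV, alphaL_toPV] at this
      exact this
    · exact toPV_injective ((Gies.add_coh H).v_iso (asIso ι) hF)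
  · intro h
    have h' : ∀ (F : X.Modules) (ι : F ⟶ E), Mono ι → Coh.IsCoh F → ¬ IsZero F → ¬ IsIso ι →
        alpha d (Gies.hp k L E) • Gies.hv k L F < alpha d (Gies.hp k L F) • Gies.hv k L E := by
      intro F ι hι hF hF0 hi
      by_contra h1
      exact h F ι hι hF ⟨hp_ne_zero H hF hF0, fun h2 => hi (isIso_of_hp_eq H hE hF ι h2), h1⟩
    refine ⟨hE, hz, fun F ι hι hF hF0 => ?_, fun F ι hι hF hF0 hi => ?_⟩
    · rw [Gies.hv, alphaL_toPV]
      by_cases hi : IsIso ι
      · have : Gies.hp k L F = Gies.hp k L E := toPV_injective ((Gies.add_coh H).v_iso (asIso ι) hF.1)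
        rw [this]
        exact h0
      · refine lt_of_le_of_ne (alpha_nonneg' H hE h0 hF) fun he => ?_
        have := h' F ι hι hF.1 hF0 hi
        rw [← he, zero_smul] at this
        exact absurd this (not_lt.mpr (smul_pos h0 (Gies.hv_pos H hF.1 hF0)).le)
    · have := h' F ι hι hF.1 hF0 hi
      rw [← alphaL_toPV, ← alphaL_toPV] at this
      exact this

theorem isEllSemistable_iff_bad {ℓ : ℕ} : ShStab.IsEllSemistable k X L E d ℓ ↔
    ∀ (F : X.Modules) (ι : F ⟶ E), Mono ι → Coh.IsCoh F →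
      ¬ Blss d ℓ (Gies.hp k L E) (Gies.hp k L F) := by
  have hz := not_isZero_of_alpha H h0
  unfold ShStab.IsEllSemistable
  rw [Gies.isPure_iff H hE]
  constructor
  · rintro ⟨-, -, h3, h4⟩ F ι hι hF hb
    have hF' := Gies.okd_of_mono H ι hF hE
    rcases hb with ⟨hb1, hb2⟩ | ⟨hb1, hb2, hb3⟩
    · have := h3 F ι hι hF' (fun h => hb1 (Gies.hp_zero H h))
      rw [Gies.hv, alphaL_toPV] at this
      exact this.ne' hb2
    · exact hb3 (h4 F ι hι hF _ _ (Gies.isHilbPoly_hp H hF) (Gies.isHilbPoly_hp H hE.1) hb1 hb2)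
  · intro h
    refine ⟨hE.1, hz, fun F ι hι hF hF0 => ?_, fun F ι hι hF pF pE hpF hpE h1 h2 => ?_⟩
    · rw [Gies.hv, alphaL_toPV]
      refine lt_of_le_of_ne (alpha_nonneg' H hE h0 hF) fun he => ?_
      exact h F ι hι hF.1 (Or.inl ⟨hp_ne_zero H hF.1 hF0, he.symm⟩)
    · rw [Gies.isHilbPoly_iff H hF] at hpF
      rw [Gies.isHilbPoly_iff H hE.1] at hpE
      subst hpF hpE
      by_contra h3
      exact h F ι hι hF (Or.inr ⟨h1, h2, h3⟩)

theorem isEllStable_iff_bad {ℓ : ℕ} : ShStab.IsEllStable k X L E d ℓ ↔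
    ∀ (F : X.Modules) (ι : F ⟶ E), Mono ι → Coh.IsCoh F →
      ¬ Blst d ℓ (Gies.hp k L E) (Gies.hp k L F) := by
  have hz := not_isZero_of_alpha H h0
  unfold ShStab.IsEllStable
  rw [Gies.isPure_iff H hE]
  constructor
  · rintro ⟨-, -, h3, h4⟩ F ι hι hF hb
    have hF' := Gies.okd_of_mono H ι hF hE
    rcases hb with ⟨hb1, hb2⟩ | ⟨hb1, hb2, hb3⟩
    · have := h3 F ι hι hF' (fun h => hb1 (Gies.hp_zero H h))
      rw [Gies.hv, alphaL_toPV] at this
      exact this.ne' hb2
    · exact hb3 (h4 F ι hι hF _ _ (Gies.isHilbPoly_hp H hF) (Gies.isHilbPoly_hp H hE.1) hb1 hb2)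
  · intro h
    refine ⟨hE.1, hz, fun F ι hι hF hF0 => ?_, fun F ι hι hF pF pE hpF hpE h1 h2 => ?_⟩
    · rw [Gies.hv, alphaL_toPV]
      refine lt_of_le_of_ne (alpha_nonneg' H hE h0 hF) fun he => ?_
      exact h F ι hι hF.1 (Or.inl ⟨hp_ne_zero H hF.1 hF0, he.symm⟩)
    · rw [Gies.isHilbPoly_iff H hF] at hpF
      rw [Gies.isHilbPoly_iff H hE.1] at hpE
      subst hpF hpE
      by_contra h3
      exact h F ι hι hF (Or.inr ⟨h1, h2, h3⟩)

end Iff

end K846.Bad
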