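import Groth.Agent.ShStab.K846.Ascent3
import Groth.Agent.ShStab.K846.Bad

/-!
# Coherent quotients of the fibres of a family, over field-valued points

`HasQuot K q L F B` : the module `F` on the `K`-scheme `q : Y ⟶ Spec K` has a coherent quotient whose Hilbert
polynomial satisfies `B`.
`Z f L F B` : the set of points `s` of `S` such that for some field-valued point of `S` over `s` the pull-back
of `F` has such a quotient.
-/

set_option autoImplicit false
universe u
open CategoryTheory CategoryTheory.Limits AlgebraicGeometry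

namespace K846.FieldPt

/-- `F` has a coherent quotient whose Hilbert polynomial satisfies `B`. -/
def HasQuot (K : Type u) [Field K] {Y : Scheme.{u}} (q : Y ⟶ Spec (CommRingCat.of K))
    (L F : Y.Modules) (B : Polynomial ℚ → Prop) : Prop :=
  ∃ (G : Y.Modules) (π : F ⟶ G), Epi π ∧ Coh.IsCoh G ∧
    ∃ Q : Polynomial ℚ, @ShStab.IsHilbPoly K _ Y ⟨q⟩ L G Q ∧ B Q

theorem HasQuot.mono {K : Type u} [Field K] {Y : Scheme.{u}} {q : Y ⟶ Spec (CommRingCat.of K)}
    {L F : Y.Modules} {B B' : Polynomial ℚ → Prop} (h : HasQuot K q L F B)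
    (hB : ∀ Q, B Q → B' Q) : HasQuot K q L F B' := by
  obtain ⟨G, π, h1, h2, Q, h3, h4⟩ := h
  exact ⟨G, π, h1, h2, Q, h3, hB Q h4⟩

theorem HasQuot.iso {K : Type u} [Field K] {Y : Scheme.{u}} {q : Y ⟶ Spec (CommRingCat.of K)}
    {L F L' F' : Y.Modules} {B : Polynomial ℚ → Prop} (h : HasQuot K q L F B)
    (a : L ≅ L') (b : F ≅ F') : HasQuot K q L' F' B := by
  obtain ⟨G, π, h1, h2, Q, h3, h4⟩ := h
  let : Y.Over (Spec (CommRingCat.of K)) := ⟨q⟩
  exact ⟨G, b.inv ≫ π, epi_comp _ _, h2, Q, Twist.isHilbPoly_iso a (Iso.refl G) h3, h4⟩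

/-- Base change of quotients along extensions of fields. -/
theorem hasQuot_pull {K K' : Type u} [Field K] [Field K'] [Algebra K K'] {Y Y' : Scheme.{u}}
    {q : Y ⟶ Spec (CommRingCat.of K)} {q' : Y' ⟶ Spec (CommRingCat.of K')} (g : Y' ⟶ Y)
    (H : IsPullback g q' q (Spec.map (CommRingCat.ofHom (algebraMap K K')))) [IsProper q]
    {L F : Y.Modules} (hL : PicF.IsInvertible L) {B : Polynomial ℚ → Prop}
    (h : HasQuot K q L F B) :
    HasQuot K' q' ((Scheme.Modules.pullback g).obj L) ((Scheme.Modules.pullback g).obj F) B := by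
  obtain ⟨G, π, h1, h2, Q, h3, h4⟩ := h
  let : Y.Over (Spec (CommRingCat.of K)) := ⟨q⟩
  let : Y'.Over (Spec (CommRingCat.of K')) := ⟨q'⟩
  have : IsProper (Y ↘ Spec (CommRingCat.of K)) := ‹IsProper q›
  have : IsLocallyNoetherian Y := Ascent.isLocallyNoetherian_of_proper K Y
  have H' : IsPullback g (Y' ↘ Spec (CommRingCat.of K')) (Y ↘ Spec (CommRingCat.of K))
    (Spec.map (CommRingCat.ofHom (algebraMap K K'))) := H
  exact ⟨(Scheme.Modules.pullback g).obj G, (Scheme.Modules.pullback g).map π, inferInstance,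
    Groth.Agent.FormalA.PullbackQC.isCoh_pullback _ _ h2, Q,
    (Ascent.isHilbPoly_pull g H' hL h2).mpr h3, h4⟩

section Family

variable {X S : Scheme.{u}} (f : X ⟶ S) [IsProper f] {L : X.Modules} (hL : PicF.IsInvertible L)
  (F : X.Modules)

omit [IsProper f] in
/-- The square over an extension of fields. -/
theorem exists_square {K K' : Type u} [Field K] [Field K'] [Algebra K K']
    {t : Spec (CommRingCat.of K) ⟶ S} {Y Y' : Scheme.{u}}
    {p : Y ⟶ X} {q : Y ⟶ Spec (CommRingCat.of K)} (H : IsPullback p q f t)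
    {p' : Y' ⟶ X} {q' : Y' ⟶ Spec (CommRingCat.of K')}
    (H' : IsPullback p' q' f (Spec.map (CommRingCat.ofHom (algebraMap K K')) ≫ t)) :
    ∃ g : Y' ⟶ Y, g ≫ p = p' ∧
      IsPullback g q' q (Spec.map (CommRingCat.ofHom (algebraMap K K'))) := by
  refine ⟨H.lift p' (q' ≫ Spec.map (CommRingCat.ofHom (algebraMap K K')))
    (by rw [Category.assoc]; exact H'.w), H.lift_fst _ _ _, ?_⟩
  refine IsPullback.of_right (h₁₂ := p) (h₂₂ := t) (v₁₃ := f) ?_ (H.lift_snd _ _ _) H
  rw [H.lift_fst]
  exact H'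

include hL in
/-- Change of field points. -/
theorem hasQuot_trans {K K' : Type u} [Field K] [Field K'] [Algebra K K']
    {t : Spec (CommRingCat.of K) ⟶ S} {t' : Spec (CommRingCat.of K') ⟶ S}
    (ht : t' = Spec.map (CommRingCat.ofHom (algebraMap K K')) ≫ t) {Y Y' : Scheme.{u}}
    {p : Y ⟶ X} {q : Y ⟶ Spec (CommRingCat.of K)} (H : IsPullback p q f t)
    {p' : Y' ⟶ X} {q' : Y' ⟶ Spec (CommRingCat.of K')} (H' : IsPullback p' q' f t')
    {B : Polynomial ℚ → Prop}
    (h : HasQuot K q ((Scheme.Modules.pullback p).obj L) ((Scheme.Modules.pullback p).obj F) B) :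
    HasQuot K' q' ((Scheme.Modules.pullback p').obj L) ((Scheme.Modules.pullback p').obj F) B := by
  subst ht
  obtain ⟨g, hg, Hg⟩ := exists_square f H H'
  have : IsProper q := MorphismProperty.of_isPullback H ‹_›
  have hL' : PicF.IsInvertible ((Scheme.Modules.pullback p).obj L) :=
    Groth.Agent.Fdesc.LocGen.isInvertible_pullback p hL
  refine (hasQuot_pull g Hg hL' h).iso ?_ ?_
  · exact (Scheme.Modules.pullbackComp g p).app L ≪≫ (Scheme.Modules.pullbackCongr hg).app L
  · exact (Scheme.Modules.pullbackComp g p).app F ≪≫ (Scheme.Modules.pullbackCongr hg).app F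

variable (L) in
/-- The set of points over which some field-valued point of the family has a quotient with Hilbert
polynomial in `B`. -/
def Z (B : Polynomial ℚ → Prop) : Set S :=
  {s | ∃ (K : Type u) (_ : Field K) (t : Spec (CommRingCat.of K) ⟶ S)
    (pt : Spec (CommRingCat.of K)), t pt = s ∧
    HasQuot K (pullback.snd f t) ((Scheme.Modules.pullback (pullback.fst f t)).obj L)
      ((Scheme.Modules.pullback (pullback.fst f t)).obj F) B}

include hL in
theorem mem_Z_of_isPullback {K : Type u} [Field K] {t : Spec (CommRingCat.of K) ⟶ S}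
    {Y : Scheme.{u}} {p : Y ⟶ X} {q : Y ⟶ Spec (CommRingCat.of K)} (H : IsPullback p q f t)
    {B : Polynomial ℚ → Prop}
    (h : HasQuot K q ((Scheme.Modules.pullback p).obj L) ((Scheme.Modules.pullback p).obj F) B)
    (pt : Spec (CommRingCat.of K)) : t pt ∈ Z f L F B := by
  refine ⟨K, inferInstance, t, pt, rfl, hasQuot_trans f hL F (K := K) (K' := K) ?_ H
    (IsPullback.of_hasPullback f t) h⟩
  have : CommRingCat.ofHom (algebraMap K K) = 𝟙 _ := rfl
  rw [this, Spec.map_id, Category.id_comp]

theorem eq_closedPoint {K : Type u} [Field K] (pt pt' : Spec (CommRingCat.of K)) : pt = pt' :=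
  Subsingleton.elim (α := PrimeSpectrum K) pt pt'

/-- A field-valued point factors through the residue field. -/
theorem exists_algebra {K : Type u} [Field K] (t : Spec (CommRingCat.of K) ⟶ S)
    (pt : Spec (CommRingCat.of K)) {s : S} (h : t pt = s) :
    ∃ _ : Algebra (S.residueField s) K,
      t = Spec.map (CommRingCat.ofHom (algebraMap (S.residueField s) K)) ≫
        S.fromSpecResidueField s := by
  subst h
  obtain rfl : pt = IsLocalRing.closedPoint K := eq_closedPoint _ _
  refine ⟨(S.descResidueField (Scheme.stalkClosedPointTo t)).hom.toAlgebra, ?_⟩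
  exact (Scheme.descResidueField_stalkClosedPointTo_fromSpecResidueField K S t).symm

end Family

end K846.FieldPt
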