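import Groth.Agent.FGA.K277.ChiHilb
import Groth.Agent.ShStab.K847.HilbBasic
import Groth.Agent.ShStab.K846.FieldPt
import Groth.Agent.S0022
import Groth.Agent.Ega2.TensGen
import Groth.Agent.Ega3B.ProjFrame
import Groth.Agent.Ega3B.PullTensor

/-!
# Hilbert polynomials of modules on closed subschemes of projective spaces

`g : Y ⟶ P^n_ℤ` with `Y ⟶ P^n_k` a closed immersion, `L ≅ g^* O(1)`.
* `isHilbPoly_iff`: `Q` is the Hilbert polynomial of `G` iff `χ(G ⊗ g^* O(m)) = Q(m)` for all integers `m`.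
-/

set_option autoImplicit false
universe u
open CategoryTheory CategoryTheory.Limits AlgebraicGeometry

namespace K846.HilbChi

open Groth.Agent Groth.Agent.Fga.QTDefs Groth.Agent.Fga.QT4b Groth.Agent.Fga.PicMon K277.ChiHilb

section General

variable (k : Type u) [Field k] {Z X : Scheme.{u}} [X.Over (Spec (CommRingCat.of k))]
  [Z.Over (Spec (CommRingCat.of k))] (i : Z ⟶ X) [IsClosedImmersion i]

/-- Euler characteristics and closed immersions. -/
theorem euler_push (hi : i ≫ (X ↘ Spec (CommRingCat.of k)) = Z ↘ Spec (CommRingCat.of k)) (M : Z.Modules) :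
    Curv2.euler k X ((Scheme.Modules.pushforward i).obj M) = Curv2.euler k Z M := by
  unfold Curv2.euler
  refine finsum_congr fun j => ?_
  rw [(CurvesC.CurveNum.hhPushₗ k i hi M j).finrank_eq]

end General

variable {n : ℕ} {Y : Scheme.{u}} (k : Type u) [Field k] [Y.Over (Spec (CommRingCat.of k))] (g : Y ⟶ PZ n)

theorem isInvertible_gO (m : ℤ) :
    PicF.IsInvertible ((Scheme.Modules.pullback g).obj (Twist.twistProjSpace n (ULift.{u} ℤ) m)) :=
  Fdesc.LocGen.isInvertible_pullback _ (FormalB.TwistGen.isInvertible_twistProjSpace n _ m)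

variable [IsClosedImmersion (toPA g (Y ↘ Spec (CommRingCat.of k)))]

include g in
theorem euler_eq {M : Y.Modules} (hM : Coh.IsQCoh M) : Curv2.euler k Y M = FGA.eulerCharLE k Y M n := by
  rw [VarietyA.EulerAdd.euler_eq_sum k M (n + 1)]
  · rfl
  · intro i hi
    have h1 : Coh.IsQCoh ((Scheme.Modules.pushforward (emb k g)).obj M) :=
      CohqA.AffPush.isQCoh_push (emb k g) M hM
    have h2 : Subsingleton (Coh.HH (CohB1.ProjSpace n k) ((Scheme.Modules.pushforward (emb k g)).obj M) i) :=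
      S0022.result n k _ i (by omega)
    exact (CurvesC.CurveNum.hhPush (emb k g) M i).toEquiv.subsingleton

theorem chi_eq {G : Y.Modules} (hG : Coh.IsQCoh G) (m : ℤ) : chi k g G m = Curv2.euler k Y (twg g G m) :=
  (euler_eq k g (Ega2.TensGen.isQCoh_tensor hG (isInvertible_gO g m))).symm

/-- The twists by the powers of `L`. -/
theorem nonempty_twist {L : Y.Modules}
    (e : L ≅ (Scheme.Modules.pullback g).obj (Twist.twistProjSpace n (ULift.{u} ℤ) 1)) (G : Y.Modules) (m : ℕ) :
    Nonempty (ShStab.twist Y L G m ≅ twg g G (m : ℤ)) := by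
  obtain ⟨e1⟩ := Ega3B.ProjFrame.nonempty_twistProjSpace_iso (r := n) (ULift.{u} ℤ) m
  obtain ⟨e2⟩ := Ega3B.PullTensor.nonempty_pullPowIso g
    (FormalB.TwistGen.isInvertible_twistProjSpace n (ULift.{u} ℤ) 1) m
  rw [← mc_eq_iff]
  unfold ShStab.twist twg
  rw [mc_tensor, mc_tensor, mc_tensorPow, mc_eq e, ← mc_tensorPow, ← mc_eq e2,
    ← mc_eq ((Scheme.Modules.pullback g).mapIso e1)]

variable {k g}

/-- **Hilbert polynomials in terms of all twists.** -/
theorem isHilbPoly_iff {L : Y.Modules}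
    (e : L ≅ (Scheme.Modules.pullback g).obj (Twist.twistProjSpace n (ULift.{u} ℤ) 1)) {G : Y.Modules}
    (hG : Coh.IsCoh G) (Q : Polynomial ℚ) :
    ShStab.IsHilbPoly k Y L G Q ↔ ∀ m : ℤ, (chi k g G m : ℚ) = Q.eval (m : ℚ) := by
  have key : ∀ P : Polynomial ℚ, (∀ m : ℤ, (chi k g G m : ℚ) = P.eval (m : ℚ)) →
      ShStab.IsHilbPoly k Y L G P := by
    intro P hP m
    rw [K847.HilbBasic.euler_congr k (nonempty_twist g e G m).some, ← chi_eq k g hG.1, hP]
    simp
  refine ⟨fun h => ?_, key Q⟩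
  obtain ⟨P, hP⟩ := exists_poly k g hG
  rw [K847.HilbBasic.hilbPoly_unique k h (key P hP)]
  exact hP

end K846.HilbChi
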