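import Groth.Agent.FGA.K277.PartMain
import Groth.Agent.ShStab.K846.HilbChi
import Groth.Agent.Ega2.VeryAmpleAmple

/-!
# The points over which there is a quotient with a given Hilbert polynomial form a closed set

`isClosed_Z`: over an affine Noetherian base, `X` closed in `P^n_S`, `L = O(1)`; from the representability of the
functor of quotients with given Hilbert polynomial by a closed subscheme of a projective space over `S`.
-/

set_option autoImplicit false
universe u
open CategoryTheory CategoryTheory.Limits AlgebraicGeometry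

namespace K846.QClosed

open Groth.Agent Groth.Agent.Fga.QTDefs Groth.Agent.Fga.QT4b Groth.Agent.Fga.QT6a Groth.Agent.Fga.QT6c
  Groth.Agent.Fga.QA1 Groth.Agent.Fga.QT8 K277.ChiHilb K277.FibChi
  K277.GlobRep K846.FieldPt K846.HilbChi

/-- Everything is flat over a field. -/
theorem flat_over_field {K : Type u} [Field K] {Y : Scheme.{u}} (q : Y ⟶ Spec (CommRingCat.of K))
    (M : Y.Modules) : FlatMod.IsFlatOver q M := by
  intro x
  unfold FlatMod.IsFlatOverAt
  let _ := FlatMod.moduleStalkOver q M x
  have hpr : (q.base x).asIdeal.IsPrime := (show PrimeSpectrum K from q.base x).isPrime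
  let _ : Algebra K ((Spec (CommRingCat.of K)).presheaf.stalk (q.base x)) :=
    StructureSheaf.stalkAlgebra (R := K) (q.base x)
  have : IsLocalization.AtPrime ((Spec (CommRingCat.of K)).presheaf.stalk (q.base x)) (q.base x).asIdeal :=
    StructureSheaf.IsLocalization.to_stalk K (q.base x)
  let _ : Module K (M.presheaf.stalk x) :=
    Module.compHom _ (algebraMap K ((Spec (CommRingCat.of K)).presheaf.stalk (q.base x)))
  have : IsScalarTower K ((Spec (CommRingCat.of K)).presheaf.stalk (q.base x)) (M.presheaf.stalk x) :=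
    IsScalarTower.of_algebraMap_smul fun _ _ => rfl
  rw [Module.flat_iff_of_isLocalization (R := K) ((Spec (CommRingCat.of K)).presheaf.stalk (q.base x))
    (q.base x).asIdeal.primeCompl]
  infer_instance

section Abel

variable {C : Type*} [Category C] [Abelian C]

/-- The cokernel of the kernel, as a subobject, of an epimorphism. -/
noncomputable def cokerIso {A B : C} (π : A ⟶ B) [Epi π] :
    cokernel (Subobject.mk (kernel.ι π)).arrow ≅ B := by
  have h : (Subobject.underlyingIso (kernel.ι π)).hom ≫ kernel.ι π = (Subobject.mk (kernel.ι π)).arrow :=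
    Subobject.underlyingIso_hom_comp_eq_mk _
  refine (cokernelIsoOfEq h).symm ≪≫ cokernelEpiComp _ _ ≪≫ ?_
  exact (cokernelIsCokernel (kernel.ι π)).coconePointUniqueUpToIso
    (Abelian.epiIsCokernelOfKernel _ (limit.isLimit (parallelPair π 0)))

end Abel

variable {n : ℕ} {X S : Scheme.{u}} {f : X ⟶ S} {g₀ : X ⟶ PZ n} {L F : X.Modules}

/-- `L` on `X_T`. -/
noncomputable def LTiso (e : L ≅ (Scheme.Modules.pullback g₀).obj (Twist.twistProjSpace n (ULift.{u} ℤ) 1))
    (T : Over S) : (Scheme.Modules.pullback (pullback.fst f T.hom)).obj L ≅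
      (Scheme.Modules.pullback (gT f g₀ T)).obj (Twist.twistProjSpace n (ULift.{u} ℤ) 1) :=
  (Scheme.Modules.pullback (pullback.fst f T.hom)).mapIso e ≪≫
    (Scheme.Modules.pullbackComp (pullback.fst f T.hom) g₀).app _

variable [IsClosedImmersion (toPS g₀ f)]

/-- Hilbert polynomials at field points. -/
theorem isHilbPoly_field_iff (e : L ≅ (Scheme.Modules.pullback g₀).obj (Twist.twistProjSpace n (ULift.{u} ℤ) 1))
    {k : Type u} [Field k] (s : Spec (CommRingCat.of k) ⟶ S) {G : (pullback f s).Modules} (hG : Coh.IsCoh G)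
    (Q : Polynomial ℚ) :
    @ShStab.IsHilbPoly k _ (pullback f s) ⟨pullback.snd f s⟩ ((Scheme.Modules.pullback (pullback.fst f s)).obj L) G Q ↔
      ∀ m : ℤ, (@chi n (pullback f s) k _ ⟨pullback.snd f s⟩ (gT f g₀ (Over.mk s)) G m : ℚ) = Q.eval (m : ℚ) := by
  let : (PicF.XT f (Over.mk s)).Over (Spec (CommRingCat.of k)) := ⟨pullback.snd f s⟩
  have : IsClosedImmersion (toPA (gT f g₀ (Over.mk s)) ((PicF.XT f (Over.mk s)) ↘ Spec (CommRingCat.of k))) :=
    isClosedImmersion_toPA f g₀ (B := k) s
  exact isHilbPoly_iff (k := k) (g := gT f g₀ (Over.mk s)) (LTiso e (Over.mk s)) hG Q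

variable [IsProper f]

theorem isClosed_Z [IsAffine S] [IsLocallyNoetherian S]
    (e : L ≅ (Scheme.Modules.pullback g₀).obj (Twist.twistProjSpace n (ULift.{u} ℤ) 1)) (hF : Coh.IsCoh F)
    (Φ : Polynomial ℚ) : IsClosed (Z f L F (fun Q => Q = Φ)) := by
  have hL : PicF.IsInvertible L := Ega2.VeryAmpleAmple.isInvertible_of_iso e.symm
    (Fdesc.LocGen.isInvertible_pullback _ (FormalB.TwistGen.isInvertible_twistProjSpace n _ 1))
  obtain ⟨a, p, E, hE⟩ := exists_globGen f g₀ hF
  obtain ⟨Q, K, hQ, hK, huniv, r, c, hc, hcQ⟩ := K277.PartMain.main hF hE Φ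
  have hprop : IsProper Q.hom := by
    rw [← hcQ]
    have := Ega3B.ProjProper.isProper_toBase r S
    infer_instance
  have key : Z f L F (fun Q => Q = Φ) = Set.range Q.hom := by
    apply Set.Subset.antisymm
    · rintro _ ⟨k, _, t, pt, rfl, G, π, hπ, hG, Q', hQ', rfl⟩
      let T : Over S := Over.mk t
      let K₁ : Subobject (FGA.ET f F T) := Subobject.mk (kernel.ι π)
      let e₁ : cokernel K₁.arrow ≅ G := cokerIso π
      have hG₁ : Coh.IsCoh (cokernel K₁.arrow) := Groth.Agent.CohqB.LocalQC.isCoh_of_iso e₁.symm hG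
      let K' : FGA.QuotSet f F T := ⟨K₁, hG₁, flat_over_field (K := k) _ _⟩
      have : IsLocallyNoetherian T.left := inferInstanceAs (IsLocallyNoetherian (Spec (CommRingCat.of k)))
      obtain ⟨g, -, -⟩ := huniv T K' (by
        intro t' m
        obtain rfl : t' = IsLocalRing.closedPoint k := eq_closedPoint _ _
        have h1 := (isHilbPoly_field_iff (g₀ := g₀) e t hG Q').1 hQ' m
        rw [← h1]
        let _ : (PicF.XT f (Over.mk t)).Over (Spec (CommRingCat.of k)) := ⟨Groth.Agent.Fga.QT6c.prB f t⟩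
        have h2 := field_eq f g₀ T hG₁.1 t (𝟙 T) m
        have h3 : ((𝟙 T : T ⟶ T).left (IsLocalRing.closedPoint k)) = IsLocalRing.closedPoint k := rfl
        rw [h3] at h2
        change (chiAt f g₀ T (IsLocalRing.closedPoint k) (cokernel K₁.arrow) m : ℚ) = _
        rw [← h2]
        norm_cast
        have h4 : PicF.XTmap f (𝟙 T) = 𝟙 _ := by
          apply pullback.hom_ext <;> simp [PicF.XTmap, T] <;> rfl
        let e₂ : (Scheme.Modules.pullback (PicF.XTmap f (𝟙 T))).obj (cokernel K₁.arrow) ≅ G :=
          (Scheme.Modules.pullbackCongr h4).app _ ≪≫ (Scheme.Modules.pullbackId _).app _ ≪≫ e₁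
        exact Fga.EulerIso.eulerCharLE_congr k (Ega2.Tens.mapTIso e₂ (Iso.refl _)) n)
      refine ⟨g.left pt, ?_⟩
      rw [← Scheme.Hom.comp_apply, Over.w g]
      rfl
    · rintro _ ⟨y, rfl⟩
      let k := Q.left.residueField y
      let s : Spec (CommRingCat.of k) ⟶ S := Q.left.fromSpecResidueField y ≫ Q.hom
      let g : Over.mk s ⟶ Q := Over.homMk (Q.left.fromSpecResidueField y) rfl
      let π : FGA.ET f F (Over.mk s) ⟶ (Scheme.Modules.pullback (PicF.XTmap f g)).obj (cokernel K.1.arrow) :=
        (FGA.ETiso f F g).inv ≫ (Scheme.Modules.pullback (PicF.XTmap f g)).map (cokernel.π K.1.arrow)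
      have hG : Coh.IsCoh ((Scheme.Modules.pullback (PicF.XTmap f g)).obj (cokernel K.1.arrow)) :=
        FormalA.PullbackQC.isCoh_pullback _ _ K.2.1
      have hpt : s (IsLocalRing.closedPoint k) = Q.hom y := by
        change Q.hom (Q.left.fromSpecResidueField y (IsLocalRing.closedPoint k)) = _
        exact congrArg _ (Scheme.fromSpecResidueField_apply _ _)
      rw [← hpt]
      refine mem_Z_of_isPullback f hL F (K := k) (t := s) (IsPullback.of_hasPullback f s) ?_ _
      refine ⟨_, π, epi_comp _ _, hG, Φ, ?_, rfl⟩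
      refine (isHilbPoly_field_iff (g₀ := g₀) e s hG Φ).2 fun m => ?_
      have h1 := field_eq f g₀ Q K.2.1.1 s g m
      have h2 := hK y m
      have h3 : g.left (IsLocalRing.closedPoint k) = y := Scheme.fromSpecResidueField_apply _ _
      rw [h3] at h1
      rw [← h2, ← h1]
  rw [key]
  exact Q.hom.isClosedMap.isClosed_range

end K846.QClosed
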