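import Groth.Agent.S3229
import Groth.Agent.S1496
import Groth.Agent.Fga.QuotPull
import Groth.Agent.Picfga.HilbPull
import Groth.Agent.Ega2.AmpleUnit
import Groth.Agent.ShStab.K846.Twist
import Mathlib.RingTheory.Jacobson.Ring

/-!
# Specializing a point of a Quot scheme to a point over a finite extension
-/

set_option autoImplicit false
universe u
open CategoryTheory CategoryTheory.Limits AlgebraicGeometry Polynomial

namespace K846.QuotPt

/-- Existence of Quot schemes for projective schemes over a field, with locally of finite type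
structure map. -/
theorem exists_quot {k : Type u} [Field k] {X : Scheme.{u}} (f : X ⟶ Spec (CommRingCat.of k))
    [IsProper f] (hL : ∃ L : X.Modules, CohB1.IsAmple L) (E : X.Modules) (hE : Coh.IsCoh E) :
    ∃ (Q : Over (Spec (CommRingCat.of k))) (Ku : FGA.QuotSet f E Q),
      FGA.QuotRepresentedBy f E Q Ku ∧ LocallyOfFiniteType Q.hom := by
  obtain ⟨n, i, hi, hif⟩ := (Groth.Agent.S1496.result
    ⟨_, Groth.Agent.Ega2.Weight.isAmple_structureModule _⟩ f).1.mpr ⟨inferInstance, hL⟩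
  obtain ⟨Q, Ku, hQ, ι, P, e, hP⟩ := Groth.Agent.S3229.result (Spec (CommRingCat.of k)) n X i E hE
  have hif' : i ≫ CohB1.ProjSpaceOver.toBase n (Spec (CommRingCat.of k)) = f := hif
  subst hif'
  refine ⟨Q, Ku, hQ, ?_⟩
  have h1 : LocallyOfFiniteType (e.hom ≫ Q.hom) := by
    rw [IsZariskiLocalAtSource.iff_of_openCover (P := @LocallyOfFiniteType) (sigmaOpenCover P)]
    intro a
    have := hP a
    have h2 : LocallyOfFiniteType (Limits.Sigma.ι P a ≫ e.hom ≫ Q.hom) := inferInstance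
    exact h2
  have h2 : Q.hom = e.inv ≫ e.hom ≫ Q.hom := by simp
  rw [h2]
  infer_instance

/-- A point of a locally of finite type `k`-scheme with values in a field extension specializes to a
point with values in a finite extension. -/
theorem exists_finite_pt {k : Type u} [Field k] (Q : Over (Spec (CommRingCat.of k)))
    [LocallyOfFiniteType Q.hom] (q : Q.left) :
    ∃ (k₁ : Type u) (_ : Field k₁) (_ : Algebra k k₁) (_ : Module.Finite k k₁)
      (g : Over.mk (Spec.map (CommRingCat.ofHom (algebraMap k k₁))) ⟶ Q)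
      (pt : Spec (CommRingCat.of k₁)), q ⤳ g.left pt := by
  obtain ⟨U, hU, hqU, -⟩ := exists_isAffineOpen_mem_and_subset (x := q) (U := ⊤) trivial
  obtain ⟨ψ, hψ⟩ : ∃ ψ, hU.fromSpec ≫ Q.hom = Spec.map ψ := ⟨_, (Spec.map_preimage _).symm⟩
  have hft : LocallyOfFiniteType (Spec.map ψ) := by
    rw [← hψ]; infer_instance
  have hft' : ψ.hom.FiniteType := (HasRingHomProperty.Spec_iff (P := @LocallyOfFiniteType)).mp hft
  let 𝔮 := (hU.primeIdealOf ⟨q, hqU⟩)
  obtain ⟨𝔪, h𝔪, hle⟩ := Ideal.exists_le_maximal 𝔮.asIdeal 𝔮.isPrime.ne_top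
  let k₁ : Type u := Γ(Q.left, U) ⧸ 𝔪
  let _ : Field k₁ := Ideal.Quotient.field 𝔪
  let _ : Algebra k k₁ := ((Ideal.Quotient.mk 𝔪).comp ψ.hom).toAlgebra
  let _ : Algebra.FiniteType k k₁ :=
    (RingHom.FiniteType.of_surjective _ Ideal.Quotient.mk_surjective).comp hft'
  have hfin : Module.Finite k k₁ := finite_of_finite_type_of_isJacobsonRing k k₁
  let g : Over.mk (Spec.map (CommRingCat.ofHom (algebraMap k k₁))) ⟶ Q :=
    Over.homMk (Spec.map (CommRingCat.ofHom (Ideal.Quotient.mk 𝔪)) ≫ hU.fromSpec) (by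
      dsimp only [Over.mk_hom]
      rw [Category.assoc, hψ, ← Spec.map_comp]
      rfl)
  refine ⟨k₁, inferInstance, inferInstance, hfin, g, IsLocalRing.closedPoint k₁, ?_⟩
  have h1 : 𝔮 ⤳ (⟨𝔪, h𝔪.isPrime⟩ : PrimeSpectrum Γ(Q.left, U)) :=
    (PrimeSpectrum.le_iff_specializes _ _).mp hle
  have h2 := h1.map hU.fromSpec.continuous
  have h3 : hU.fromSpec 𝔮 = q := hU.fromSpec_primeIdealOf ⟨q, hqU⟩
  have h4 : g.left (IsLocalRing.closedPoint k₁) = hU.fromSpec ⟨𝔪, h𝔪.isPrime⟩ := by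
    change (Spec.map (CommRingCat.ofHom (Ideal.Quotient.mk 𝔪)) ≫ hU.fromSpec) _ = _
    rw [Scheme.Hom.comp_apply]
    congr 1
    apply PrimeSpectrum.ext
    change Ideal.comap (Ideal.Quotient.mk 𝔪) (IsLocalRing.maximalIdeal k₁) = 𝔪
    rw [IsLocalRing.isField_iff_maximalIdeal_eq.mp (Field.toIsField k₁)]
    rw [← RingHom.ker_eq_comap_bot, Ideal.mk_ker]
  rw [h4, ← h3]
  exact h2

end K846.QuotPt
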