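import Groth.Agent.ShStab.K846.EigAlg
import Groth.Agent.ShStab.K846.Acc
import Groth.Prelude.Def_KLin
import Mathlib.AlgebraicGeometry.Morphisms.FiniteType

/-!
# Endomorphisms of coherent modules over an algebraically closed field have eigenvalues
-/

set_option autoImplicit false

universe u

open CategoryTheory CategoryTheory.Limits AlgebraicGeometry TopologicalSpace

namespace K846.EigSheaf

variable {k : Type u} [Field k] {X : Scheme.{u}} [X.Over (Spec (CommRingCat.of k))]

/-- The map from the base field to the functions on an open. -/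
noncomputable def toSec (V : X.Opens) : k →+* Γ(X, V) :=
  (X.presheaf.map (homOfLE (le_top : V ≤ ⊤)).op).hom.comp (Coh.toGlobal (X ↘ Spec (CommRingCat.of k)))

theorem toSec_finiteType [LocallyOfFiniteType (X ↘ Spec (CommRingCat.of k))] {V : X.Opens}
    (hV : IsAffineOpen V) : (toSec (k := k) V).FiniteType := by
  have h1 : ((X ↘ Spec (CommRingCat.of k)).appLE ⊤ V le_top).hom.FiniteType :=
    LocallyOfFiniteType.finiteType_appLE (X ↘ Spec (CommRingCat.of k)) (isAffineOpen_top _) hV le_top
  have h2 : (Scheme.ΓSpecIso (CommRingCat.of k)).inv.hom.FiniteType :=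
    RingHom.FiniteType.of_surjective _
      (ConcreteCategory.bijective_of_isIso (Scheme.ΓSpecIso (CommRingCat.of k)).inv).2
  have h3 := h1.comp h2
  exact h3

/-- Endomorphisms of nonzero coherent modules over an algebraically closed field have eigenvalues. -/
theorem exists_not_isIso [IsAlgClosed k] [LocallyOfFiniteType (X ↘ Spec (CommRingCat.of k))]
    (E : X.Modules) (hE : Coh.IsCoh E) (h0 : ¬ IsZero E) (φ : E ⟶ E) :
    ∃ c : k, ¬ IsIso (φ - Formal.smulMod k E c) := by
  obtain ⟨x, hx⟩ : ∃ x : X, ∀ V : X.Opens, x ∈ V → IsAffineOpen V → ∃ m : Γ(E, V), m ≠ 0 := by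
    by_contra hcon
    push Not at hcon
    apply h0
    refine Groth.Agent.FormalB.ModPowAff2.isZero_of_affine_cover hE.1 fun x => ?_
    obtain ⟨V, hxV, hV, h⟩ := hcon x
    exact ⟨V, hxV, hV, h⟩
  obtain ⟨V, hV, hxV, -⟩ := exists_isAffineOpen_mem_and_subset (x := x) (U := ⊤) trivial
  obtain ⟨m, hm⟩ := hx V hxV hV
  have : Nontrivial Γ(E, V) := ⟨m, 0, hm⟩
  have : Module.Finite Γ(X, V) Γ(E, V) := Groth.Agent.Sga67.CohBasic.finite_sections hE ⟨V, hV⟩
  let _ : Algebra k Γ(X, V) := (toSec (k := k) V).toAlgebra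
  have : Algebra.FiniteType k Γ(X, V) := toSec_finiteType hV
  obtain ⟨c, hc⟩ := EigAlg.exists_not_bijective (k := k) (Acc.appLin φ V)
  refine ⟨c, fun hi => hc ?_⟩
  have h1 : Function.Bijective ((φ - Formal.smulMod k E c).app V) :=
    ConcreteCategory.bijective_of_isIso ((φ - Formal.smulMod k E c).app V)
  exact h1

end K846.EigSheaf
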