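import Groth.Agent.ShStab.K846.Ascent

/-!
# Ascent of semistability along field extensions: the main statements
-/

set_option autoImplicit false
universe u
open CategoryTheory CategoryTheory.Limits AlgebraicGeometry Polynomial

namespace K846.Ascent2

attribute [local instance] Abelian.hasFiniteBiproducts

open K849.PolyOrd Ascent

section Finite

variable (𝓗 : AllHilb.{u}) {k : Type u} [Field k] {X : Scheme.{u}}
  [X.Over (Spec (CommRingCat.of k))] [IsProper (X ↘ Spec (CommRingCat.of k))]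
  {L : X.Modules} (hL : CohB1.IsAmple L) (k₁ : Type u) [Field k₁] [Algebra k k₁]
  [Module.Finite k k₁]

include 𝓗 hL

/-- Pushforward of submodules along a finite extension. -/
theorem exists_push {E : X.Modules} (hE : Coh.IsCoh E) {F₁ : (Curv2.bc k X k₁).Modules}
    (hF₁ : Coh.IsCoh F₁) (ι₁ : F₁ ⟶ (Scheme.Modules.pullback (Curv2.bcFst k X k₁)).obj E) [Mono ι₁] :
    ∃ (G : X.Modules) (κ : G ⟶ ⨁ fun _ : Fin (Module.finrank k k₁) => E), Mono κ ∧ Coh.IsCoh G ∧
      Gies.hp k L G = (Module.finrank k k₁ : ℚ) •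
        Gies.hp k₁ ((Scheme.Modules.pullback (Curv2.bcFst k X k₁)).obj L) F₁ := by
  have := isLocallyNoetherian_of_proper k X
  have := isLocallyNoetherian_of_proper k₁ (Curv2.bc k X k₁)
  have H := isPullback_bc k X k₁
  have hfin : (algebraMap k k₁).Finite := RingHom.finite_algebraMap.mpr ‹_›
  have : IsFinite (Spec.map (CommRingCat.ofHom (algebraMap k k₁))) :=
    (IsFinite.SpecMap_iff _).mpr hfin
  have : IsFinite (Curv2.bcFst k X k₁) := MorphismProperty.of_isPullback H.flip ‹_›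
  obtain ⟨b⟩ := FinExt.nonempty_basis k k₁
  have hi := FinPush.isIso_desc_psi (X ↘ Spec (CommRingCat.of k))
    (Curv2.bc k X k₁ ↘ Spec (CommRingCat.of k₁)) (Spec.map (CommRingCat.ofHom (algebraMap k k₁)))
    (Curv2.bcFst k X k₁) H b E hE.1
  let e := (asIso (biproduct.desc (fun j => FinPush.psi (Curv2.bc k X k₁ ↘ Spec (CommRingCat.of k₁))
    (Curv2.bcFst k X k₁) E (b j)))).symm
  refine ⟨(Coh.push (Curv2.bcFst k X k₁)).obj F₁,
    (Scheme.Modules.pushforward (Curv2.bcFst k X k₁)).map ι₁ ≫ e.hom, ?_,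
    Groth.Agent.Fga.HodgePush.isCoh_push _ hF₁, ?_⟩
  · have : Mono ((Scheme.Modules.pushforward (Curv2.bcFst k X k₁)).map ι₁) := inferInstance
    exact mono_comp _ _
  · exact Gies.hp_eq (FinExt.isHilbPoly_push (Curv2.bcFst k X k₁) H hL.1 hF₁
      (Gies.isHilbPoly_hp (hilb_bc (k := k) 𝓗 hL k₁) hF₁))

end Finite

section Main

variable (𝓗 : AllHilb.{u}) {k : Type u} [Field k] {X : Scheme.{u}}
  [X.Over (Spec (CommRingCat.of k))] [IsProper (X ↘ Spec (CommRingCat.of k))]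
  {L : X.Modules} (hL : CohB1.IsAmple L) (K : Type u) [Field K] [Algebra k K]

include 𝓗 hL

/-- **Ascent.** A coherent submodule of `E_K` gives a coherent submodule of `E^n`, for some `n > 0`,
with `n` times its Hilbert polynomial. -/
theorem exists_sub_pow {E : X.Modules} (hE : Coh.IsCoh E) {F : (Curv2.bc k X K).Modules}
    (hF : Coh.IsCoh F) (ι : F ⟶ (Scheme.Modules.pullback (Curv2.bcFst k X K)).obj E) [Mono ι] :
    ∃ (n : ℕ) (_ : 0 < n) (G : X.Modules) (κ : G ⟶ ⨁ fun _ : Fin n => E), Mono κ ∧ Coh.IsCoh G ∧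
      Gies.hp k L G = (n : ℚ) •
        Gies.hp K ((Scheme.Modules.pullback (Curv2.bcFst k X K)).obj L) F := by
  have := isLocallyNoetherian_of_proper k X
  have := isLocallyNoetherian_of_proper K (Curv2.bc k X K)
  have hEK : Coh.IsCoh ((Scheme.Modules.pullback (Curv2.bcFst k X K)).obj E) :=
    Groth.Agent.FormalA.PullbackQC.isCoh_pullback _ _ hE
  have hc := Groth.Agent.Sga67.CohBasic.isCoh_cokernel ι hF.1 hEK
  have hQ := Gies.isHilbPoly_hp (hilb_bc (k := k) 𝓗 hL K) hc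
  obtain ⟨k₁, _, _, hfin, F₁, ι₁, hι₁, hF₁, hP⟩ := Spread.exists_finite
    (X ↘ Spec (CommRingCat.of k)) ⟨L, hL⟩ hL.1 hE
    (Spec.map (CommRingCat.ofHom (algebraMap k K))) hF ι
  have h1 := hp_sub_bc (k := k) 𝓗 hL K hE hF ι hQ
  have hQ₁ := (hP _).mp hQ
  have h2 := hp_sub_bc (k := k) 𝓗 hL k₁ hE hF₁ ι₁ hQ₁
  obtain ⟨G, κ, hκ, hG, hGp⟩ := exists_push (k := k) 𝓗 hL k₁ hE hF₁ ι₁
  refine ⟨Module.finrank k k₁, Module.finrank_pos, G, κ, hκ, hG, ?_⟩
  rw [hGp, h2, h1]

end Main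

/-- A property of coherent modules closed under extensions which holds for all coherent submodules of
`E` holds for the coherent submodules of `E^n`. -/
theorem of_sub_pow {X : Scheme.{u}} [IsLocallyNoetherian X] (Q : X.Modules → Prop)
    (hz : ∀ Z : X.Modules, Coh.IsCoh Z → IsZero Z → Q Z)
    (hiso : ∀ {A B : X.Modules}, (A ≅ B) → Q A → Q B)
    (hext : ∀ S : ShortComplex X.Modules, S.ShortExact → Coh.IsCoh S.X₁ → Coh.IsCoh S.X₂ →
      Coh.IsCoh S.X₃ → Q S.X₁ → Q S.X₃ → Q S.X₂) {E : X.Modules} (hE : Coh.IsCoh E)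
    (hsub : ∀ (F : X.Modules) (ι : F ⟶ E), Mono ι → Coh.IsCoh F → Q F)
    {n : ℕ} {G : X.Modules} (hG : Coh.IsCoh G) (κ : G ⟶ ⨁ fun _ : Fin n => E) [Mono κ] : Q G := by
  have hadd : Lat.Add (fun M : X.Modules => Coh.IsCoh M) (fun _ => (0 : ℤ)) :=
    CohAdd.add_of _ fun _ _ _ _ _ => (add_zero _).symm
  refine Joint.of_jointly_mono hadd Q hz hiso hext hE hsub n G hG
    (fun j => κ ≫ biproduct.π _ j) fun T t ht => ?_
  rw [← cancel_mono κ, Limits.zero_comp]
  refine biproduct.hom_ext _ _ fun j => ?_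
  rw [Category.assoc, Limits.zero_comp]
  exact ht j

section SS

variable (𝓗 : AllHilb.{u}) {k : Type u} [Field k] {X : Scheme.{u}}
  [X.Over (Spec (CommRingCat.of k))] [IsProper (X ↘ Spec (CommRingCat.of k))]
  {L : X.Modules} (hL : CohB1.IsAmple L) (K : Type u) [Field K] [Algebra k K]

include 𝓗 hL

/-- The bound satisfied by the submodules of a pure semistable module ascends. -/
theorem bound_ascend {d : ℕ} (v : PV) {E : X.Modules} (hE : Coh.IsCoh E)
    (hb : ∀ (F : X.Modules) (ι : F ⟶ E), Mono ι → Coh.IsCoh F → ¬ IsZero F →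
      (Gies.hp k L F).natDegree ≤ d ∧ 0 < alphaL d (Gies.hv k L F) ∧
        Gies.hv k L F ≤ alphaL d (Gies.hv k L F) • v)
    {F : (Curv2.bc k X K).Modules} (hF : Coh.IsCoh F) (hF0 : ¬ IsZero F)
    (ι : F ⟶ (Scheme.Modules.pullback (Curv2.bcFst k X K)).obj E) [Mono ι] :
    (Gies.hp K ((Scheme.Modules.pullback (Curv2.bcFst k X K)).obj L) F).natDegree ≤ d ∧
      0 < alphaL d (Gies.hv K ((Scheme.Modules.pullback (Curv2.bcFst k X K)).obj L) F) ∧
        Gies.hv K ((Scheme.Modules.pullback (Curv2.bcFst k X K)).obj L) F ≤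
          alphaL d (Gies.hv K ((Scheme.Modules.pullback (Curv2.bcFst k X K)).obj L) F) • v := by
  have := isLocallyNoetherian_of_proper k X
  have := isLocallyNoetherian_of_proper K (Curv2.bc k X K)
  have HK := hilb_bc (k := k) 𝓗 hL K
  have Hk := 𝓗 k X L hL
  obtain ⟨n, hn, G, κ, hκ, hG, hGp⟩ := exists_sub_pow (k := k) 𝓗 hL K hE hF ι
  have hn' : (0 : ℚ) < n := by exact_mod_cast hn
  have hadd := Gies.add_coh Hk
  let Q : X.Modules → Prop := fun F => Coh.IsCoh F ∧ (Gies.hp k L F).natDegree ≤ d ∧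
    (¬ IsZero F → 0 < alphaL d (Gies.hv k L F)) ∧ Gies.hv k L F ≤ alphaL d (Gies.hv k L F) • v
  have hz : ∀ Z : X.Modules, Coh.IsCoh Z → IsZero Z → Q Z := by
    intro Z hZ h0
    refine ⟨hZ, by rw [Gies.hp_zero Hk h0]; simp, fun h => absurd h0 h, ?_⟩
    rw [hadd.v_zero h0]; simp
  have hiso : ∀ {A B : X.Modules}, (A ≅ B) → Q A → Q B := by
    intro A B e hA
    have h1 : Gies.hv k L A = Gies.hv k L B := hadd.v_iso e hA.1
    have h2 : Gies.hp k L A = Gies.hp k L B := toPV_injective h1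
    refine ⟨hadd.ok_iso e hA.1, h2 ▸ hA.2.1, fun h0 => ?_, ?_⟩
    · rw [← h1]
      exact hA.2.2.1 fun h => h0 (h.of_iso e.symm)
    · rw [← h1]
      exact hA.2.2.2
  have hext : ∀ S : ShortComplex X.Modules, S.ShortExact → Coh.IsCoh S.X₁ → Coh.IsCoh S.X₂ →
      Coh.IsCoh S.X₃ → Q S.X₁ → Q S.X₃ → Q S.X₂ := by
    intro S hS h₁ h₂ h₃ hQ₁ hQ₃
    have e1 := Gies.hp_add Hk S hS h₁ h₂ h₃
    have e2 := hadd.add S hS h₁ h₂ h₃
    have nn : ∀ A : X.Modules, Q A → Coh.IsCoh A → 0 ≤ alphaL d (Gies.hv k L A) := by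
      intro A hA hA'
      by_cases h0 : IsZero A
      · rw [hadd.v_zero h0, map_zero]
      · exact (hA.2.2.1 h0).le
    refine ⟨h₂, ?_, fun h0 => ?_, ?_⟩
    · rw [e1]
      exact (natDegree_add_le _ _).trans (max_le hQ₁.2.1 hQ₃.2.1)
    · rw [e2, map_add]
      by_cases h1 : IsZero S.X₁
      · by_cases h3 : IsZero S.X₃
        · exfalso
          apply h0
          have := hS.mono_f
          have := hS.epi_g
          exact hS.exact.isZero_of_both_zeros (h1.eq_of_src _ _) (h3.eq_of_tgt _ _)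
        · exact add_pos_of_nonneg_of_pos (nn _ hQ₁ h₁) (hQ₃.2.2.1 h3)
      · exact add_pos_of_pos_of_nonneg (hQ₁.2.2.1 h1) (nn _ hQ₃ h₃)
    · rw [e2, map_add, add_smul]
      exact add_le_add hQ₁.2.2.2 hQ₃.2.2.2
  have hsub : ∀ (F : X.Modules) (ι : F ⟶ E), Mono ι → Coh.IsCoh F → Q F := by
    intro F ι hι hF
    by_cases h0 : IsZero F
    · exact hz F hF h0
    · obtain ⟨a, b, c⟩ := hb F ι hι hF h0
      exact ⟨hF, a, fun _ => b, c⟩
  have hQG : Q G := of_sub_pow Q hz hiso hext hE hsub hG κ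
  have hv : Gies.hv k L G = (n : ℚ) •
      Gies.hv K ((Scheme.Modules.pullback (Curv2.bcFst k X K)).obj L) F := by
    unfold Gies.hv
    rw [hGp, toPV_smul]
  have hpF := Gies.hv_pos HK hF hF0
  have hG0 : ¬ IsZero G := by
    intro h0
    have h1 := hadd.v_zero h0
    rw [hv] at h1
    exact (smul_pos hn' hpF).ne' h1
  obtain ⟨-, a, b, c⟩ := hQG
  have b' := b hG0
  rw [hv, map_smul, smul_eq_mul] at b'
  have b'' := pos_of_mul_pos_right b' hn'.le
  refine ⟨?_, b'', ?_⟩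
  · rw [hGp, natDegree_smul _ hn'.ne'] at a
    exact a
  · rw [hv, map_smul, smul_assoc] at c
    exact le_of_smul_le_smul_left c hn'

/-- Semistability is preserved by extension of the base field. -/
theorem isSemistable_bc {d : ℕ} {E : X.Modules} (hE : ShStab.IsSemistable k X L E d) :
    ShStab.IsSemistable K (Curv2.bc k X K)
      ((Scheme.Modules.pullback (Curv2.bcFst k X K)).obj L)
      ((Scheme.Modules.pullback (Curv2.bcFst k X K)).obj E) d := by
  have := isLocallyNoetherian_of_proper k X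
  have := isLocallyNoetherian_of_proper K (Curv2.bc k X K)
  have HK := hilb_bc (k := k) 𝓗 hL K
  have Hk := 𝓗 k X L hL
  have hEK : Coh.IsCoh ((Scheme.Modules.pullback (Curv2.bcFst k X K)).obj E) :=
    Groth.Agent.FormalA.PullbackQC.isCoh_pullback _ _ hE.1
  have hα := Gies.alpha_pos Hk hE.1 hE.2.1 hE.2.2.1
  obtain ⟨h1, h2, h3, h4⟩ := (Gies.isSemistable_iff Hk).mp hE
  have hpK := hp_bc (k := k) 𝓗 hL K hE.1
  have hvK : Gies.hv K ((Scheme.Modules.pullback (Curv2.bcFst k X K)).obj L)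
      ((Scheme.Modules.pullback (Curv2.bcFst k X K)).obj E) = Gies.hv k L E := by
    unfold Gies.hv
    rw [hpK]
  have hb := fun (F : (Curv2.bc k X K).Modules) (hF : Coh.IsCoh F) (hF0 : ¬ IsZero F)
    (ι : F ⟶ (Scheme.Modules.pullback (Curv2.bcFst k X K)).obj E) (_ : Mono ι) =>
    bound_ascend (k := k) 𝓗 hL K (d := d) ((alphaL d (Gies.hv k L E))⁻¹ • Gies.hv k L E) hE.1
      (fun F ι hι hF hF0 => by
        have hF' := Gies.okd_of_mono Hk ι hF h1
        refine ⟨hF'.2, h3 F ι hι hF' hF0, ?_⟩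
        have := h4 F ι hι hF'
        rw [smul_comm, ← inv_smul_le_iff_of_pos (inv_pos.mpr hα), inv_inv]
        exact this) hF hF0 ι
  refine (Gies.isSemistable_iff HK).mpr ⟨⟨hEK, by rw [hpK]; exact h1.2⟩, fun h0 => ?_,
    fun F ι hι hF hF0 => (hb F hF.1 hF0 ι hι).2.1, fun F ι hι hF => ?_⟩
  · have e := (Gies.add_coh HK).v_zero h0
    rw [hvK] at e
    exact (Gies.hv_pos Hk hE.1 hE.2.1).ne' e
  · by_cases hF0 : IsZero F
    · rw [(Gies.add_coh HK).v_zero hF0]; simp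
    · have h5 := (hb F hF.1 hF0 ι hι).2.2
      rw [smul_comm, ← inv_smul_le_iff_of_pos (inv_pos.mpr hα), inv_inv] at h5
      rw [hvK]
      exact h5

end SS

end K846.Ascent2
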