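import Groth.Agent.ShStab.K846.HomAbs
import Mathlib.Tactic.TFAE

/-!
# Semistability through saturated subobjects and pure quotients, abstract form
-/

set_option autoImplicit false
set_option linter.unusedSectionVars false

universe v u w

open CategoryTheory CategoryTheory.Limits

namespace K846.Tfae

open K846.JH K846.HomAbs

variable {C : Type u} [Category.{v} C] [Abelian C]
variable {V : Type w} [AddCommGroup V] [LinearOrder V] [IsOrderedAddMonoid V] [Module ℚ V]
  [PosSMulStrictMono ℚ V]
variable {ok : C → Prop} {P : C → V} {α : V →ₗ[ℚ] ℚ}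

/-- A subobject of the cokernel of a subobject `F` of `E` comes from `E`. -/
theorem exists_above (h : Lat.Add ok P) {E : C} (hE : ok E) {F : Subobject E} (hF : ok (F : C))
    {T : C} (κ : T ⟶ cokernel F.arrow) [Mono κ] (hT : ok T) :
    ∃ H : Subobject E, F ≤ H ∧ ok (H : C) ∧ P T = P (H : C) - P (F : C) := by
  have hc := h.ok_cokernel F.arrow hF hE
  have hcκ := h.ok_cokernel κ hT hc
  let π := cokernel.π F.arrow ≫ cokernel.π κ
  have hπ : Epi π := epi_comp _ _
  have hk := h.ok_kernel π hE hcκ
  refine ⟨Subobject.mk (kernel.ι π), ?_, h.ok_iso (Subobject.underlyingIso _).symm hk, ?_⟩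
  · refine Subobject.le_of_comm (kernel.lift π F.arrow (by simp [π]) ≫
      (Subobject.underlyingIso _).inv) ?_
    simp
  · rw [← h.v_iso (Subobject.underlyingIso _).symm hk, h.v_kernel π hE hcκ,
      h.v_cokernel κ hT hc, h.v_cokernel F.arrow hF hE]
    abel

/-- The saturation of a tested subobject. -/
theorem exists_saturation (h : Lat.Add ok P) (hnn : ∀ M : C, ok M → 0 ≤ α (P M))
    (hpos : ∀ M : C, ok M → ¬ IsZero M → 0 < P M)
    {E : C} (hE : ok E) (hacc : WellFoundedGT {F : Subobject E // ok (F : C)})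
    {F : Subobject E} (hF : ok (F : C)) :
    ∃ F' : Subobject E, F ≤ F' ∧ ok (F' : C) ∧ α (P (F' : C)) = α (P (F : C)) ∧
      PosMult ok P α (cokernel F'.arrow) := by
  let S : Set {F : Subobject E // ok (F : C)} := {G | F ≤ G.1 ∧ α (P (G.1 : C)) = α (P (F : C))}
  have hS : S.Nonempty := ⟨⟨F, hF⟩, le_rfl, rfl⟩
  obtain ⟨G, hGS, hG⟩ := hacc.wf.has_min S hS
  refine ⟨G.1, hGS.1, G.2, hGS.2, fun T κ hκ hT hz => ?_⟩
  refine lt_of_le_of_ne (hnn T hT) fun h0 => ?_
  obtain ⟨H, hH1, hH2, hH3⟩ := exists_above h hE G.2 κ hT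
  have hne : G.1 ≠ H := by
    intro he
    rw [← he, sub_self] at hH3
    exact (hpos T hT hz).ne' hH3
  refine hG ⟨H, hH2⟩ ⟨hGS.1.trans hH1, ?_⟩
    (lt_of_le_of_ne (show G ≤ ⟨H, hH2⟩ from hH1) fun e => hne (congrArg Subtype.val e))
  have : α (P T) = α (P (H : C)) - α (P (G.1 : C)) := by rw [hH3, map_sub]
  rw [← h0, eq_comm, sub_eq_zero] at this
  rw [this]
  exact hGS.2

variable (ok P α) in
/-- The four conditions, for a relation `R` on `V` (`≤` or `<`). -/
def cond (R : V → V → Prop) (E : C) : List Prop :=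
  [∀ (F : C) (ι : F ⟶ E), Mono ι → ok F → ¬ IsZero F → ¬ IsIso ι →
      R (α (P E) • P F) (α (P F) • P E),
    ∀ (F : C) (ι : F ⟶ E), Mono ι → ok F → ¬ IsZero F → ¬ IsIso ι →
      PosMult ok P α (cokernel ι) → R (α (P E) • P F) (α (P F) • P E),
    ∀ (G : C) (π : E ⟶ G), Epi π → ok G → ¬ IsIso π → 0 < α (P G) →
      R (α (P G) • P E) (α (P E) • P G),
    ∀ (G : C) (π : E ⟶ G), Epi π → ok G → ¬ IsZero G → ¬ IsIso π → PosMult ok P α G →
      R (α (P G) • P E) (α (P E) • P G)]

/-- The seesaw for a translation invariant relation. -/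
theorem seesaw {R : V → V → Prop} (hR : ∀ x y : V, R x y ↔ R 0 (y - x)) {x y z : V}
    (e : x = y + z) : R (α x • y) (α y • x) ↔ R (α z • x) (α x • z) := by
  rw [hR (α x • y), hR (α z • x)]
  have : α y • x - α x • y = α x • z - α z • x := by
    rw [e, map_add]
    module
  rw [this]

theorem tfae (h : Lat.Add ok P) (hnn : ∀ M : C, ok M → 0 ≤ α (P M))
    (hpos : ∀ M : C, ok M → ¬ IsZero M → 0 < P M)
    {E : C} (hE : ok E) (hacc : WellFoundedGT {F : Subobject E // ok (F : C)})
    (hp : PosMult ok P α E) (h0 : ¬ IsZero E)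
    (R : V → V → Prop) (hR : ∀ x y : V, R x y ↔ R 0 (y - x)) (hlt : ∀ x y : V, x < y → R x y)
    (htr : ∀ x y z : V, x ≤ y → R y z → R x z) : (cond ok P α R E).TFAE := by
  have hαE : 0 < α (P E) := hp E (𝟙 E) inferInstance hE h0
  unfold cond
  tfae_have 1 → 3 := by
    intro H G π hπ hG hi hα
    have hk := h.ok_kernel π hE hG
    have e : P E = P (kernel π) + P G := by rw [h.v_kernel π hE hG]; abel
    refine (seesaw hR e).mp (H _ (kernel.ι π) inferInstance hk ?_ ?_)
    · intro hz
      have := Preadditive.mono_of_isZero_kernel π hz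
      exact hi (isIso_of_mono_of_epi π)
    · intro hi'
      have hz : π = 0 := by
        have := kernel.condition π
        rwa [← cancel_epi (kernel.ι π), comp_zero]
      have hG0 : IsZero G := by
        rw [IsZero.iff_id_eq_zero, ← cancel_epi π, hz, zero_comp, zero_comp]
      rw [h.v_zero hG0, map_zero] at hα
      exact hα.false
  tfae_have 3 → 4 := by
    intro H G π hπ hG hG0 hi hpG
    exact H G π hπ hG hi (hpG G (𝟙 G) inferInstance hG hG0)
  tfae_have 4 → 2 := by
    intro H F ι hι hF hF0 hi hpc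
    have e : P E = P F + P (cokernel ι) := by rw [h.v_cokernel ι hF hE]; abel
    refine (seesaw hR e).mpr (H _ (cokernel.π ι) inferInstance (h.ok_cokernel ι hF hE) ?_ ?_ hpc)
    · intro hz
      have := Preadditive.epi_of_isZero_cokernel ι hz
      exact hi (isIso_of_mono_of_epi ι)
    · intro hi'
      apply hF0
      have h1 : ι = 0 := by
        have := cokernel.condition ι
        rwa [← cancel_mono (cokernel.π ι), zero_comp]
      exact IsZero.of_mono_eq_zero ι h1
  tfae_have 2 → 1 := by
    intro H F ι hι hF hF0 hi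
    have hF' : ok ((Subobject.mk ι : Subobject E) : C) :=
      h.ok_iso (Subobject.underlyingIso ι).symm hF
    have eF : P ((Subobject.mk ι : Subobject E) : C) = P F :=
      (h.v_iso (Subobject.underlyingIso ι).symm hF).symm
    obtain ⟨F', h1, h2, h3, h4⟩ := exists_saturation h hnn hpos hE hacc hF'
    have hle : P F ≤ P (F' : C) := by
      rw [← eF]; exact P_le_of_le h hpos hF' h2 h1
    rw [eF] at h3
    by_cases hi' : IsIso F'.arrow
    · apply hlt
      have e' : P (F' : C) = P E := h.v_iso (asIso F'.arrow) h2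
      rw [← h3, e']
      refine smul_lt_smul_of_pos_left ?_ hαE
      have hc : ¬ IsZero (cokernel ι) := by
        intro hz
        have := Preadditive.epi_of_isZero_cokernel ι hz
        exact hi (isIso_of_mono_of_epi ι)
      have := hpos _ (h.ok_cokernel ι hF hE) hc
      rw [h.v_cokernel ι hF hE] at this
      exact sub_pos.mp this
    · have hz' : ¬ IsZero (F' : C) := by
        intro hz
        rw [h.v_zero hz] at hle
        exact absurd (hpos F hF hF0) hle.not_gt
      have := H _ F'.arrow inferInstance h2 hz' hi' h4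
      rw [h3] at this
      exact htr _ _ _ (smul_le_smul_of_nonneg_left hle hαE.le) this
  tfae_finish

end K846.Tfae
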