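import Groth.Agent.ShStab.K846.StableExt
import Groth.Agent.Sga67.FlatPre

/-!
# Field extensions: geometric stability, descent of semistability
-/

set_option autoImplicit false
universe u
open CategoryTheory CategoryTheory.Limits AlgebraicGeometry Polynomial

namespace K846.Ascent3

open K849.PolyOrd Ascent

section Main

variable (𝓗 : AllHilb.{u}) {k : Type u} [Field k] {X : Scheme.{u}}
  [X.Over (Spec (CommRingCat.of k))] [IsProper (X ↘ Spec (CommRingCat.of k))]
  {L : X.Modules} (hL : CohB1.IsAmple L) (K : Type u) [Field K] [Algebra k K]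

include 𝓗 hL

/-- Submodules over a field extension specialize to submodules over a finite extension, with the same
Hilbert polynomial. -/
theorem exists_finite_sub {E : X.Modules} (hE : Coh.IsCoh E) {F : (Curv2.bc k X K).Modules}
    (hF : Coh.IsCoh F) (ι : F ⟶ (Scheme.Modules.pullback (Curv2.bcFst k X K)).obj E) [Mono ι] :
    ∃ (k₁ : Type u) (_ : Field k₁) (_ : Algebra k k₁) (_ : Module.Finite k k₁)
      (F₁ : (Curv2.bc k X k₁).Modules)
      (ι₁ : F₁ ⟶ (Scheme.Modules.pullback (Curv2.bcFst k X k₁)).obj E) (_ : Mono ι₁),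
      Coh.IsCoh F₁ ∧ Gies.hp k₁ ((Scheme.Modules.pullback (Curv2.bcFst k X k₁)).obj L) F₁ =
        Gies.hp K ((Scheme.Modules.pullback (Curv2.bcFst k X K)).obj L) F := by
  have := isLocallyNoetherian_of_proper k X
  have := isLocallyNoetherian_of_proper K (Curv2.bc k X K)
  have hEK : Coh.IsCoh ((Scheme.Modules.pullback (Curv2.bcFst k X K)).obj E) :=
    Groth.Agent.FormalA.PullbackQC.isCoh_pullback _ _ hE
  have hc := Groth.Agent.Sga67.CohBasic.isCoh_cokernel ι hF.1 hEK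
  have hQ := Gies.isHilbPoly_hp (hilb_bc (k := k) 𝓗 hL K) hc
  obtain ⟨k₁, _, _, hfin, F₁, ι₁, hι₁, hF₁, hP⟩ := Spread.exists_finite
    (X ↘ Spec (CommRingCat.of k)) ⟨L, hL⟩ hL.1 hE
    (Spec.map (CommRingCat.ofHom (algebraMap k K))) hF ι
  have h1 := hp_sub_bc (k := k) 𝓗 hL K hE hF ι hQ
  have hQ₁ := (hP _).mp hQ
  have h2 := hp_sub_bc (k := k) 𝓗 hL k₁ hE hF₁ ι₁ hQ₁
  exact ⟨k₁, _, _, hfin, F₁, ι₁, hι₁, hF₁, h2.trans h1.symm⟩

/-- Stable and simple modules are geometrically stable. -/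
theorem isStable_bc {d : ℕ} {E : X.Modules} (hE : ShStab.IsStable k X L E d)
    (hs : ∀ φ : E ⟶ E, ∃ c : k, φ = Formal.smulMod k E c) :
    ShStab.IsStable K (Curv2.bc k X K)
      ((Scheme.Modules.pullback (Curv2.bcFst k X K)).obj L)
      ((Scheme.Modules.pullback (Curv2.bcFst k X K)).obj E) d := by
  have := isLocallyNoetherian_of_proper k X
  have := isLocallyNoetherian_of_proper K (Curv2.bc k X K)
  have HK := hilb_bc (k := k) 𝓗 hL K
  have Hk := 𝓗 k X L hL
  have hSS := Ascent2.isSemistable_bc (k := k) 𝓗 hL K (Gies.isSemistable_of_isStable hE)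
  obtain ⟨h1, h2, h3, h4⟩ := (Gies.isSemistable_iff HK).mp hSS
  refine (Gies.isStable_iff HK).mpr ⟨h1, h2, h3, fun F ι hι hF hF0 hi => ?_⟩
  refine lt_of_le_of_ne (h4 F ι hι hF) fun heq => hi ?_
  have hpK := hp_bc (k := k) 𝓗 hL K hE.1
  have hvK : Gies.hv K ((Scheme.Modules.pullback (Curv2.bcFst k X K)).obj L)
      ((Scheme.Modules.pullback (Curv2.bcFst k X K)).obj E) = Gies.hv k L E := by
    unfold Gies.hv
    rw [hpK]
  rw [hvK] at heq
  obtain ⟨k₁, _, _, hfin, F₁, ι₁, hι₁, hF₁, hP⟩ :=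
    exists_finite_sub (k := k) 𝓗 hL K hE.1 hF.1 ι
  have := isLocallyNoetherian_of_proper k₁ (Curv2.bc k X k₁)
  have Hk₁ := hilb_bc (k := k) 𝓗 hL k₁
  have hv₁ : Gies.hv k₁ ((Scheme.Modules.pullback (Curv2.bcFst k X k₁)).obj L) F₁ =
      Gies.hv K ((Scheme.Modules.pullback (Curv2.bcFst k X K)).obj L) F := by
    unfold Gies.hv
    rw [hP]
  have hF₁0 : ¬ IsZero F₁ := by
    intro h0
    have e := (Gies.add_coh Hk₁).v_zero h0
    rw [hv₁] at e
    exact (Gies.hv_pos HK hF.1 hF0).ne' e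
  have hepi : Epi ι₁ := StableExt.epi_of_eq Hk hL.1 (Curv2.bcFst k X k₁) (isPullback_bc k X k₁) Hk₁
    hE hs hF₁ hF₁0 ι₁ (by rw [hv₁]; exact heq)
  have hiso : IsIso ι₁ := isIso_of_mono_of_epi ι₁
  have e1 := (Gies.add_coh Hk₁).v_iso (asIso ι₁) hF₁
  have hvk₁ : Gies.hv k₁ ((Scheme.Modules.pullback (Curv2.bcFst k X k₁)).obj L)
      ((Scheme.Modules.pullback (Curv2.bcFst k X k₁)).obj E) = Gies.hv k L E := by
    unfold Gies.hv
    rw [hp_bc (k := k) 𝓗 hL k₁ hE.1]
  have e2 : Gies.hv K ((Scheme.Modules.pullback (Curv2.bcFst k X K)).obj L) F =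
      Gies.hv K ((Scheme.Modules.pullback (Curv2.bcFst k X K)).obj L)
        ((Scheme.Modules.pullback (Curv2.bcFst k X K)).obj E) := by
    rw [hvK, ← hvk₁, ← hv₁]
    exact e1
  exact HomAbs.isIso_of_mono (Gies.add_okd HK d) hF h1 (Gies.pos_okd HK d) e2 ι

omit 𝓗 hL [IsProper (X ↘ Spec (CommRingCat.of k))] in
theorem flat_bcFst (k : Type u) [Field k] (X : Scheme.{u}) [X.Over (Spec (CommRingCat.of k))]
    (K : Type u) [Field K] [Algebra k K] : Flat (Curv2.bcFst k X K) := by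
  have : Flat (Spec.map (CommRingCat.ofHom (algebraMap k K))) := by
    rw [HasRingHomProperty.Spec_iff (P := @Flat)]
    exact (RingHom.flat_algebraMap_iff (R := k) (S := K)).mpr inferInstance
  exact MorphismProperty.of_isPullback (isPullback_bc k X K).flip this

omit 𝓗 hL [IsProper (X ↘ Spec (CommRingCat.of k))] in
theorem mono_bc {F E : X.Modules} (ι : F ⟶ E) [Mono ι] :
    Mono ((Scheme.Modules.pullback (Curv2.bcFst k X K)).map ι) := by
  have := flat_bcFst k X K
  have := Groth.Agent.Sga67.FlatPre.preservesFiniteLimits_pullback (Curv2.bcFst k X K)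
  infer_instance

theorem hv_bc {E : X.Modules} (hE : Coh.IsCoh E) :
    Gies.hv K ((Scheme.Modules.pullback (Curv2.bcFst k X K)).obj L)
      ((Scheme.Modules.pullback (Curv2.bcFst k X K)).obj E) = Gies.hv k L E := by
  unfold Gies.hv
  rw [hp_bc (k := k) 𝓗 hL K hE]

/-- Descent of semistability (in fact of purity too). -/
theorem isSemistable_of_bc {d : ℕ} {E : X.Modules} (hE : Coh.IsCoh E)
    (h : ShStab.IsSemistable K (Curv2.bc k X K)
      ((Scheme.Modules.pullback (Curv2.bcFst k X K)).obj L)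
      ((Scheme.Modules.pullback (Curv2.bcFst k X K)).obj E) d) : ShStab.IsSemistable k X L E d := by
  have := isLocallyNoetherian_of_proper k X
  have := isLocallyNoetherian_of_proper K (Curv2.bc k X K)
  have HK := hilb_bc (k := k) 𝓗 hL K
  have Hk := 𝓗 k X L hL
  obtain ⟨h1, h2, h3, h4⟩ := (Gies.isSemistable_iff HK).mp h
  have hcoh : ∀ {F : X.Modules}, Coh.IsCoh F →
      Coh.IsCoh ((Scheme.Modules.pullback (Curv2.bcFst k X K)).obj F) := fun hF =>
    Groth.Agent.FormalA.PullbackQC.isCoh_pullback _ _ hF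
  have hnz : ∀ {F : X.Modules}, Coh.IsCoh F → ¬ IsZero F →
      ¬ IsZero ((Scheme.Modules.pullback (Curv2.bcFst k X K)).obj F) := by
    intro F hF hF0 h0
    have e := (Gies.add_coh HK).v_zero h0
    rw [hv_bc (k := k) 𝓗 hL K hF] at e
    exact (Gies.hv_pos Hk hF hF0).ne' e
  have hE0 : Gies.okd k L d E := ⟨hE, by
    rw [← hp_bc (k := k) 𝓗 hL K hE]; exact h1.2⟩
  refine (Gies.isSemistable_iff Hk).mpr ⟨hE0, fun h0 => h2 ?_, fun F ι hι hF hF0 => ?_,
    fun F ι hι hF => ?_⟩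
  · by_contra h5
    have e := (Gies.add_coh Hk).v_zero h0
    rw [← hv_bc (k := k) 𝓗 hL K hE] at e
    exact (Gies.hv_pos HK h1.1 h5).ne' e
  · have := mono_bc (k := k) K ι
    rw [← hv_bc (k := k) 𝓗 hL K hF.1]
    exact h3 _ ((Scheme.Modules.pullback (Curv2.bcFst k X K)).map ι) inferInstance
      (Gies.okd_of_mono HK ((Scheme.Modules.pullback (Curv2.bcFst k X K)).map ι) (hcoh hF.1) h1)
      (hnz hF.1 hF0)
  · have := mono_bc (k := k) K ι
    rw [← hv_bc (k := k) 𝓗 hL K hF.1, ← hv_bc (k := k) 𝓗 hL K hE]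
    exact h4 _ ((Scheme.Modules.pullback (Curv2.bcFst k X K)).map ι) inferInstance
      (Gies.okd_of_mono HK ((Scheme.Modules.pullback (Curv2.bcFst k X K)).map ι) (hcoh hF.1) h1)

end Main

end K846.Ascent3
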