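import Groth.Agent.ShStab.K846.OpenVA
import Groth.Agent.Ega2.AmpleVery
import Groth.Agent.CalgB.AmpleBase
import Groth.Agent.CalgB.AmpleRel

/-!
# Openness of the stability conditions: relatively ample polarisations

The Hilbert polynomial with respect to `L^m` is `P(mX)`; the two inputs of the openness theorem for a relatively
ample module follow from those for a relatively very ample power.
-/

set_option autoImplicit false
universe u
open CategoryTheory CategoryTheory.Limits AlgebraicGeometry StabCat Polynomial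

namespace K846.RelAmp

open Groth.Agent Groth.Agent.Fga.PicMon K846.FieldPt K846.OpenMain K846.Localize K846.OpenFib

/-- `P(mX)`. -/
noncomputable def sc (m : ℕ) (P : ℚ[X]) : ℚ[X] := P.comp (C (m : ℚ) * X)

theorem sc_eval (m : ℕ) (P : ℚ[X]) (a : ℕ) : (sc m P).eval (a : ℚ) = P.eval ((m * a : ℕ) : ℚ) := by
  simp [sc]

theorem sc_injective {m : ℕ} (hm : 0 < m) : Function.Injective (sc m) := by
  intro P Q h
  have hm' : (m : ℚ) ≠ 0 := by exact_mod_cast hm.ne'
  have key : ∀ P : ℚ[X], (sc m P).comp (C ((m : ℚ)⁻¹) * X) = P := by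
    intro P
    rw [sc, comp_assoc]
    simp only [mul_comp, C_comp, X_comp]
    rw [← mul_assoc, ← C_mul, mul_inv_cancel₀ hm', C_1, one_mul, comp_X]
  rw [← key P, h, key Q]

theorem alpha_sc (m : ℕ) (P : ℚ[X]) (i : ℕ) : alpha i (sc m P) = (m : ℚ) ^ i * alpha i P := by
  unfold alpha sc
  rw [comp_C_mul_X_coeff]
  ring

theorem hatSlope_sc (m : ℕ) (P : ℚ[X]) (d : ℕ) :
    hatSlope d (sc m P) = (m : ℚ) ^ (d - 1) / (m : ℚ) ^ d * hatSlope d P := by
  unfold hatSlope
  rw [alpha_sc, alpha_sc, mul_div_mul_comm]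

section Field

variable {K : Type u} [Field K] {Y : Scheme.{u}} [Y.Over (Spec (CommRingCat.of K))]

theorem isHilbPoly_pow {L G : Y.Modules} {P : ℚ[X]} (h : ShStab.IsHilbPoly K Y L G P) (m : ℕ) :
    ShStab.IsHilbPoly K Y (CohB1.tensorPow L m) G (sc m P) := by
  intro a
  have e : Nonempty (ShStab.twist Y (CohB1.tensorPow L m) G a ≅ ShStab.twist Y L G (m * a)) := by
    rw [← mc_eq_iff]
    unfold ShStab.twist
    rw [mc_tensor, mc_tensor, mc_tensorPow, mc_tensorPow, mc_tensorPow, ← pow_mul]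
  rw [K847.HilbBasic.euler_congr K e.some, h (m * a), sc_eval]

theorem isHilbPoly_pow_iff [IsProper (Y ↘ Spec (CommRingCat.of K))] {L G : Y.Modules} (hL : PicF.IsInvertible L)
    (hG : Coh.IsCoh G) {m : ℕ} (hm : 0 < m) (P : ℚ[X]) :
    ShStab.IsHilbPoly K Y (CohB1.tensorPow L m) G (sc m P) ↔ ShStab.IsHilbPoly K Y L G P := by
  refine ⟨fun h => ?_, fun h => isHilbPoly_pow h m⟩
  obtain ⟨Q, hQ⟩ := K847.HilbBasic.exists_hilbPoly K hL hG
  have h1 := K847.HilbBasic.hilbPoly_unique K h (isHilbPoly_pow hQ m)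
  rw [sc_injective hm h1]
  exact hQ

end Field

variable {X S : Scheme.{u}} {f : X ⟶ S} {L F : X.Modules}

theorem gls_of_pow {d : ℕ} {a₀ μ₀ : ℚ} {m : ℕ} (hm : 0 < m) (hLi : PicF.IsInvertible L)
    (h : GLS f (CohB1.tensorPow L m) F d ((m : ℚ) ^ d * a₀) ((m : ℚ) ^ (d - 1) / (m : ℚ) ^ d * μ₀)) :
    GLS f L F d a₀ μ₀ := by
  have hm' : (0 : ℚ) < m := by exact_mod_cast hm
  obtain ⟨PS, hfin, hPS⟩ := h
  refine ⟨sc m ⁻¹' PS, hfin.preimage (sc_injective hm).injOn, ?_⟩
  intro K _ _ t Y p q H G π hπ hG hp Q hQ h1 h2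
  let : Y.Over (Spec (CommRingCat.of K)) := ⟨q⟩
  obtain ⟨e⟩ := Ega3B.PullTensor.nonempty_pullPowIso p hLi m
  refine hPS K t Y p q H G π hπ hG hp (sc m Q) (Twist.isHilbPoly_iso e.symm (Iso.refl G) (isHilbPoly_pow hQ m)) ?_ ?_
  · rw [alpha_sc]
    exact mul_le_mul_of_nonneg_left h1 (by positivity)
  · rw [hatSlope_sc]
    exact mul_le_mul_of_nonneg_left h2 (by positivity)

theorem hasQuot_pow {K : Type u} [Field K] {Y : Scheme.{u}} {q : Y ⟶ Spec (CommRingCat.of K)}
    [IsProper q] {L F : Y.Modules} (hLi : PicF.IsInvertible L) {m : ℕ} (hm : 0 < m) (Φ : ℚ[X]) :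
    HasQuot K q (CohB1.tensorPow L m) F (fun Q => Q = sc m Φ) ↔ HasQuot K q L F (fun Q => Q = Φ) := by
  let : Y.Over (Spec (CommRingCat.of K)) := ⟨q⟩
  have : IsProper (Y ↘ Spec (CommRingCat.of K)) := ‹IsProper q›
  constructor
  · rintro ⟨G, π, h1, h2, Q, h3, h4⟩
    subst h4
    exact ⟨G, π, h1, h2, Φ, (isHilbPoly_pow_iff hLi h2 hm Φ).1 h3, rfl⟩
  · rintro ⟨G, π, h1, h2, Q, h3, h4⟩
    subst h4
    exact ⟨G, π, h1, h2, _, isHilbPoly_pow h3 m, rfl⟩

theorem Z_pow [IsProper f] (hLi : PicF.IsInvertible L) {m : ℕ} (hm : 0 < m) (Φ : ℚ[X]) :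
    Z f (CohB1.tensorPow L m) F (fun Q => Q = sc m Φ) = Z f L F (fun Q => Q = Φ) := by
  have key : ∀ (K : Type u) [Field K] (t : Spec (CommRingCat.of K) ⟶ S),
      HasQuot K (pullback.snd f t) ((Scheme.Modules.pullback (pullback.fst f t)).obj (CohB1.tensorPow L m))
        ((Scheme.Modules.pullback (pullback.fst f t)).obj F) (fun Q => Q = sc m Φ) ↔
      HasQuot K (pullback.snd f t) ((Scheme.Modules.pullback (pullback.fst f t)).obj L)
        ((Scheme.Modules.pullback (pullback.fst f t)).obj F) (fun Q => Q = Φ) := by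
    intro K _ t
    obtain ⟨e⟩ := Ega3B.PullTensor.nonempty_pullPowIso (pullback.fst f t) hLi m
    rw [← hasQuot_pow (Fdesc.LocGen.isInvertible_pullback _ hLi) hm Φ]
    exact ⟨fun h => h.iso e (Iso.refl _), fun h => h.iso e.symm (Iso.refl _)⟩
  ext s
  constructor
  · rintro ⟨K, _, t, pt, hpt, hq⟩
    exact ⟨K, inferInstance, t, pt, hpt, (key K t).1 hq⟩
  · rintro ⟨K, _, t, pt, hpt, hq⟩
    exact ⟨K, inferInstance, t, pt, hpt, (key K t).2 hq⟩

/-- Over an affine open part of the base a relatively ample module is ample. -/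
theorem isAmple_affine (hL : RelAmple.IsRelAmple f L) (V : S.Opens) (hV : IsAffineOpen V) :
    CohB1.IsAmple ((Scheme.Modules.pullback (pullback.fst f V.ι)).obj L) := by
  have h1 : CohB1.IsAmple (L.restrict (f ⁻¹ᵁ V).ι) := hL.2 ⟨V, hV⟩
  let e : pullback f V.ι ≅ (f ⁻¹ᵁ V : Scheme.{u}) := (pullbackRestrictIsoRestrict f V)
  have he : e.hom ≫ (f ⁻¹ᵁ V).ι = pullback.fst f V.ι := pullbackRestrictIsoRestrict_hom_ι f V
  have h2 := CalgB.AmpleBase.isAmple_pullback_of_isImmersion e.hom h1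
  refine Flat2H.FamDict.isAmple_of_iso ?_ h2
  exact (Scheme.Modules.pullback e.hom).mapIso ((Scheme.Modules.restrictFunctorIsoPullback (f ⁻¹ᵁ V).ι).app L) ≪≫
    (Scheme.Modules.pullbackComp e.hom (f ⁻¹ᵁ V).ι).app L ≪≫ (Scheme.Modules.pullbackCongr he).app L

/-- Over an affine open part of the base some power is very ample. -/
theorem exists_pow [IsProper f] (hL : RelAmple.IsRelAmple f L) (V : S.Opens) (hV : IsAffineOpen V) :
    ∃ m : ℕ, 0 < m ∧ RelAmple.IsRelVeryAmplePn (pullback.snd f V.ι)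
      (CohB1.tensorPow ((Scheme.Modules.pullback (pullback.fst f V.ι)).obj L) m) := by
  have : IsAffine (V : Scheme.{u}) := hV
  obtain ⟨n₀, h⟩ := Ega2.AmpleVery.exists_forall_isRelVeryAmplePn (pullback.snd f V.ι) (isAmple_affine hL V hV)
  exact ⟨n₀ + 1, by omega, h _ (by omega)⟩

theorem isInvertible (hL : RelAmple.IsRelAmple f L) : PicF.IsInvertible L :=
  CalgB.AmpleRel.isInvertible_of_isRelAmple hL

/-- A relatively ample module is ample on the field-valued fibres. -/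
theorem fAmple [IsProper f] (hL : RelAmple.IsRelAmple f L) : FAmple f L := by
  intro K _ t Y p q H
  obtain ⟨_, ⟨V, hV, rfl⟩, hsV, -⟩ :=
    S.isBasis_affineOpens.exists_subset_of_mem_open (Set.mem_univ (t (IsLocalRing.closedPoint K))) isOpen_univ
  let V' : S.Opens := V
  obtain ⟨t', p', ht', hp', H'⟩ := exists_square_open f V'.ι t _ ⟨⟨_, hsV⟩, rfl⟩ H
  have : IsAffine (V' : Scheme.{u}) := hV
  have : IsAffineHom t' := inferInstance
  have : IsAffineHom p' := MorphismProperty.of_isPullback H'.flip this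
  have h2 := Ascent.isAmple_pullback p' (isAmple_affine hL V' hV)
  exact Flat2H.FamDict.isAmple_of_iso ((Scheme.Modules.pullbackComp p' _).app L ≪≫
    (Scheme.Modules.pullbackCongr hp').app L) h2

/-- The set of points over which there is a quotient with given Hilbert polynomial is closed. -/
theorem isClosed_Z [IsProper f] [IsLocallyNoetherian S] (hL : RelAmple.IsRelAmple f L) (hF : Coh.IsCoh F)
    (Φ : Polynomial ℚ) : IsClosed (Z f L F (fun Q => Q = Φ)) := by
  refine isClosed_Z_of_cover f F (isInvertible hL) _ fun s => ?_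
  obtain ⟨_, ⟨V, hV, rfl⟩, hsV, -⟩ :=
    S.isBasis_affineOpens.exists_subset_of_mem_open (Set.mem_univ s) isOpen_univ
  let V' : S.Opens := V
  refine ⟨V', V'.ι, inferInstance, ⟨⟨s, hsV⟩, rfl⟩, ?_⟩
  obtain ⟨m, hm, h1⟩ := exists_pow hL V' hV
  rw [← Z_pow (Fdesc.LocGen.isInvertible_pullback _ (isInvertible hL)) hm Φ]
  exact OpenVA.isClosed_Z h1 (FormalA.PullbackQC.isCoh_pullback _ _ hF) _

/-- **Grothendieck's lemma for families.** -/
theorem gls [IsProper f] [IsNoetherian S] (hL : RelAmple.IsRelAmple f L) (hF : Coh.IsCoh F)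
    (d : ℕ) (a₀ μ₀ : ℚ) : GLS f L F d a₀ μ₀ := by
  obtain ⟨J, hJ, V, hV, hc⟩ := Ega2.H287.FinGenFree.exists_cover S
  refine gls_of_cover f F (ι := J) (fun j => (V j : Scheme.{u})) (fun j => (V j).ι) (fun s => ?_) fun j => ?_
  · have h1 : s ∈ (⨆ j, V j : S.Opens) := by rw [hc]; trivial
    obtain ⟨j, hj⟩ := TopologicalSpace.Opens.mem_iSup.1 h1
    exact ⟨j, ⟨s, hj⟩, rfl⟩
  · obtain ⟨m, hm, h1⟩ := exists_pow hL (V j) (hV j)
    have : CompactSpace (V j : Scheme.{u}) := isCompact_iff_compactSpace.mp (hV j).isCompact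
    have : IsNoetherian (V j : Scheme.{u}) := {}
    exact gls_of_pow hm (Fdesc.LocGen.isInvertible_pullback _ (isInvertible hL))
      (OpenVA.gls h1 (FormalA.PullbackQC.isCoh_pullback _ _ hF) d _ _)

section Open

variable [IsNoetherian S] (f) [IsProper f] (hL : RelAmple.IsRelAmple f L) (hF : Coh.IsCoh F)
  {P : Polynomial ℚ} {d : ℕ}
  (hP : ∀ s : S, @ShStab.IsHilbPoly (S.residueField s) _ (f.fiber s)
    (fibOver f s) (CohIII.fiberMod f L s) (CohIII.fiberMod f F s) P)
  (hd : ∀ s : S, topologicalKrullDim (CohB1.support (CohIII.fiberMod f F s)) = (d : WithBot ℕ∞))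

include hL hF hP hd

/-- **Openness of semistability.** -/
theorem isOpen_semistable : IsOpen {s : S | @ShStab.IsSemistable (S.residueField s) _ (f.fiber s)
    (fibOver f s) (CohIII.fiberMod f L s) (CohIII.fiberMod f F s) d} :=
  OpenFinal.isOpen_semistable f (isInvertible hL) (fAmple hL) hF hP hd
    (fun _ _ => (gls hL hF d _ _).gLem) (isClosed_Z hL hF)

/-- **Openness of geometric stability.** -/
theorem isOpen_geomStable : IsOpen {s : S | @ShStab.IsGeomStable (S.residueField s) _ (f.fiber s)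
    (fibOver f s) (CohIII.fiberMod f L s) (CohIII.fiberMod f F s) d} :=
  OpenFinal.isOpen_geomStable f (isInvertible hL) (fAmple hL) hF hP hd
    (fun _ _ => (gls hL hF d _ _).gLem) (isClosed_Z hL hF)

/-- **Openness of `ℓ`-semistability.** -/
theorem isOpen_ellSemistable {ℓ : ℕ} (hℓ : 1 ≤ ℓ) :
    IsOpen {s : S | @ShStab.IsEllSemistable (S.residueField s) _ (f.fiber s)
      (fibOver f s) (CohIII.fiberMod f L s) (CohIII.fiberMod f F s) d ℓ} :=
  OpenFinal.isOpen_ellSemistable f (isInvertible hL) (fAmple hL) hF hP hd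
    (fun _ _ => (gls hL hF d _ _).gLem) (isClosed_Z hL hF) hℓ

end Open

end K846.RelAmp
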