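import Groth.Agent.ShStab.K781.Inst2
import Groth.Agent.ShStab.K781.Base2

/-!
# Node Geo of the restriction theorem (namespace `K846.NodeGeo`)

`main : StmtFilt → StmtU → StmtK → StmtGeo`.
-/

set_option autoImplicit false
universe u
open CategoryTheory CategoryTheory.Limits AlgebraicGeometry TopologicalSpace Polynomial

namespace K846.NodeGeo

open Groth.Agent Groth.Agent.Fga.RegSec Groth.Agent.Fga.PicMon ShStab StabCat K847.Pn K847.GL
  Groth.Agent.FormalA.HHLin K781.Base K781.Cat K781.Cat2 K781.PLat K846.CSub K781.Inst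

section

variable {k : Type u} [Field k] {n : ℕ} {E : (CohB1.ProjSpace n k).Modules}

theorem PC_def (A : CSub E) : PC A = Coherent.K51.HPDict.hp k n (A.1 : (CohB1.ProjSpace n k).Modules) := rfl

/-- The degree drops by one if the top coefficient vanishes. -/
theorem natDegree_of_alpha {P : ℚ[X]} {d : ℕ} (hd : P.natDegree ≤ d + 1) (h : alpha (d + 1) P = 0) :
    P.natDegree ≤ d := natDegree_le_of_alpha hd h

/-- `B / A` is pure if `A` is saturated. -/
theorem isPure_factor {A B : CSub E} (hAB : A ≤ B) {d : ℕ} (hd : (PC B - PC A).natDegree ≤ d + 1)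
    (hsat : ∀ H : CSub E, A ≤ H → alpha (d + 1) (PC H) = alpha (d + 1) (PC A) → H ≤ A) :
    IsPure (CohB1.ProjSpace n k) (cokernel (Subobject.ofLE A.1 B.1 hAB)) (d + 1) := by
  intro F ι hι hF h0
  have hcc : Coh.IsCoh (cokernel (Subobject.ofLE A.1 B.1 hAB)) := coh_coker (k := k) facts hAB
  obtain ⟨H, h1, h2, h3⟩ := exists_mid (k := k) facts hAB ι hF
  have h4 := K849.Inst.natDegree_le_of_mono (facts (k := k) (n := n)) ι hF hcc
  rw [hp_coker (k := k) facts hAB] at h4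
  have h5 : (Coherent.K51.HPDict.hp k n F).natDegree ≤ d + 1 := h4.trans hd
  have h6 : (Coherent.K51.HPDict.hp k n F).natDegree = d + 1 := by
    by_contra hcon
    have h7 : (Coherent.K51.HPDict.hp k n F).natDegree < d + 1 := by omega
    have h8 : alpha (d + 1) (Coherent.K51.HPDict.hp k n F) = 0 := K847.PolyOrd.alpha_eq_zero_of_natDegree_lt h7
    rw [h3, K847.PolyOrd.alpha_sub] at h8
    have h9 : H ≤ A := hsat H h1 (sub_eq_zero.mp h8)
    have h10 : H = A := le_antisymm h9 h1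
    have h11 : Coherent.K51.HPDict.hp k n F = 0 := by rw [h3, h10, sub_self]
    have h12 := (facts (k := k) (n := n)).pos F hF h0
    rw [h11, leadingCoeff_zero] at h12
    exact lt_irrefl _ h12
  rw [(facts (k := k) (n := n)).dim F hF h0, h6]

/-- `K` is saturated if `E / K` is pure. -/
theorem sat_of_isPure [hE : Fact (Coh.IsCoh E)] {d : ℕ} (hd : DimLE E (d + 1)) (K : CSub E)
    {Q : (CohB1.ProjSpace n k).Modules} (e : cokernel K.1.arrow ≅ Q) (hQ : IsPure (CohB1.ProjSpace n k) Q (d + 1))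
    (B : CSub E) (hKB : K ≤ B) (ha : alpha (d + 1) (PC B) = alpha (d + 1) (PC K)) : B ≤ K := by
  have hdeg : ∀ A : CSub E, (PC A).natDegree ≤ d + 1 := fun A =>
    K774.NodeK.natDegree_le_of_dimLE k A.2 (K774.NodeK.dimLE_of_mono k A.1.arrow hd) (HP_PC A)
  have hcc : Coh.IsCoh (cokernel (Subobject.ofLE K.1 B.1 hKB)) := coh_coker (k := k) facts hKB
  have h1 : (PC B - PC K).natDegree ≤ d + 1 :=
    (Polynomial.natDegree_sub_le _ _).trans (max_le (hdeg B) (hdeg K))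
  have h2 : (PC B - PC K).natDegree ≤ d :=
    natDegree_le_of_alpha h1 (by rw [K847.PolyOrd.alpha_sub, ha, sub_self])
  by_cases h0 : IsZero (cokernel (Subobject.ofLE K.1 B.1 hKB))
  · have h3 : PC B - PC K = 0 := by
      have := hp_coker (k := k) facts hKB
      rw [K849.Inst.hp_zero facts h0] at this
      exact this.symm
    have h4 : K = B := eq_of_hp_eq (k := k) facts hKB (sub_eq_zero.mp h3).symm
    exact h4.symm.le
  · exfalso
    have hm1 : Mono (Lat.quotIncl (show K.1 ≤ B.1 from hKB) (le_top (a := B.1))) := inferInstance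
    have hm : Mono (Lat.quotIncl (show K.1 ≤ B.1 from hKB) (le_top (a := B.1)) ≫ (cokerTop K).hom ≫ e.hom) :=
      mono_comp _ _
    have h3 := hQ _ (Lat.quotIncl (show K.1 ≤ B.1 from hKB) (le_top (a := B.1)) ≫ (cokerTop K).hom ≫ e.hom) hm hcc h0
    rw [(facts (k := k) (n := n)).dim _ hcc h0, hp_coker (k := k) facts hKB] at h3
    have h4 : (PC B - PC K).natDegree = d + 1 := by exact_mod_cast h3
    omega

theorem nonempty_Th (G : (CohB1.ProjSpace n k).Modules) : Nonempty ((Th k n).functor.obj G ≅ tw G 1) := by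
  rw [← mc_eq_iff, mc_tw, Th_obj, mc_tensor, mul_comm]

theorem alpha_shift_1 {P : ℚ[X]} {g : ℕ} (hP : P.natDegree ≤ g + 1) (c : ℚ) :
    alpha (g + 1) (P.comp (X + C c)) = alpha (g + 1) P := by
  have h1 := alpha_comp_1 (g := g) (hP.trans (Nat.le_succ _)) (-c)
  rw [C_neg, sub_neg_eq_add, K847.PolyOrd.alpha_eq_zero_of_natDegree_lt (d := g + 2) (by omega)] at h1
  rw [h1]
  ring

theorem alpha_shift_2 {P : ℚ[X]} {g : ℕ} (hP : P.natDegree ≤ g + 1) (c : ℚ) :
    alpha g (P.comp (X + C c)) = alpha g P + c * alpha (g + 1) P := by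
  have h1 := alpha_comp_2 (g := g) (hP.trans (Nat.le_succ _)) (-c)
  rw [C_neg, sub_neg_eq_add, K847.PolyOrd.alpha_eq_zero_of_natDegree_lt (d := g + 2) (by omega)] at h1
  rw [h1]
  ring

theorem coeff_eq_of_alpha {P Q : ℚ[X]} {d : ℕ} (h : alpha d P = alpha d Q) : P.coeff d = Q.coeff d := by
  unfold alpha at h
  have h3 : (d.factorial : ℚ) ≠ 0 := by exact_mod_cast (Nat.factorial_ne_zero _)
  exact mul_left_cancel₀ h3 h

end

/-- **Node Geo.** -/
theorem main (hFilt : StmtFilt.{u}) (hU : StmtU.{u}) (hK : StmtK.{u}) : StmtGeo.{u} := by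
  intro k _ _ n g E hE hp c₀
  have hCoh : Coh.IsCoh E := hE.out
  have hd : DimLE E (g + 2) := dim_le_of_isPure hCoh hp
  have hdeg : ∀ A : CSub E, (PC A).natDegree ≤ g + 2 := fun A =>
    K774.NodeK.natDegree_le_of_dimLE k A.2 (K774.NodeK.dimLE_of_mono k A.1.arrow hd) (HP_PC A)
  obtain ⟨b, ρ, q, hb, hq⟩ := K774.NodeK.exists_fr k hCoh
  obtain ⟨c₁, hc₁⟩ := hU n b hb ρ g (alpha (g + 2) (PC (⊤ : CSub E))) c₀
  obtain ⟨C', 𝒮, h𝒮, hmain⟩ := hK k n (g + 1) E hCoh hp (PC (⊤ : CSub E)) HP_top c₁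
  refine ⟨C', 𝒮, h𝒮, ?_⟩
  intro s hs S N σ hS0 hanti hmul hmono hr hm hsat hσ hslope
  -- the chain
  let S' : ℕ → Subobject E := fun j => (S j).1
  have hS' : ∀ j, S' (j + 1) ≤ S' j := fun j => hanti j
  have hμ : ∀ j, j < N → ∃ μ : pc S' hS' j ⟶ tw (pc S' hS' (j + 1)) 1, Mono μ := by
    intro j hj
    have h1 : hsub (Th k n) (nu s) (S' j) ⊓ S' (j + 2) ≤ hsub (Th k n) (nu s) (S' (j + 1)) := by
      rw [inf_comm]
      exact hmono j hj
    obtain ⟨μ, hμ⟩ := exists_mono_theta (Th k n) (nu s) (hS' j) (hS' (j + 1)) (hmul j) (hmul (j + 1)) h1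
    obtain ⟨e⟩ := nonempty_Th (pc S' hS' (j + 1))
    exact ⟨μ ≫ e.hom, mono_comp _ _⟩
  obtain ⟨⟨κ, hκ⟩, hsum⟩ := hFilt k n g c₁ N (σ : ℚ) (Nat.cast_nonneg σ) E hCoh S' hS'
    (congrArg Subtype.val hS0) (fun j => (S j).2) hμ
  -- the coefficients
  have hstep : ∀ j, j ≤ N → alpha (g + 1) (PC (S j)) - alpha (g + 1) (PC (S (j + 1))) = σ := by
    intro j hj
    rw [hm j (by omega), hm (j + 1) (by omega)]
    push_cast
    ring
  have hdrop : ∀ j, (PC (S j) - PC (S (j + 1))).natDegree ≤ g + 1 := by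
    intro j
    refine natDegree_le_of_alpha ((Polynomial.natDegree_sub_le _ _).trans (max_le (hdeg _) (hdeg _))) ?_
    have h1 := hr j
    have h2 := hr (j + 1)
    rw [K847.PolyOrd.alpha_sub]
    linarith
  -- the module `T₀`
  have hcohT₀ : Coh.IsCoh (cokernel (S' 1).arrow) := Sga67.CohBasic.isCoh_cokernel _ (S 1).2.1 hCoh
  have hPT₀ : HP k (cokernel (S' 1).arrow) (PC (⊤ : CSub E) - PC (S 1)) :=
    K774.NodeK.HP_coker k (S' 1).arrow (S 1).2 hCoh (HP_PC (S 1)) HP_top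
  have hqT₀ : Epi (q ≫ cokernel.π (S' 1).arrow) := epi_comp _ _
  -- the module `T`
  have hcohp : Coh.IsCoh (pc S' hS' N) := coh_coker (k := k) facts (hanti N)
  have hcohT : Coh.IsCoh (tw (pc S' hS' N) (N : ℤ)) := isCoh_tw hcohp _
  have hPp : HP k (pc S' hS' N) (PC (S N) - PC (S (N + 1))) :=
    K774.NodeK.HP_coker k _ (S (N + 1)).2 (S N).2 (HP_PC (S (N + 1))) (HP_PC (S N))
  have hPT : HP k (tw (pc S' hS' N) (N : ℤ)) ((PC (S N) - PC (S (N + 1))).comp (X + C (((N : ℕ) : ℤ) : ℚ))) :=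
    HP_tw k hPp _
  have hpure : IsPure (CohB1.ProjSpace n k) (tw (pc S' hS' N) (N : ℤ)) (g + 1) :=
    isPure_tw (isPure_factor (hanti N) (hdrop N) hsat) _
  have hαT : alpha (g + 1) ((PC (S N) - PC (S (N + 1))).comp (X + C (((N : ℕ) : ℤ) : ℚ))) = σ := by
    rw [alpha_shift_1 (hdrop N), K847.PolyOrd.alpha_sub, hstep N le_rfl]
  have hαT₀ : alpha (g + 1) (PC (⊤ : CSub E) - PC (S 1)) = σ := by
    rw [K847.PolyOrd.alpha_sub, ← hS0]
    exact hstep 0 (Nat.zero_le _)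
  have hbound : ∀ t : ℤ, (h0 k (tw (pc S' hS' N) (N : ℤ)) t : ℚ) ≤
      (σ : ℚ) * (((t + c₁ + ((g + 1 : ℕ) : ℤ)).toNat.choose (g + 1) : ℕ) : ℚ) := by
    intro t
    have h1 := hc₁ k (cokernel (S' 1).arrow) (tw (pc S' hS' N) (N : ℤ)) (q ≫ cokernel.π (S' 1).arrow) κ hcohT₀
      hcohT hqT₀ hκ hpure _ _ hPT₀ hPT (coeff_eq_of_alpha (by rw [hαT, hαT₀])) (by rw [hαT]; exact hσ) (by
        rw [alpha_shift_2 (hdrop N), K847.PolyOrd.alpha_sub, K847.PolyOrd.alpha_sub, hstep N le_rfl]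
        push_cast
        exact hslope) t
    rwa [hαT] at h1
  have hV := hsum hbound
  -- the module `V`
  have hcohV : Coh.IsCoh (cokernel (S' (N + 1)).arrow) := Sga67.CohBasic.isCoh_cokernel _ (S (N + 1)).2.1 hCoh
  obtain ⟨Kg, K, i, j, hi, hj, hKg, hKc, hw, hpureK, hnum⟩ := hmain σ hσ (cokernel (S' (N + 1)).arrow)
    (cokernel.π (S' (N + 1)).arrow) hcohV inferInstance hV
  have hij : Mono (i ≫ j) := mono_comp _ _
  let K₁ : CSub E := ⟨Subobject.mk j, Sga67.CohBasic.isCoh_of_iso (Subobject.underlyingIso j).symm hKc⟩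
  let Kg₁ : CSub E := ⟨Subobject.mk (i ≫ j), Sga67.CohBasic.isCoh_of_iso (Subobject.underlyingIso (i ≫ j)).symm hKg⟩
  have hPK : HP k K (PC K₁) := HP_congr k (Subobject.underlyingIso j) (HP_PC K₁)
  have hPKg : HP k Kg (PC Kg₁) := HP_congr k (Subobject.underlyingIso (i ≫ j)) (HP_PC Kg₁)
  obtain ⟨hn1, hn2, hn3, hn4⟩ := hnum (PC K₁) (PC Kg₁) hPK hPKg
  obtain ⟨e⟩ : Nonempty (cokernel K₁.1.arrow ≅ cokernel j) :=
    exists_cokernel_iso _ _ (Subobject.underlyingIso j) (Subobject.underlyingIso_hom_comp_eq_mk j)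
  refine ⟨K₁, Kg₁, ?_, ?_, ?_, ?_, ?_, ?_, hn4⟩
  · exact Subobject.mk_le_mk_of_comm i rfl
  · exact Subobject.mk_le_of_comm (Abelian.monoLift (S (N + 1)).1.arrow (i ≫ j) hw)
      (Abelian.monoLift_comp _ _ _)
  · exact fun B hB ha => sat_of_isPure (d := g + 1) hd K₁ e hpureK B hB ha
  · rw [← K847.PolyOrd.alpha_sub]
    exact hn3
  · have h1 : alpha (g + 2) (PC K₁ - PC Kg₁) = 0 :=
      K847.PolyOrd.alpha_eq_zero_of_natDegree_lt (d := g + 2) (by omega)
    rw [K847.PolyOrd.alpha_sub] at h1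
    linarith
  · rw [← K847.PolyOrd.alpha_sub]
    exact hn2

end K846.NodeGeo
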