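import Groth.Agent.ShStab.K846.GenHilb

/-!
# Generic `ℓ`-Harder-Narasimhan filtrations in families
-/

set_option autoImplicit false
universe u
open CategoryTheory CategoryTheory.Limits AlgebraicGeometry StabCat Polynomial

namespace K846.GenEll

open Groth.Agent K846.FieldPt K846.OpenMain K846.Localize K846.OpenFib K846.GenHilb

theorem nonempty_cokIso {C : Type*} [Category C] [Abelian C] {D : Type*} [Category D] [Abelian D] (Φ : C ⥤ D)
    [Φ.PreservesZeroMorphisms] [PreservesColimitsOfShape WalkingParallelPair Φ] {E : C} {a b : Subobject E}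
    (h : a ≤ b) [Mono (Φ.map a.arrow)] [Mono (Φ.map b.arrow)] {A B : Subobject (Φ.obj E)}
    (hA : FibSub.im Φ a = A) (hB : FibSub.im Φ b = B) (hAB : A ≤ B) :
    Nonempty (cokernel (Subobject.ofLE A B hAB) ≅ Φ.obj (cokernel (Subobject.ofLE a b h))) := by
  subst hA hB
  exact ⟨FibSub.cokIso Φ h⟩

/-- The image of a chain is an `ℓ`-Harder-Narasimhan filtration. -/
theorem isHN_imSeries {C : Type*} [Category C] [Abelian C] {k : Type u} [Field k] {Y : Scheme.{u}}
    [Y.Over (Spec (CommRingCat.of k))] {L : Y.Modules} (Φ : C ⥤ Y.Modules) [Φ.PreservesZeroMorphisms]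
    [PreservesColimitsOfShape WalkingParallelPair Φ] {E : C} (t : LTSeries (Subobject E)) {d ℓ : ℕ}
    (ht1 : t.head = ⊥) (ht2 : t.last = ⊤) (hm : ∀ i, Mono (Φ.map (t i).arrow))
    (h0 : ∀ i : Fin t.length, ¬ IsZero (Φ.obj (StabCat.factor t i)))
    (hss : ∀ i, ShStab.IsEllSemistable k Y L (Φ.obj (StabCat.factor t i)) d ℓ) (P : Fin t.length → ℚ[X])
    (hP : ∀ i, ShStab.IsHilbPoly k Y L (Φ.obj (StabCat.factor t i)) (P i))
    (hred : ∀ i j : Fin t.length, i.val + 1 = j.val → StabCat.RedLT d (topPart ℓ d (P j)) (topPart ℓ d (P i))) :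
    StabCat.IsHNWith (fun G => ShStab.IsEllSemistable k Y L G d ℓ)
      (fun G P => ∃ Q : ℚ[X], ShStab.IsHilbPoly k Y L G Q ∧ P = StabCat.topPart ℓ d Q) d (Φ.obj E)
      (FibSub.imSeries Φ t hm h0) := by
  have e : ∀ i : Fin t.length, StabCat.factor (FibSub.imSeries Φ t hm h0) i ≅ Φ.obj (StabCat.factor t i) :=
    fun i => FibSub.factorIso Φ t hm h0 i
  refine ⟨?_, ?_, ?_, ?_⟩
  · change FibSub.im _ t.head = ⊥
    rw [ht1]
    exact FibSub.im_bot _
  · change FibSub.im _ t.last = ⊤
    rw [ht2]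
    exact FibSub.im_top _
  · intro i
    exact isEllSemistable_iso (e i).symm (hss i)
  · rintro i j hij _ _ ⟨Q, hQ, rfl⟩ ⟨R, hR, rfl⟩
    have h1 := Twist.isHilbPoly_iso (Iso.refl _) (e i) hQ
    have h2 := Twist.isHilbPoly_iso (Iso.refl _) (e j) hR
    rw [Gies.unique h1 (hP i), Gies.unique h2 (hP j)]
    exact hred i j hij

section

variable {X S : Scheme.{u}} (f : X ⟶ S) [IsProper f] [IsIntegral S] [IsNoetherian S] {L F : X.Modules}

/-- The factors of a filtration with given factors on the generic fibre, with properties in a neighbourhood of the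
generic point. -/
theorem spread (hL : RelAmple.IsRelAmple f L) {G : X.Modules} (hG : Coh.IsCoh G) {d ℓ : ℕ} (hℓ : 1 ≤ ℓ)
    (U : S.Opens) (hU : genericPoint S ∈ U)
    (hfl : ∀ x : X, f.base x ∈ U → FlatMod.IsFlatOverAt f G x)
    (hss : @ShStab.IsEllSemistable (S.residueField (genericPoint S)) _ (f.fiber (genericPoint S))
      (fibOver f (genericPoint S)) (CohIII.fiberMod f L (genericPoint S))
      (CohIII.fiberMod f G (genericPoint S)) d ℓ) :
    ∃ (W : S.Opens) (P : ℚ[X]), genericPoint S ∈ W ∧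
      (∀ s ∈ U, @ShStab.IsHilbPoly (S.residueField s) _ (f.fiber s) (fibOver f s)
        (CohIII.fiberMod f L s) (CohIII.fiberMod f G s) P) ∧
      ∀ s ∈ W, @ShStab.IsEllSemistable (S.residueField s) _ (f.fiber s) (fibOver f s)
        (CohIII.fiberMod f L s) (CohIII.fiberMod f G s) d ℓ := by
  let := fibOver f (genericPoint S)
  have : IsProper (f.fiber (genericPoint S) ↘ Spec (CommRingCat.of (S.residueField (genericPoint S)))) :=
    isProper_fiber f (genericPoint S)
  have := Ascent.isNoetherian_of_proper (S.residueField (genericPoint S)) (f.fiber (genericPoint S))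
  have hLi := RelAmp.isInvertible hL
  have hLη := isAmple_fiber f (RelAmp.fAmple hL) (genericPoint S)
  have Hη := inst (Facts.hilbFacts (S.residueField (genericPoint S)) hLη)
  have hPη := Hη.spec _ hss.1
  have hdeg := ((K849.Inst.isEllSemistable_iff Hη ℓ d).1 hss).1.2
  have hpos := K849.InstHN.alpha_pos_of_ell Hη hss
  have hP : ∀ s ∈ U, @ShStab.IsHilbPoly (S.residueField s) _ (f.fiber s) (fibOver f s)
        (CohIII.fiberMod f L s) (CohIII.fiberMod f G s)
        (Gies.hp (S.residueField (genericPoint S)) (CohIII.fiberMod f L (genericPoint S))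
          (CohIII.fiberMod f G (genericPoint S))) := fun s hs =>
    hilb_const f hLi hG U hfl hU hs (genericPoint_specializes s) hPη
  exact ⟨⟨_, OpenPt.isOpen_ellSemistable f hL hG U hP hdeg hpos hℓ⟩, _, ⟨hU, hss⟩, hP, fun s hs => hs.2⟩

/-- **The relative `ℓ`-Harder-Narasimhan filtration over a nonempty open subset.** -/
theorem exists_generic_ellHN (hL : RelAmple.IsRelAmple f L) (hF : Coh.IsCoh F) {d ℓ : ℕ} (hℓ : 1 ≤ ℓ)
    (h0 : ¬ IsZero (CohIII.fiberMod f F (genericPoint S)))
    (hp : ShStab.IsPure (f.fiber (genericPoint S)) (CohIII.fiberMod f F (genericPoint S)) d) :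
    ∃ (U : S.Opens) (t : LTSeries (Subobject F)), (U : Set S).Nonempty ∧ t.head = ⊥ ∧ t.last = ⊤ ∧
      (∀ i, Coh.IsCoh (t i : X.Modules)) ∧
      (∀ (i : Fin t.length) (x : X), f.base x ∈ U → FlatMod.IsFlatOverAt f (StabCat.factor t i) x) ∧
      ∀ s ∈ U, ∃ ts : LTSeries (Subobject (CohIII.fiberMod f F s)), ts.length = t.length ∧
        (∀ (j : Fin (t.length + 1)) (j' : Fin (ts.length + 1)), j.val = j'.val →
            ts j' = imageSubobject ((Scheme.Modules.pullback (f.fiberι s)).map (t j).arrow)) ∧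
        letI := fibOver f s
        StabCat.IsHNWith
          (fun G => ShStab.IsEllSemistable (S.residueField s) (f.fiber s) (CohIII.fiberMod f L s) G d ℓ)
          (fun G P => ∃ Q : ℚ[X], ShStab.IsHilbPoly (S.residueField s) (f.fiber s)
            (CohIII.fiberMod f L s) G Q ∧ P = StabCat.topPart ℓ d Q) d (CohIII.fiberMod f F s) ts := by
  have : IsLocallyNoetherian X := LocallyOfFiniteType.isLocallyNoetherian f
  let := fibOver f (genericPoint S)
  have : IsProper (f.fiber (genericPoint S) ↘ Spec (CommRingCat.of (S.residueField (genericPoint S)))) :=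
    isProper_fiber f (genericPoint S)
  have := Ascent.isNoetherian_of_proper (S.residueField (genericPoint S)) (f.fiber (genericPoint S))
  have hLi := RelAmp.isInvertible hL
  have hLη := isAmple_fiber f (RelAmp.fAmple hL) (genericPoint S)
  have Hη := inst (Facts.hilbFacts (S.residueField (genericPoint S)) hLη)
  have hFη : Coh.IsCoh (CohIII.fiberMod f F (genericPoint S)) :=
    Groth.Agent.FormalA.PullbackQC.isCoh_pullback _ _ hF
  obtain ⟨s, ⟨hs1, hs2, hs3, hs4⟩, -⟩ := K849.InstHN.existsUnique_ellHN Hη hFη hp ℓ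
  have hc := isIso_counit_generic f
  have := flat_generic f
  -- coherence
  have hset := K849.Inst.setup Hη ℓ d
  have hEok := K849.Inst.ok_of_isPure Hη hFη hp
  have hterm := K849.Abs.ok_term hset hEok s hs1
    (fun i => ((K849.Inst.isEllSemistable_iff Hη ℓ d).1 (hs3 i)).1)
  have hqcoh : ∀ j, Coh.IsQCoh (cokernel (s j).arrow) := fun j =>
    (Groth.Agent.Sga67.CohBasic.isCoh_cokernel _ (hterm j).1.1 hFη).1
  let Φ := Scheme.Modules.pullback (f.fiberι (genericPoint S))
  obtain ⟨t, htl, ht⟩ : ∃ t : LTSeries (Subobject F), ∃ e : t.length = s.length,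
      t.head = ⊥ ∧ t.last = ⊤ ∧ (∀ j, Coh.IsCoh (t j : X.Modules)) ∧
      ∀ (j : Fin (t.length + 1)) (j' : Fin (s.length + 1)), j.val = j'.val → FibSub.im Φ (t j) = s j' := by
    refine ⟨GenFib.chain (f.fiberι (genericPoint S)) F hc s, rfl, ?_, ?_, ?_, ?_⟩
    · change GenFib.ext' _ F s.head = ⊥
      rw [hs1]
      exact GenFib.ext'_bot _ F
    · change GenFib.ext' _ F s.last = ⊤
      rw [hs2]
      exact GenFib.ext'_top _ F h0
    · intro j
      exact GenFib.isCoh_ext' _ F hF (hqcoh j)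
    · intro j j' hj
      obtain rfl : j = j' := Fin.ext hj
      exact GenFib.im_chain _ F hc s j
  obtain ⟨ht1, ht2, ht3, ht4⟩ := ht
  have hfc : ∀ i, Coh.IsCoh (StabCat.factor t i) := fun i =>
    Groth.Agent.Sga67.CohBasic.isCoh_cokernel _ (ht3 _).1 (ht3 _)
  have hcc : ∀ j, Coh.IsCoh (cokernel (t j).arrow) := fun j =>
    Groth.Agent.Sga67.CohBasic.isCoh_cokernel _ (ht3 _).1 hF
  obtain ⟨U₀, hU₀, hfl⟩ := exists_flat f (I := Fin t.length ⊕ Fin (t.length + 1))
    (Sum.elim (fun i => StabCat.factor t i) (fun j => cokernel (t j).arrow))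
    (by rintro (i | j); exacts [hfc i, hcc j])
  have hη₀ : genericPoint S ∈ U₀ := ((genericPoint_spec S).mem_open_set_iff U₀.isOpen).mpr (by simpa using hU₀)
  have hm : ∀ s' ∈ U₀, ∀ j, Mono ((Scheme.Modules.pullback (f.fiberι s')).map (t j).arrow) := fun s' hs' j =>
    mono_fiber f (t j) U₀ (hfl (Sum.inr j)) s' hs'
  have e : ∀ (i : Fin t.length) (i' : Fin s.length), i.val = i'.val →
      Nonempty (StabCat.factor s i' ≅ CohIII.fiberMod f (StabCat.factor t i) (genericPoint S)) := by
    intro i i' hi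
    have h1 := hm _ hη₀ i.castSucc
    have h2 := hm _ hη₀ i.succ
    exact nonempty_cokIso Φ (le_of_lt (t.step i)) (ht4 i.castSucc i'.castSucc (by simpa using hi))
      (ht4 i.succ i'.succ (by simpa using hi)) (le_of_lt (s.step i'))
  have hsst : ∀ i, ShStab.IsEllSemistable (S.residueField (genericPoint S)) (f.fiber (genericPoint S))
      (CohIII.fiberMod f L (genericPoint S)) (CohIII.fiberMod f (StabCat.factor t i) (genericPoint S)) d ℓ :=
    fun i => isEllSemistable_iso (e i (i.cast htl) rfl).some (hs3 _)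
  choose W P hW hP hWss using fun i => spread f hL (hfc i) hℓ U₀ hη₀ (hfl (Sum.inl i)) (hsst i)
  have hPη : ∀ (i : Fin t.length) (i' : Fin s.length), i.val = i'.val →
      Gies.hp (S.residueField (genericPoint S)) (CohIII.fiberMod f L (genericPoint S)) (StabCat.factor s i') = P i := by
    intro i i' hi
    exact Gies.hp_eq (Twist.isHilbPoly_iso (Iso.refl _) (e i i' hi).some.symm (hP i _ hη₀))
  have hred : ∀ i j : Fin t.length, i.val + 1 = j.val →
      StabCat.RedLT d (topPart ℓ d (P j)) (topPart ℓ d (P i)) := by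
    intro i j hij
    have := hs4 (i.cast htl) (j.cast htl) hij
    rw [hPη i (i.cast htl) rfl, hPη j (j.cast htl) rfl] at this
    exact this
  refine ⟨U₀ ⊓ ⨅ i, W i, t, ⟨genericPoint S, hη₀, ?_⟩, ht1, ht2, ht3,
    fun i x hx => hfl (Sum.inl i) x hx.1, fun s' hs' => ?_⟩
  · rw [TopologicalSpace.Opens.coe_iInf, Set.mem_iInter]
    exact hW
  have hWs : ∀ i, s' ∈ W i := fun i => (iInf_le W i : (⨅ i, W i) ≤ W i) hs'.2
  let := fibOver f s'
  exact ⟨_, rfl, fun j j' hj => by obtain rfl : j = j' := Fin.ext hj; rfl,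
    isHN_imSeries (Scheme.Modules.pullback (f.fiberι s')) t ht1 ht2 (hm s' hs'.1)
      (fun i => (hWss i s' (hWs i)).2.1) (fun i => hWss i s' (hWs i)) P (fun i => hP i s' hs'.1) hred⟩

end

end K846.GenEll
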