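import Groth.Agent.Ega3A.PChart
import Groth.Agent.Mor.K385.VeryAmpleBC

/-!
# `O(1)` of a closed subscheme of `P^N_k` is relatively very ample, also after base change
-/

set_option autoImplicit false
universe u
open CategoryTheory CategoryTheory.Limits AlgebraicGeometry

namespace K846.VAField

open Groth.Agent

theorem isRelVeryAmplePn (k : Type u) [CommRing k] (X : Scheme.{u}) (q : X ⟶ Spec (CommRingCat.of k)) (N : ℕ)
    (ι : X ⟶ CohB1.ProjSpace N k) [IsClosedImmersion ι] (hι : ι ≫ CohB1.ProjSpace.toSpec N k = q) :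
    RelAmple.IsRelVeryAmplePn q ((Scheme.Modules.pullback ι).obj (Twist.twistProjSpace N k 1)) := by
  have h1 : (ι ≫ (CohqB.ProjBC.projSpaceOverIso N k).inv) ≫ CohqB.ProjBC.fstZ N (Spec (CommRingCat.of k)) =
      ι ≫ CohqB.ProjBC.pmap (Ega3A.PChart.zmap k) N := by
    rw [Category.assoc, Ega3A.PChart.projSpaceOverIso_inv_fstZ]
  refine ⟨N, ι ≫ (CohqB.ProjBC.projSpaceOverIso N k).inv, inferInstance, ?_, ⟨?_⟩⟩
  · change (ι ≫ (CohqB.ProjBC.projSpaceOverIso N k).inv) ≫
      CohB1.ProjSpaceOver.toBase N (Spec (CommRingCat.of k)) = q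
    rw [Category.assoc, CohqB.ProjBC.projSpaceOverIso_inv_toBase]
    exact hι
  · exact (Scheme.Modules.pullback ι).mapIso (Ega3A.PChart.pullTwistIso (Ega3A.PChart.zmap k) N 1).symm ≪≫
      (Scheme.Modules.pullbackComp ι _).app _ ≪≫ (Scheme.Modules.pullbackCongr h1).symm.app _ ≪≫
      ((Scheme.Modules.pullbackComp (ι ≫ (CohqB.ProjBC.projSpaceOverIso N k).inv)
        (CohqB.ProjBC.fstZ N (Spec (CommRingCat.of k)))).app _).symm

theorem isRelVeryAmplePn_bc (k : Type u) [CommRing k] (X : Scheme.{u}) (p : X ⟶ Spec (CommRingCat.of k)) (N : ℕ)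
    (ι : X ⟶ CohB1.ProjSpace N k) [IsClosedImmersion ι] (hι : ι ≫ CohB1.ProjSpace.toSpec N k = p)
    {S : Scheme.{u}} (q : S ⟶ Spec (CommRingCat.of k)) :
    RelAmple.IsRelVeryAmplePn (pullback.snd p q) ((Scheme.Modules.pullback (pullback.fst p q)).obj
      ((Scheme.Modules.pullback ι).obj (Twist.twistProjSpace N k 1))) :=
  K385.VeryAmpleBC.of_isPullback (IsPullback.of_hasPullback p q) (isRelVeryAmplePn k X p N ι hι)

end K846.VAField
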