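import Groth.Agent.Cohder.SubobjLattice
import Mathlib.CategoryTheory.Abelian.CommSq
import Mathlib.CategoryTheory.Abelian.Exact
import Mathlib.Algebra.Homology.ShortComplex.ShortExact

/-!
# Tested subobjects of an object of an abelian category, and an additive invariant

`Add ok v`: `ok` is a class of objects closed under kernels, cokernels and extensions, and `v` is an
invariant with values in an additive group, additive on short exact sequences of `ok` objects.
-/

set_option autoImplicit false

universe v u w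

open CategoryTheory CategoryTheory.Limits

namespace K846.Lat

variable {C : Type u} [Category.{v} C] [Abelian C] {G : Type w} [AddCommGroup G]

/-- Closure properties of the tested objects, and additivity of the invariant. -/
structure Add (ok : C → Prop) (v : C → G) : Prop where
  ok_iso : ∀ {M N : C}, (M ≅ N) → ok M → ok N
  ok_zero : ∀ {M : C}, IsZero M → ok M
  ok_kernel : ∀ {M N : C} (f : M ⟶ N), ok M → ok N → ok (kernel f)
  ok_cokernel : ∀ {M N : C} (f : M ⟶ N), ok M → ok N → ok (cokernel f)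
  ok_ext : ∀ (S : ShortComplex C), S.ShortExact → ok S.X₁ → ok S.X₃ → ok S.X₂
  add : ∀ (S : ShortComplex C), S.ShortExact → ok S.X₁ → ok S.X₂ → ok S.X₃ →
    v S.X₂ = v S.X₁ + v S.X₃

theorem shortExact_cokernel {M N : C} (f : M ⟶ N) [Mono f] :
    (ShortComplex.mk f (cokernel.π f) (cokernel.condition f)).ShortExact where
  exact := ShortComplex.exact_of_g_is_cokernel _ (cokernelIsCokernel f)

theorem shortExact_kernel {M N : C} (f : M ⟶ N) [Epi f] :
    (ShortComplex.mk (kernel.ι f) f (kernel.condition f)).ShortExact where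
  exact := ShortComplex.exact_of_f_is_kernel _ (kernelIsKernel f)

namespace Add

variable {ok : C → Prop} {v : C → G} (h : Add ok v)

include h

theorem v_zero {M : C} (hM : IsZero M) : v M = 0 := by
  have hm : Mono (0 : M ⟶ M) := ⟨fun a b _ => hM.eq_of_tgt _ _⟩
  have he : Epi (0 : M ⟶ M) := ⟨fun a b _ => hM.eq_of_src _ _⟩
  have hS : (ShortComplex.mk (0 : M ⟶ M) (0 : M ⟶ M) (by simp)).ShortExact :=
    { exact := ShortComplex.exact_of_isZero_X₂ _ hM
      mono_f := hm
      epi_g := he }
  have e := h.add _ hS (h.ok_zero hM) (h.ok_zero hM) (h.ok_zero hM)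
  simpa using e

theorem v_iso {M N : C} (e : M ≅ N) (hM : ok M) : v M = v N := by
  have hS := shortExact_cokernel e.hom
  have hc : IsZero (cokernel e.hom) := isZero_cokernel_of_epi _
  have := h.add _ hS hM (h.ok_iso e hM) (h.ok_zero hc)
  change v N = v M + v (cokernel e.hom) at this
  rw [this, h.v_zero hc, add_zero]

theorem v_cokernel {M N : C} (f : M ⟶ N) [Mono f] (hM : ok M) (hN : ok N) :
    v (cokernel f) = v N - v M := by
  have := h.add _ (shortExact_cokernel f) hM hN (h.ok_cokernel f hM hN)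
  change v N = v M + v (cokernel f) at this
  rw [this]; abel

theorem v_kernel {M N : C} (f : M ⟶ N) [Epi f] (hM : ok M) (hN : ok N) :
    v (kernel f) = v M - v N := by
  have := h.add _ (shortExact_kernel f) (h.ok_kernel f hM hN) hM hN
  change v M = v (kernel f) + v N at this
  rw [this]; abel

theorem ok_image {M N : C} (f : M ⟶ N) (hM : ok M) (hN : ok N) : ok (Abelian.image f) :=
  h.ok_kernel _ hN (h.ok_cokernel f hM hN)

theorem ok_mid {M N : C} (f : M ⟶ N) [Mono f] (hM : ok M) (hc : ok (cokernel f)) : ok N :=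
  h.ok_ext _ (shortExact_cokernel f) hM hc

variable {E : C}

theorem ok_inf (hE : ok E) (P Q : Subobject E) (hP : ok (P : C)) (hQ : ok (Q : C)) :
    ok ((P ⊓ Q : Subobject E) : C) := by
  -- `P ⊓ Q ⟶ P` is the kernel of `P ⟶ E ⟶ E / Q`
  have hc := h.ok_cokernel Q.arrow hQ hE
  have hk := h.ok_kernel (P.arrow ≫ cokernel.π Q.arrow) hP hc
  refine h.ok_iso ?_ hk
  have e : Subobject.mk (kernel.ι (P.arrow ≫ cokernel.π Q.arrow) ≫ P.arrow) = P ⊓ Q := by
    apply le_antisymm
    · refine le_inf ?_ ?_
      · exact Subobject.le_of_comm ((Subobject.underlyingIso _).hom ≫ kernel.ι _) (by simp)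
      · have hf : Q.Factors (kernel.ι (P.arrow ≫ cokernel.π Q.arrow) ≫ P.arrow) := by
          have hw : (kernel.ι (P.arrow ≫ cokernel.π Q.arrow) ≫ P.arrow) ≫ cokernel.π Q.arrow = 0 := by
            rw [Category.assoc]; exact kernel.condition _
          have := Abelian.monoLift_comp Q.arrow _ hw
          rw [← this]
          exact Subobject.factors_comp_arrow _
        exact Subobject.le_of_comm ((Subobject.underlyingIso _).hom ≫ Q.factorThru _ hf) (by simp)
    · refine Subobject.le_of_comm (kernel.lift _ (Subobject.ofLE _ _ inf_le_left) ?_ ≫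
        (Subobject.underlyingIso _).inv) ?_
      · rw [← Category.assoc, Subobject.ofLE_arrow,
          ← Subobject.ofLE_arrow (inf_le_right : P ⊓ Q ≤ Q), Category.assoc, cokernel.condition,
          comp_zero]
      · simp
  exact (Subobject.underlyingIso _).symm ≪≫ eqToIso (by rw [e])

/-- The second isomorphism theorem for the invariant: tested subobjects are stable under suprema. -/
theorem ok_sup (hE : ok E) (P Q : Subobject E) (hP : ok (P : C)) (hQ : ok (Q : C)) :
    ok ((P ⊔ Q : Subobject E) : C) := by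
  have hi := h.ok_inf hE P Q hP hQ
  obtain ⟨e⟩ := Groth.Agent.Cohder.SubobjLattice.secondIso P Q inf_le_right le_sup_left
  exact h.ok_mid (Subobject.ofLE P (P ⊔ Q) le_sup_left) hP
    (h.ok_iso e (h.ok_cokernel _ hi hQ))

theorem v_sup_add_inf (hE : ok E) (P Q : Subobject E) (hP : ok (P : C)) (hQ : ok (Q : C)) :
    v ((P ⊔ Q : Subobject E) : C) + v ((P ⊓ Q : Subobject E) : C) = v (P : C) + v (Q : C) := by
  have hi := h.ok_inf hE P Q hP hQ
  have hs := h.ok_sup hE P Q hP hQ
  obtain ⟨e⟩ := Groth.Agent.Cohder.SubobjLattice.secondIso P Q inf_le_right le_sup_left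
  have h1 := h.v_iso e (h.ok_cokernel _ hi hQ)
  rw [h.v_cokernel _ hi hQ, h.v_cokernel _ hP hs] at h1
  rw [sub_eq_sub_iff_add_eq_add] at h1
  rw [add_comm, ← add_comm (v (Q : C)), h1, add_comm]

theorem ok_factor {P Q : Subobject E} (hPQ : P ≤ Q) (hP : ok (P : C)) (hQ : ok (Q : C)) :
    ok (cokernel (Subobject.ofLE P Q hPQ)) := h.ok_cokernel _ hP hQ

theorem v_factor {P Q : Subobject E} (hPQ : P ≤ Q) (hP : ok (P : C)) (hQ : ok (Q : C)) :
    v (cokernel (Subobject.ofLE P Q hPQ)) = v (Q : C) - v (P : C) := h.v_cokernel _ hP hQ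

/-- A tested subobject of `Q / P` comes from a tested subobject between `P` and `Q`. -/
theorem exists_between {P Q : Subobject E} (hPQ : P ≤ Q) (hP : ok (P : C)) (hQ : ok (Q : C))
    {T : C} (κ : T ⟶ cokernel (Subobject.ofLE P Q hPQ)) [Mono κ] (hT : ok T) :
    ∃ H : Subobject E, P ≤ H ∧ H ≤ Q ∧ ok (H : C) ∧ v T = v (H : C) - v (P : C) := by
  have hc := h.ok_factor hPQ hP hQ
  have hcκ := h.ok_cokernel κ hT hc
  let π := cokernel.π (Subobject.ofLE P Q hPQ) ≫ cokernel.π κ
  have hπ : Epi π := epi_comp _ _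
  have hk := h.ok_kernel π hQ hcκ
  refine ⟨Subobject.mk (kernel.ι π ≫ Q.arrow), ?_, ?_, h.ok_iso (Subobject.underlyingIso _).symm hk, ?_⟩
  · refine Subobject.le_of_comm (kernel.lift π (Subobject.ofLE P Q hPQ) (by simp [π]) ≫
      (Subobject.underlyingIso _).inv) ?_
    simp
  · exact Subobject.le_of_comm ((Subobject.underlyingIso _).hom ≫ kernel.ι _) (by simp)
  · rw [← h.v_iso (Subobject.underlyingIso _).symm hk, h.v_kernel π hQ hcκ,
      h.v_cokernel κ hT hc, h.v_factor hPQ hP hQ]
    abel

end Add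

variable {E : C}

/-- The inclusion of `H / P` in `Q / P`. -/
noncomputable def quotIncl {P H Q : Subobject E} (h₁ : P ≤ H) (h₂ : H ≤ Q) :
    cokernel (Subobject.ofLE P H h₁) ⟶ cokernel (Subobject.ofLE P Q (h₁.trans h₂)) :=
  cokernel.map _ _ (𝟙 _) (Subobject.ofLE H Q h₂) (by simp)

instance mono_quotIncl {P H Q : Subobject E} (h₁ : P ≤ H) (h₂ : H ≤ Q) :
    Mono (quotIncl h₁ h₂) := by
  have sq : IsPullback (Subobject.ofLE P H h₁) (𝟙 _) (Subobject.ofLE H Q h₂)
      (Subobject.ofLE P Q (h₁.trans h₂)) := by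
    refine ⟨⟨by simp⟩, ⟨PullbackCone.IsLimit.mk _ (fun s => s.snd) (fun s => ?_) (fun s => ?_)
      (fun s m _ h2 => ?_)⟩⟩
    · rw [← cancel_mono (Subobject.ofLE H Q h₂), Category.assoc, Subobject.ofLE_comp_ofLE]
      exact s.condition.symm
    · exact Category.comp_id _
    · simpa using h2
  exact Abelian.mono_cokernel_map_of_isPullback sq

end K846.Lat
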