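import Groth.Agent.ShStab.K849.Inst
import Groth.Agent.ShStab.K847.PolyOrd
import Mathlib.Order.ModularLattice

/-!
# The lattice of coherent submodules of a coherent module and Hilbert polynomials (namespace `K846.CSub`)

`CSub E` is the type of coherent subobjects of `E`; for `[IsNoetherian X] [Fact (Coh.IsCoh E)]` it is a bounded
modular lattice with the ascending chain condition.  With `h : K849.Inst.HilbFacts k X L hp`:

* `hp_sup_inf`: `hp (A ⊔ B) + hp (A ⊓ B) = hp A + hp B`;
* `hp_mono`, `hp_coker`, `hp_top`, `hp_bot`, `natDegree_le`, `eq_of_hp_eq`;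
* `alpha_int`: `alpha j (hp B - hp A)` is an integer for `A ≤ B`, `natDegree (hp B - hp A) ≤ j`;
* `alpha_mono`, `alpha_mono_of`: monotonicity of the top coefficients;
* `exists_mid`, `exists_mid_iso`, `exists_above`: coherent submodules of `B / A`.
-/

set_option autoImplicit false

universe u w

open CategoryTheory CategoryTheory.Limits AlgebraicGeometry Polynomial

namespace K846.CSub

open StabCat

/-- Coherent subobjects. -/
abbrev CSub {X : Scheme.{u}} (E : X.Modules) : Type (u + 1) := {A : Subobject E // Coh.IsCoh (A : X.Modules)}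

section lattice

variable {X : Scheme.{u}} [IsNoetherian X] (E : X.Modules)

/-- The closure properties of coherent modules, with the zero invariant. -/
theorem add0 : Lat.Add (fun M : X.Modules => Coh.IsCoh M) (fun _ => (0 : ℤ)) :=
  CohAdd.add_of _ fun _ _ _ _ _ => by simp

theorem coh_top (hE : Coh.IsCoh E) : Coh.IsCoh ((⊤ : Subobject E) : X.Modules) :=
  Groth.Agent.Sga67.CohBasic.isCoh_of_iso (asIso (⊤ : Subobject E).arrow).symm hE

theorem coh_bot : Coh.IsCoh ((⊥ : Subobject E) : X.Modules) :=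
  Groth.Agent.Sga67.CohBasic.isCoh_of_isZero (IsZero.of_iso (isZero_zero _) Subobject.botCoeIsoZero)

variable [hE : Fact (Coh.IsCoh E)]

noncomputable instance instLattice : Lattice (CSub E) :=
  Subtype.lattice (fun A B hA hB => add0.ok_sup hE.out A B hA hB) (fun A B hA hB => add0.ok_inf hE.out A B hA hB)

noncomputable instance instBoundedOrder : BoundedOrder (CSub E) where
  top := ⟨⊤, coh_top E hE.out⟩
  le_top A := le_top (a := A.1)
  bot := ⟨⊥, coh_bot E⟩
  bot_le A := bot_le (a := A.1)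

variable {E}

@[simp] theorem coe_sup (A B : CSub E) : ((A ⊔ B : CSub E) : Subobject E) = (A : Subobject E) ⊔ B := rfl

@[simp] theorem coe_inf (A B : CSub E) : ((A ⊓ B : CSub E) : Subobject E) = (A : Subobject E) ⊓ B := rfl

@[simp] theorem coe_top : ((⊤ : CSub E) : Subobject E) = ⊤ := rfl

@[simp] theorem coe_bot : ((⊥ : CSub E) : Subobject E) = ⊥ := rfl

instance instModular : IsModularLattice (CSub E) where
  sup_inf_le_assoc_of_le {x} y {z} hxz :=
    IsModularLattice.sup_inf_le_assoc_of_le (α := Subobject E) y.1 (x := x.1) (z := z.1) hxz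

instance instWF : WellFoundedGT (CSub E) := Acc.wellFoundedGT E hE.out

end lattice

section poly

/-- The degree drops if the top coefficient vanishes. -/
theorem natDegree_le_of_alpha {P : ℚ[X]} {d : ℕ} (hd : P.natDegree ≤ d + 1) (h : alpha (d + 1) P = 0) :
    P.natDegree ≤ d := by
  have h1 : P.coeff (d + 1) = 0 := by
    unfold alpha at h
    exact (mul_eq_zero.mp h).resolve_left (by positivity)
  rcases hd.lt_or_eq with h2 | h2
  · omega
  · by_contra hcon
    have h3 : P ≠ 0 := fun h0 => by rw [h0] at hcon; simp at hcon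
    exact h3 (leadingCoeff_eq_zero.mp (by rw [leadingCoeff, h2, h1]))

end poly

section hilb

variable {k : Type u} [Field k] {X : Scheme.{u}} [X.Over (Spec (CommRingCat.of k))]
  {L : X.Modules} {hp : X.Modules → ℚ[X]} [IsNoetherian X] (h : K849.Inst.HilbFacts k X L hp)

include h

/-- Additivity of the Hilbert polynomial. -/
theorem addH : Lat.Add (fun M : X.Modules => Coh.IsCoh M) hp := CohAdd.add_of _ h.add

theorem hp_iso {M N : X.Modules} (e : M ≅ N) (hM : Coh.IsCoh M) : hp M = hp N := (addH h).v_iso e hM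

variable {E : X.Modules} [hE : Fact (Coh.IsCoh E)]

theorem hp_sup_inf (A B : CSub E) :
    hp ((A ⊔ B : CSub E) : Subobject E) + hp ((A ⊓ B : CSub E) : Subobject E) =
      hp (A : Subobject E) + hp (B : Subobject E) :=
  (addH h).v_sup_add_inf hE.out A.1 B.1 A.2 B.2

theorem hp_top : hp ((⊤ : CSub E) : Subobject E) = hp E :=
  hp_iso h (asIso (⊤ : Subobject E).arrow) (coh_top E hE.out)

theorem hp_bot : hp ((⊥ : CSub E) : Subobject E) = 0 :=
  (addH h).v_zero (IsZero.of_iso (isZero_zero _) Subobject.botCoeIsoZero)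

omit hE

theorem hp_coker {A B : CSub E} (hAB : A ≤ B) :
    hp (cokernel (Subobject.ofLE A.1 B.1 hAB)) = hp (B : Subobject E) - hp (A : Subobject E) :=
  (addH h).v_factor hAB A.2 B.2

theorem coh_coker {A B : CSub E} (hAB : A ≤ B) : Coh.IsCoh (cokernel (Subobject.ofLE A.1 B.1 hAB)) :=
  (addH h).ok_factor hAB A.2 B.2

theorem hp_coker_arrow [hE : Fact (Coh.IsCoh E)] (A : CSub E) :
    hp (cokernel (A : Subobject E).arrow) = hp E - hp (A : Subobject E) :=
  (addH h).v_cokernel _ A.2 hE.out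

theorem polyLE_sub {A B : CSub E} (hAB : A ≤ B) : PolyLE 0 (hp (B : Subobject E) - hp (A : Subobject E)) := by
  rw [← hp_coker h hAB]
  exact K849.Inst.hp_nonneg h (coh_coker h hAB)

theorem hp_mono {A B : CSub E} (hAB : A ≤ B) : PolyLE (hp (A : Subobject E)) (hp (B : Subobject E)) :=
  K849.PolyOrd.polyLE_iff_sub.mpr (polyLE_sub h hAB)

/-- Coherent submodules with the same Hilbert polynomial. -/
theorem eq_of_hp_eq {A B : CSub E} (hAB : A ≤ B) (he : hp (A : Subobject E) = hp (B : Subobject E)) : A = B := by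
  have h0 : IsZero (cokernel (Subobject.ofLE A.1 B.1 hAB)) := by
    by_contra hcon
    have h1 := h.pos _ (coh_coker h hAB) hcon
    rw [hp_coker h hAB, he, sub_self, leadingCoeff_zero] at h1
    exact lt_irrefl _ h1
  have hepi : Epi (Subobject.ofLE A.1 B.1 hAB) := Preadditive.epi_of_isZero_cokernel _ h0
  have hiso := isIso_of_mono_of_epi (Subobject.ofLE A.1 B.1 hAB)
  refine le_antisymm hAB (Subobject.le_of_comm (inv (Subobject.ofLE A.1 B.1 hAB)) ?_)
  rw [IsIso.inv_comp_eq, Subobject.ofLE_arrow]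

theorem natDegree_mono {A B : CSub E} (hAB : A ≤ B) :
    (hp (A : Subobject E)).natDegree ≤ (hp (B : Subobject E)).natDegree :=
  K849.Inst.natDegree_le_of_mono h (Subobject.ofLE A.1 B.1 hAB) A.2 B.2

theorem natDegree_le [hE : Fact (Coh.IsCoh E)] (A : CSub E) : (hp (A : Subobject E)).natDegree ≤ (hp E).natDegree :=
  K849.Inst.natDegree_le_of_mono h (A : Subobject E).arrow A.2 hE.out

theorem natDegree_sub_le [hE : Fact (Coh.IsCoh E)] {d : ℕ} (hd : (hp E).natDegree ≤ d) (A B : CSub E) :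
    (hp (B : Subobject E) - hp (A : Subobject E)).natDegree ≤ d :=
  (natDegree_sub_le_of_le ((natDegree_le h B).trans hd) ((natDegree_le h A).trans hd)).trans (by simp)

/-- **Integrality.** -/
theorem alpha_int {A B : CSub E} (hAB : A ≤ B) {j : ℕ}
    (hj : (hp (B : Subobject E) - hp (A : Subobject E)).natDegree ≤ j) :
    ∃ z : ℤ, alpha j (hp (B : Subobject E) - hp (A : Subobject E)) = z := by
  rw [← hp_coker h hAB] at hj ⊢
  exact h.int (coh_coker h hAB) hj

theorem alpha_int_self [hE : Fact (Coh.IsCoh E)] (A : CSub E) {j : ℕ} (hj : (hp (A : Subobject E)).natDegree ≤ j) :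
    ∃ z : ℤ, alpha j (hp (A : Subobject E)) = z := h.int A.2 hj

theorem alpha_nonneg (A : CSub E) {j : ℕ} (hj : (hp (A : Subobject E)).natDegree ≤ j) :
    0 ≤ alpha j (hp (A : Subobject E)) :=
  K849.Inst.alpha_nonneg h (F := (A : Subobject E)) ⟨A.2, hj⟩

/-- **Monotonicity of the coefficients.** -/
theorem alpha_mono_of {A B : CSub E} (hAB : A ≤ B) {j : ℕ}
    (hj : (hp (B : Subobject E) - hp (A : Subobject E)).natDegree ≤ j) :
    alpha j (hp (A : Subobject E)) ≤ alpha j (hp (B : Subobject E)) := by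
  rw [← hp_coker h hAB] at hj
  have h1 := K849.Inst.alpha_nonneg h ⟨coh_coker h hAB, hj⟩
  rw [hp_coker h hAB, K847.PolyOrd.alpha_sub] at h1
  linarith

theorem alpha_mono [hE : Fact (Coh.IsCoh E)] {d : ℕ} (hd : (hp E).natDegree ≤ d) {A B : CSub E} (hAB : A ≤ B) :
    alpha d (hp (A : Subobject E)) ≤ alpha d (hp (B : Subobject E)) :=
  alpha_mono_of h hAB (natDegree_sub_le h hd A B)

omit h [Field k] [X.Over (Spec (CommRingCat.of k))] [AlgebraicGeometry.IsNoetherian X] in
theorem natDegree_sub_le_of_alpha {A B : CSub E} {d : ℕ}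
    (hd : (hp (B : Subobject E) - hp (A : Subobject E)).natDegree ≤ d + 1)
    (he : alpha (d + 1) (hp (A : Subobject E)) = alpha (d + 1) (hp (B : Subobject E))) :
    (hp (B : Subobject E) - hp (A : Subobject E)).natDegree ≤ d :=
  natDegree_le_of_alpha hd (by rw [K847.PolyOrd.alpha_sub, he, sub_self])

theorem alpha_mono_one [hE : Fact (Coh.IsCoh E)] {d : ℕ} (hd : (hp E).natDegree ≤ d + 1) {A B : CSub E} (hAB : A ≤ B)
    (he : alpha (d + 1) (hp (A : Subobject E)) = alpha (d + 1) (hp (B : Subobject E))) :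
    alpha d (hp (A : Subobject E)) ≤ alpha d (hp (B : Subobject E)) :=
  alpha_mono_of h hAB (natDegree_sub_le_of_alpha (natDegree_sub_le h hd A B) he)

theorem alpha_mono_two [hE : Fact (Coh.IsCoh E)] {d : ℕ} (hd : (hp E).natDegree ≤ d + 2) {A B : CSub E} (hAB : A ≤ B)
    (he : alpha (d + 2) (hp (A : Subobject E)) = alpha (d + 2) (hp (B : Subobject E)))
    (he' : alpha (d + 1) (hp (A : Subobject E)) = alpha (d + 1) (hp (B : Subobject E))) :
    alpha d (hp (A : Subobject E)) ≤ alpha d (hp (B : Subobject E)) :=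
  alpha_mono_of h hAB (natDegree_sub_le_of_alpha (natDegree_sub_le_of_alpha (natDegree_sub_le h hd A B) he) he')

theorem alpha_sup_inf [hE : Fact (Coh.IsCoh E)] (d : ℕ) (A B : CSub E) :
    alpha d (hp ((A ⊔ B : CSub E) : Subobject E)) + alpha d (hp ((A ⊓ B : CSub E) : Subobject E)) =
      alpha d (hp (A : Subobject E)) + alpha d (hp (B : Subobject E)) := by
  rw [← K847.PolyOrd.alpha_add, hp_sup_inf h, K847.PolyOrd.alpha_add]

/-- `alpha d` of the difference, as an integer, if the higher coefficients agree. -/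
theorem alpha_sub_int {A B : CSub E} (hAB : A ≤ B) {d : ℕ}
    (hj : (hp (B : Subobject E) - hp (A : Subobject E)).natDegree ≤ d) :
    ∃ z : ℤ, alpha d (hp (B : Subobject E)) - alpha d (hp (A : Subobject E)) = z := by
  rw [← K847.PolyOrd.alpha_sub]
  exact alpha_int h hAB hj

/-- **Coherent submodules of `B / A`**, with the comparison isomorphism. -/
theorem exists_mid_iso {A B : CSub E} (hAB : A ≤ B) {T : X.Modules}
    (κ : T ⟶ cokernel (Subobject.ofLE A.1 B.1 hAB)) [Mono κ] (hT : Coh.IsCoh T) :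
    ∃ (H : CSub E) (h₁ : A ≤ H) (h₂ : H ≤ B) (e : T ≅ cokernel (Subobject.ofLE A.1 H.1 h₁)),
      e.hom ≫ Lat.quotIncl (show A.1 ≤ H.1 from h₁) (show H.1 ≤ B.1 from h₂) = κ := by
  let π := cokernel.π (Subobject.ofLE A.1 B.1 hAB)
  -- the preimage of `T`
  let P := pullback π κ
  have hm : Mono (pullback.fst π κ) := inferInstance
  have hepi : Epi (pullback.snd π κ) := inferInstance
  have hco : Coh.IsCoh (pullback π κ) := by
    have hAdd := add0 (X := X)
    have hcκ := hAdd.ok_cokernel κ hT (coh_coker h hAB)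
    have hk := hAdd.ok_kernel (π ≫ cokernel.π κ) B.2 hcκ
    refine hAdd.ok_iso ?_ hk
    refine ⟨pullback.lift (kernel.ι _) (Abelian.monoLift κ (kernel.ι (π ≫ cokernel.π κ) ≫ π) (by
        rw [Category.assoc]; exact kernel.condition _)) (by simp),
      kernel.lift _ (pullback.fst π κ) (by rw [← Category.assoc, pullback.condition, Category.assoc,
        cokernel.condition, Limits.comp_zero]), ?_, ?_⟩
    · rw [← cancel_mono (kernel.ι _), Category.assoc, kernel.lift_ι, pullback.lift_fst, Category.id_comp]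
    · rw [← cancel_mono (pullback.fst π κ), Category.assoc, pullback.lift_fst, kernel.lift_ι, Category.id_comp]
  let H : CSub E := ⟨Subobject.mk (pullback.fst π κ ≫ B.1.arrow),
    Groth.Agent.Sga67.CohBasic.isCoh_of_iso (Subobject.underlyingIso _).symm hco⟩
  let u : (H.1 : X.Modules) ≅ pullback π κ := Subobject.underlyingIso (pullback.fst π κ ≫ B.1.arrow)
  have hu : u.hom ≫ pullback.fst π κ ≫ B.1.arrow = H.1.arrow := Subobject.underlyingIso_hom_comp_eq_mk _
  have h₂ : H ≤ B := Subobject.le_of_comm (u.hom ≫ pullback.fst π κ) (by rw [Category.assoc]; exact hu)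
  let a : (A.1 : X.Modules) ⟶ pullback π κ := pullback.lift (Subobject.ofLE A.1 B.1 hAB) 0 (by simp [π])
  have ha1 : a ≫ pullback.fst π κ = Subobject.ofLE A.1 B.1 hAB := pullback.lift_fst _ _ _
  have ha2 : a ≫ pullback.snd π κ = 0 := pullback.lift_snd _ _ _
  have h₁ : A ≤ H := Subobject.le_of_comm (a ≫ u.inv) (by
    rw [← hu, Category.assoc, Iso.inv_hom_id_assoc, ← Category.assoc, ha1, Subobject.ofLE_arrow])
  have hAH : Subobject.ofLE A.1 H.1 h₁ = a ≫ u.inv := by
    rw [← cancel_mono H.1.arrow, Subobject.ofLE_arrow, ← hu, Category.assoc, Iso.inv_hom_id_assoc, ← Category.assoc,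
      ha1, Subobject.ofLE_arrow]
  have hHB : Subobject.ofLE H.1 B.1 h₂ = u.hom ≫ pullback.fst π κ := by
    rw [← cancel_mono B.1.arrow, Subobject.ofLE_arrow, Category.assoc, hu]
  -- the map `H / A ⟶ T`
  let g : cokernel (Subobject.ofLE A.1 H.1 h₁) ⟶ T := cokernel.desc _ (u.hom ≫ pullback.snd π κ) (by
    rw [hAH, Category.assoc, Iso.inv_hom_id_assoc, ha2])
  have hg : g ≫ κ = Lat.quotIncl (show A.1 ≤ H.1 from h₁) (show H.1 ≤ B.1 from h₂) := by
    rw [← cancel_epi (cokernel.π (Subobject.ofLE A.1 H.1 h₁))]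
    unfold Lat.quotIncl
    rw [cokernel.π_desc_assoc, cokernel.π_desc, hHB, Category.assoc, Category.assoc, ← pullback.condition]
  have hgm : Mono g := by
    have : Mono (g ≫ κ) := by rw [hg]; infer_instance
    exact mono_of_mono g κ
  have hge : Epi g := by
    have h1 : Epi (u.hom ≫ pullback.snd π κ) := epi_comp _ _
    have h2 : cokernel.π (Subobject.ofLE A.1 H.1 h₁) ≫ g = u.hom ≫ pullback.snd π κ := cokernel.π_desc _ _ _
    have h3 : Epi (cokernel.π (Subobject.ofLE A.1 H.1 h₁) ≫ g) := by rw [h2]; exact h1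
    exact epi_of_epi (cokernel.π (Subobject.ofLE A.1 H.1 h₁)) g
  have hgi : IsIso g := isIso_of_mono_of_epi g
  refine ⟨H, h₁, h₂, (asIso g).symm, ?_⟩
  rw [← hg]
  simp

/-- **Coherent submodules of `B / A`.** -/
theorem exists_mid {A B : CSub E} (hAB : A ≤ B) {T : X.Modules}
    (κ : T ⟶ cokernel (Subobject.ofLE A.1 B.1 hAB)) [Mono κ] (hT : Coh.IsCoh T) :
    ∃ H : CSub E, A ≤ H ∧ H ≤ B ∧ hp T = hp (H : Subobject E) - hp (A : Subobject E) := by
  obtain ⟨H, h₁, h₂, h₃, h₄⟩ := (addH h).exists_between hAB A.2 B.2 κ hT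
  exact ⟨⟨H, h₃⟩, h₁, h₂, h₄⟩

/-- The cokernel of `A ⟶ E` as `⊤ / A`. -/
noncomputable def cokerTop {X : Scheme.{u}} {E : X.Modules} (A : CSub E) :
    cokernel (Subobject.ofLE A.1 (⊤ : Subobject E) le_top) ≅ cokernel (A : Subobject E).arrow :=
  cokernel.mapIso _ _ (Iso.refl _) (asIso (⊤ : Subobject E).arrow) (by simp)

/-- Coherent submodules of `E / A`. -/
theorem exists_above [hE : Fact (Coh.IsCoh E)] (A : CSub E) {T : X.Modules}
    (κ : T ⟶ cokernel (A : Subobject E).arrow) [Mono κ] (hT : Coh.IsCoh T) :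
    ∃ H : CSub E, A ≤ H ∧ hp T = hp (H : Subobject E) - hp (A : Subobject E) := by
  obtain ⟨H, h₁, -, h₂⟩ := exists_mid h (B := (⊤ : CSub E)) (le_top (a := A)) (κ ≫ (cokerTop A).inv) hT
  exact ⟨H, h₁, h₂⟩

end hilb

end K846.CSub
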