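import Groth.Agent.ShStab.K846.Ascent3
import Groth.Agent.ShStab.K846.Bad

/-!
# General ascent principle, and ascent of `ℓ`-semistability
-/

set_option autoImplicit false
universe u
open CategoryTheory CategoryTheory.Limits AlgebraicGeometry Polynomial StabCat

namespace K846.AscGen

attribute [local instance] Abelian.hasFiniteBiproducts

open K849.PolyOrd K849.TopPart BadPoly Ascent

variable (𝓗 : AllHilb.{u}) {k : Type u} [Field k] {X : Scheme.{u}}
  [X.Over (Spec (CommRingCat.of k))] [IsProper (X ↘ Spec (CommRingCat.of k))]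
  {L : X.Modules} (hL : CohB1.IsAmple L) (K : Type u) [Field K] [Algebra k K]

include 𝓗 hL

/-- A property of the Hilbert polynomials of the nonzero submodules of `E`, stable under sums and under
division by positive integers, passes to the nonzero submodules of `E_K`. -/
theorem ascend_gen {E : X.Modules} (hE : Coh.IsCoh E) (R : ℚ[X] → Prop)
    (hadd : ∀ a b, R a → R b → R (a + b)) (hdiv : ∀ (n : ℕ) (a : ℚ[X]), 0 < n → R ((n : ℚ) • a) → R a)
    (hb : ∀ (F : X.Modules) (ι : F ⟶ E), Mono ι → Coh.IsCoh F → ¬ IsZero F → R (Gies.hp k L F))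
    {F : (Curv2.bc k X K).Modules} (hF : Coh.IsCoh F) (hF0 : ¬ IsZero F)
    (ι : F ⟶ (Scheme.Modules.pullback (Curv2.bcFst k X K)).obj E) [Mono ι] :
    R (Gies.hp K ((Scheme.Modules.pullback (Curv2.bcFst k X K)).obj L) F) := by
  have := isLocallyNoetherian_of_proper k X
  have := isLocallyNoetherian_of_proper K (Curv2.bc k X K)
  have HK := hilb_bc (k := k) 𝓗 hL K
  have Hk := 𝓗 k X L hL
  obtain ⟨n, hn, G, κ, hκ, hG, hGp⟩ := Ascent2.exists_sub_pow (k := k) 𝓗 hL K hE hF ι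
  have hn' : (0 : ℚ) < n := by exact_mod_cast hn
  have hA := Gies.add_coh Hk
  let Q : X.Modules → Prop := fun F => Coh.IsCoh F ∧ (¬ IsZero F → R (Gies.hp k L F))
  have hz : ∀ Z : X.Modules, Coh.IsCoh Z → IsZero Z → Q Z :=
    fun Z hZ h0 => ⟨hZ, fun h => absurd h0 h⟩
  have hiso : ∀ {A B : X.Modules}, (A ≅ B) → Q A → Q B := by
    intro A B e hA'
    have h1 : Gies.hv k L A = Gies.hv k L B := hA.v_iso e hA'.1
    have h2 : Gies.hp k L A = Gies.hp k L B := toPV_injective h1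
    refine ⟨hA.ok_iso e hA'.1, fun h0 => ?_⟩
    rw [← h2]
    exact hA'.2 fun h => h0 (h.of_iso e.symm)
  have hext : ∀ S : ShortComplex X.Modules, S.ShortExact → Coh.IsCoh S.X₁ → Coh.IsCoh S.X₂ →
      Coh.IsCoh S.X₃ → Q S.X₁ → Q S.X₃ → Q S.X₂ := by
    intro S hS h₁ h₂ h₃ hQ₁ hQ₃
    have e1 := Gies.hp_add Hk S hS h₁ h₂ h₃
    refine ⟨h₂, fun h0 => ?_⟩
    rw [e1]
    by_cases h1 : IsZero S.X₁
    · rw [Gies.hp_zero Hk h1, zero_add]
      by_cases h3 : IsZero S.X₃
      · exfalso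
        apply h0
        have := hS.mono_f
        have := hS.epi_g
        exact hS.exact.isZero_of_both_zeros (h1.eq_of_src _ _) (h3.eq_of_tgt _ _)
      · exact hQ₃.2 h3
    · by_cases h3 : IsZero S.X₃
      · rw [Gies.hp_zero Hk h3, add_zero]
        exact hQ₁.2 h1
      · exact hadd _ _ (hQ₁.2 h1) (hQ₃.2 h3)
  have hsub : ∀ (F : X.Modules) (ι : F ⟶ E), Mono ι → Coh.IsCoh F → Q F :=
    fun F ι hι hF => ⟨hF, hb F ι hι hF⟩
  have hQG : Q G := Ascent2.of_sub_pow Q hz hiso hext hE hsub hG κ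
  have hG0 : ¬ IsZero G := by
    intro h0
    have h1 := Gies.hp_zero Hk h0
    rw [hGp] at h1
    have h2 := Gies.hv_pos HK hF hF0
    rw [Gies.hv, (smul_eq_zero.mp h1).resolve_left hn'.ne', toPV_zero] at h2
    exact lt_irrefl _ h2
  have := hQG.2 hG0
  rw [hGp] at this
  exact hdiv n _ hn this

/-- `ℓ`-semistability is preserved by extension of the base field. -/
theorem isEllSemistable_bc {d ℓ : ℕ} {E : X.Modules} (hE : ShStab.IsEllSemistable k X L E d ℓ) :
    ShStab.IsEllSemistable K (Curv2.bc k X K)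
      ((Scheme.Modules.pullback (Curv2.bcFst k X K)).obj L)
      ((Scheme.Modules.pullback (Curv2.bcFst k X K)).obj E) d ℓ := by
  have := isLocallyNoetherian_of_proper k X
  have := isLocallyNoetherian_of_proper K (Curv2.bc k X K)
  have HK := hilb_bc (k := k) 𝓗 hL K
  have Hk := 𝓗 k X L hL
  have hok := Gies.okd_of_pure Hk hE.1 hE.2.2.1
  have hpos : 0 < alpha d (Gies.hp k L E) := by
    have := Gies.alpha_pos Hk hE.1 hE.2.1 hE.2.2.1
    rwa [Gies.hv, alphaL_toPV] at this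
  have hEK : Coh.IsCoh ((Scheme.Modules.pullback (Curv2.bcFst k X K)).obj E) :=
    Groth.Agent.FormalA.PullbackQC.isCoh_pullback _ _ hE.1
  have hpK := hp_bc (k := k) 𝓗 hL K hE.1
  have hE' := (Bad.isEllSemistable_iff_bad Hk hok hpos).mp hE
  rw [Bad.isEllSemistable_iff_bad HK ⟨hEK, by rw [hpK]; exact hok.2⟩ (by rw [hpK]; exact hpos), hpK]
  set P := Gies.hp k L E with hPdef
  let R : ℚ[X] → Prop := fun a => a.natDegree ≤ d ∧ 0 < alpha d a ∧
    RedLE d (topPart ℓ d a) (topPart ℓ d P)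
  have key := fun (F : (Curv2.bc k X K).Modules) (hF : Coh.IsCoh F) (hF0 : ¬ IsZero F)
    (ι : F ⟶ (Scheme.Modules.pullback (Curv2.bcFst k X K)).obj E) (_ : Mono ι) =>
    ascend_gen (k := k) 𝓗 hL K hE.1 R ?_ ?_ ?_ hF hF0 ι
  · intro F ι hι hF hb
    have h0 : ¬ IsZero F := by
      intro hz
      have h1 := Gies.hp_zero HK hz
      rcases hb with ⟨h2, -⟩ | ⟨h2, -⟩
      · exact h2 h1
      · rw [h1, K847.PolyOrd.alpha_zero] at h2
        exact lt_irrefl _ h2
    obtain ⟨-, h1, h2⟩ := key F hF h0 ι hι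
    rcases hb with ⟨-, h3⟩ | ⟨-, -, h3⟩
    · exact h1.ne' h3
    · exact h3 h2
  · rintro a b ⟨ha1, ha2, ha3⟩ ⟨hb1, hb2, hb3⟩
    refine ⟨(natDegree_add_le _ _).trans (max_le ha1 hb1), ?_, ?_⟩
    · rw [K847.PolyOrd.alpha_add]; exact add_pos ha2 hb2
    · rw [redLE_pv] at ha3 hb3 ⊢
      rw [topPart_add, K847.PolyOrd.alpha_add, toPV_add, smul_add, add_smul]
      exact add_le_add ha3 hb3
  · rintro n a hn ⟨h1, h2, h3⟩
    have hn' : (0 : ℚ) < n := by exact_mod_cast hn
    refine ⟨?_, ?_, ?_⟩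
    · rwa [natDegree_smul _ hn'.ne'] at h1
    · rw [K847.PolyOrd.alpha_smul] at h2
      exact pos_of_mul_pos_right h2 hn'.le
    · rw [redLE_pv] at h3 ⊢
      rw [topPart_smul, K847.PolyOrd.alpha_smul, toPV_smul, smul_comm, mul_smul] at h3
      exact le_of_smul_le_smul_left h3 hn'
  · intro F ι hι hF h0
    have hF' := Gies.okd_of_mono Hk ι hF hok
    have hα : 0 < alpha d (Gies.hp k L F) := by
      have := (Gies.isPure_iff Hk hok).mp hE.2.2.1 F ι hι hF' h0
      rwa [Gies.hv, alphaL_toPV] at this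
    refine ⟨hF'.2, hα, ?_⟩
    by_cases hlt : alpha d (Gies.hp k L F) < alpha d P
    · by_contra h
      exact hE' F ι hι hF (Or.inr ⟨hα, hlt, h⟩)
    · have h1 := Gies.hv_mono Hk ι hF hE.1
      have h2 : 0 ≤ toPV (P - Gies.hp k L F) := by
        rw [toPV_sub]
        exact sub_nonneg.mpr h1
      have h3 : (P - Gies.hp k L F).natDegree ≤ d :=
        (natDegree_sub_le _ _).trans (max_le hok.2 hF'.2)
      have h4 : 0 ≤ alpha d (P - Gies.hp k L F) :=
        K847.PolyOrd.alpha_nonneg_of_polyLE h3 (toPV_le.mp h2)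
      have h5 : alpha d (Gies.hp k L F) = alpha d P := by
        rw [K847.PolyOrd.alpha_sub] at h4
        exact le_antisymm (sub_nonneg.mp h4) (not_lt.mp hlt)
      have h6 := topPart_nonneg (ℓ := ℓ) h2 h3
      rw [redLE_pv, alpha_topPart, alpha_topPart, h5]
      refine smul_le_smul_of_nonneg_left ?_ hpos.le
      have h7 : P = (P - Gies.hp k L F) + Gies.hp k L F := by ring
      have h8 : topPart ℓ d P = topPart ℓ d (P - Gies.hp k L F) + topPart ℓ d (Gies.hp k L F) := by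
        rw [← topPart_add, sub_add_cancel]
      rw [h8, toPV_add]
      exact le_add_of_nonneg_left h6

end K846.AscGen
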