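import Groth.Agent.ShStab.K849.TopPart
import Groth.Agent.ShStab.K847.PolyOrd

/-!
# The sets of destabilising polynomials

For each of the four stability conditions the destabilising submodules `F` of `E` are those whose Hilbert
polynomial belongs to a set `B` depending only on the Hilbert polynomial of `E`.
-/

set_option autoImplicit false
open Polynomial StabCat

namespace K846.BadPoly

open K849.PolyOrd K849.TopPart

/-- Properties of the set of destabilising polynomials. -/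
structure BadSet (d : ℕ) (P : ℚ[X]) (B : ℚ[X] → Prop) : Prop where
  add : ∀ Q R : ℚ[X], B Q → 0 ≤ toPV Q → Q.natDegree ≤ d → 0 ≤ toPV R → alpha d R = 0 →
    R.natDegree ≤ d → B (Q + R)
  ne : ∀ Q : ℚ[X], B Q → 0 ≤ toPV Q → toPV Q ≤ toPV P → alpha d Q ≠ alpha d P
  slope : ∀ Q : ℚ[X], B Q → 0 ≤ toPV Q → Q.natDegree ≤ d → 1 ≤ d →
    alpha d Q * alpha (d - 1) P ≤ alpha d P * alpha (d - 1) Q

/-- Destabilising polynomials: semistability. -/
def Bss (d : ℕ) (P Q : ℚ[X]) : Prop := ¬ RedLE d Q P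

/-- Destabilising polynomials: stability. -/
def Bst (d : ℕ) (P Q : ℚ[X]) : Prop := Q ≠ 0 ∧ Q ≠ P ∧ ¬ RedLT d Q P

/-- Destabilising polynomials: `ℓ`-semistability. -/
def Blss (d ℓ : ℕ) (P Q : ℚ[X]) : Prop :=
  (Q ≠ 0 ∧ alpha d Q = 0) ∨
    (0 < alpha d Q ∧ alpha d Q < alpha d P ∧ ¬ RedLE d (topPart ℓ d Q) (topPart ℓ d P))

/-- Destabilising polynomials: `ℓ`-stability. -/
def Blst (d ℓ : ℕ) (P Q : ℚ[X]) : Prop :=
  (Q ≠ 0 ∧ alpha d Q = 0) ∨
    (0 < alpha d Q ∧ alpha d Q < alpha d P ∧ ¬ RedLT d (topPart ℓ d Q) (topPart ℓ d P))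

lemma redLE_pv {d : ℕ} {P Q : ℚ[X]} :
    RedLE d P Q ↔ alpha d Q • toPV P ≤ alpha d P • toPV Q := Iff.rfl

lemma redLT_pv {d : ℕ} {P Q : ℚ[X]} :
    RedLT d P Q ↔ alpha d Q • toPV P < alpha d P • toPV Q := Iff.rfl

/-- A polynomial which is eventually nonnegative, of degree `≤ d` and without `X^d`, has a nonnegative
coefficient of degree `d - 1`. -/
lemma coeff_pred_nonneg {d : ℕ} (hd : 1 ≤ d) {D : ℚ[X]} (h : 0 ≤ toPV D) (h1 : D.natDegree ≤ d)
    (h2 : D.coeff d = 0) : 0 ≤ D.coeff (d - 1) := by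
  have h3 : D.natDegree ≤ d - 1 := by
    rw [natDegree_le_iff_coeff_eq_zero]
    intro n hn
    rcases Nat.lt_or_ge d n with h4 | h4
    · exact coeff_eq_zero_of_natDegree_lt (by omega)
    · have : n = d := by omega
      rw [this, h2]
  rcases h3.lt_or_eq with h4 | h4
  · rw [coeff_eq_zero_of_natDegree_lt h4]
  · have h5 := polyLE_iff.1 (toPV_le.1 h)
    rcases h5 with h5 | h5
    · have h6 : D = 0 := h5
      rw [h6, coeff_zero]
    · rw [← h4]
      exact h5.le

lemma slope_of_le {d : ℕ} (hd : 1 ≤ d) {P Q : ℚ[X]} (hP : P.natDegree ≤ d) (hQ : Q.natDegree ≤ d)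
    (h : alpha d Q • toPV P ≤ alpha d P • toPV Q) :
    alpha d Q * alpha (d - 1) P ≤ alpha d P * alpha (d - 1) Q := by
  have h1 : 0 ≤ toPV (alpha d P • Q - alpha d Q • P) := by
    rw [toPV_sub, toPV_smul, toPV_smul]
    exact sub_nonneg.mpr h
  have h2 : (alpha d P • Q - alpha d Q • P).natDegree ≤ d :=
    (natDegree_sub_le _ _).trans (max_le ((natDegree_smul_le _ _).trans hQ)
      ((natDegree_smul_le _ _).trans hP))
  have h3 : (alpha d P • Q - alpha d Q • P).coeff d = 0 := by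
    rw [coeff_sub, coeff_smul, coeff_smul]
    simp only [alpha, smul_eq_mul]
    ring
  have h4 := coeff_pred_nonneg hd h1 h2 h3
  rw [coeff_sub, coeff_smul, coeff_smul, smul_eq_mul, smul_eq_mul, sub_nonneg] at h4
  have hf : (0 : ℚ) ≤ ((d - 1).factorial : ℚ) := by positivity
  have := mul_le_mul_of_nonneg_left h4 hf
  have e1 : alpha (d - 1) P = ((d - 1).factorial : ℚ) * P.coeff (d - 1) := rfl
  have e2 : alpha (d - 1) Q = ((d - 1).factorial : ℚ) * Q.coeff (d - 1) := rfl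
  rw [e1, e2]
  linarith

lemma alpha_pred_topPart {d ℓ : ℕ} (hℓ : 1 ≤ ℓ) (P : ℚ[X]) :
    alpha (d - 1) (topPart ℓ d P) = alpha (d - 1) P := by
  unfold alpha
  rw [coeff_topPart, if_pos ⟨by omega, by omega⟩]

lemma natDegree_topPart_le {ℓ d : ℕ} (P : ℚ[X]) : (topPart ℓ d P).natDegree ≤ d := by
  rw [natDegree_le_iff_coeff_eq_zero]
  intro n hn
  rw [coeff_topPart, if_neg (fun h => by omega)]

lemma topPart_nonneg {ℓ d : ℕ} {R : ℚ[X]} (h : 0 ≤ toPV R) (hR : R.natDegree ≤ d) :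
    0 ≤ toPV (topPart ℓ d R) := polyLE_topPart hR h

variable {d ℓ : ℕ} {P : ℚ[X]}

theorem badSet_ss (hP : P.natDegree ≤ d) (h0 : 0 < alpha d P) : BadSet d P (Bss d P) where
  add Q R hQ _ _ hR hαR _ := by
    intro h
    apply hQ
    rw [redLE_pv] at h ⊢
    rw [K847.PolyOrd.alpha_add, hαR, add_zero, toPV_add, smul_add] at h
    exact (le_add_of_nonneg_right (smul_nonneg h0.le hR)).trans h
  ne Q hQ _ hQP h := by
    apply hQ
    rw [redLE_pv, h]
    exact smul_le_smul_of_nonneg_left hQP h0.le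
  slope Q hQ _ hdQ hd := by
    rw [Bss, redLE_pv, not_le] at hQ
    exact slope_of_le hd hP hdQ hQ.le

theorem badSet_st (hP : P.natDegree ≤ d) (h0 : 0 < alpha d P) : BadSet d P (Bst d P) := by
  have key : ∀ Q : ℚ[X], Q ≠ P → ¬ RedLT d Q P → toPV Q ≤ toPV P → alpha d Q ≠ alpha d P := by
    intro Q hQP hQ h h1
    rw [redLT_pv, not_lt, h1] at hQ
    have := le_antisymm h (le_of_smul_le_smul_left hQ h0)
    exact hQP (toPV_injective this)
  refine ⟨fun Q R hQ hQ0 _ hR hαR _ => ?_, fun Q hQ _ h => key Q hQ.2.1 hQ.2.2 h,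
    fun Q hQ _ hdQ hd => ?_⟩
  · obtain ⟨hn0, hnP, hQ⟩ := hQ
    have hpos : 0 < toPV Q := lt_of_le_of_ne hQ0 fun h => hn0 (toPV_injective h.symm)
    refine ⟨fun h => ?_, fun h => ?_, fun h => ?_⟩
    · have h1 : toPV Q + toPV R = 0 := congrArg toPV h
      exact (add_pos_of_pos_of_nonneg hpos hR).ne' h1
    · have h1 : toPV Q + toPV R = toPV P := congrArg toPV h
      refine key Q hnP hQ (h1 ▸ le_add_of_nonneg_right hR) ?_
      rw [← h, K847.PolyOrd.alpha_add, hαR, add_zero]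
    · apply hQ
      rw [redLT_pv] at h ⊢
      rw [K847.PolyOrd.alpha_add, hαR, add_zero, toPV_add, smul_add] at h
      exact lt_of_le_of_lt (le_add_of_nonneg_right (smul_nonneg h0.le hR)) h
  · have := hQ.2.2
    rw [redLT_pv, not_lt] at this
    exact slope_of_le hd hP hdQ this

theorem badSet_lss (hℓ : 1 ≤ ℓ) (h0 : 0 < alpha d P) :
    BadSet d P (Blss d ℓ P) := by
  refine ⟨fun Q R hQ hQ0 _ hR hαR hdR => ?_, fun Q hQ _ h => ?_, fun Q hQ hQ0 hdQ hd => ?_⟩
  · rcases hQ with ⟨hn0, hα⟩ | ⟨h1, h2, h3⟩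
    · refine Or.inl ⟨fun h => ?_, by rw [K847.PolyOrd.alpha_add, hα, hαR, add_zero]⟩
      have hpos : 0 < toPV Q := lt_of_le_of_ne hQ0 fun h => hn0 (toPV_injective h.symm)
      have h1 : toPV Q + toPV R = 0 := congrArg toPV h
      exact (add_pos_of_pos_of_nonneg hpos hR).ne' h1
    · refine Or.inr ⟨?_, ?_, fun h => h3 ?_⟩
      · rwa [K847.PolyOrd.alpha_add, hαR, add_zero]
      · rwa [K847.PolyOrd.alpha_add, hαR, add_zero]
      · rw [redLE_pv] at h ⊢
        rw [topPart_add, K847.PolyOrd.alpha_add, alpha_topPart, alpha_topPart, alpha_topPart, hαR,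
          add_zero, toPV_add, smul_add] at h
        rw [alpha_topPart, alpha_topPart]
        exact (le_add_of_nonneg_right (smul_nonneg h0.le (topPart_nonneg hR hdR))).trans h
  · rcases hQ with ⟨hn0, hα⟩ | ⟨h1, h2, h3⟩
    · rw [hα]; exact h0.ne
    · exact h2.ne
  · rcases hQ with ⟨hn0, hα⟩ | ⟨h1, h2, h3⟩
    · rw [hα, zero_mul]
      refine mul_nonneg h0.le (mul_nonneg (by positivity) (coeff_pred_nonneg hd hQ0 hdQ ?_))
      unfold alpha at hα
      exact (mul_eq_zero.mp hα).resolve_left (by positivity)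
    · rw [redLE_pv, not_le] at h3
      have := slope_of_le hd (natDegree_topPart_le P) (natDegree_topPart_le Q) h3.le
      rwa [alpha_topPart, alpha_topPart, alpha_pred_topPart hℓ, alpha_pred_topPart hℓ] at this

theorem badSet_lst (hℓ : 1 ≤ ℓ) (h0 : 0 < alpha d P) :
    BadSet d P (Blst d ℓ P) := by
  refine ⟨fun Q R hQ hQ0 _ hR hαR hdR => ?_, fun Q hQ _ h => ?_, fun Q hQ hQ0 hdQ hd => ?_⟩
  · rcases hQ with ⟨hn0, hα⟩ | ⟨h1, h2, h3⟩
    · refine Or.inl ⟨fun h => ?_, by rw [K847.PolyOrd.alpha_add, hα, hαR, add_zero]⟩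
      have hpos : 0 < toPV Q := lt_of_le_of_ne hQ0 fun h => hn0 (toPV_injective h.symm)
      have h1 : toPV Q + toPV R = 0 := congrArg toPV h
      exact (add_pos_of_pos_of_nonneg hpos hR).ne' h1
    · refine Or.inr ⟨?_, ?_, fun h => h3 ?_⟩
      · rwa [K847.PolyOrd.alpha_add, hαR, add_zero]
      · rwa [K847.PolyOrd.alpha_add, hαR, add_zero]
      · rw [redLT_pv] at h ⊢
        rw [topPart_add, K847.PolyOrd.alpha_add, alpha_topPart, alpha_topPart, alpha_topPart, hαR,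
          add_zero, toPV_add, smul_add] at h
        rw [alpha_topPart, alpha_topPart]
        exact lt_of_le_of_lt (le_add_of_nonneg_right (smul_nonneg h0.le (topPart_nonneg hR hdR))) h
  · rcases hQ with ⟨hn0, hα⟩ | ⟨h1, h2, h3⟩
    · rw [hα]; exact h0.ne
    · exact h2.ne
  · rcases hQ with ⟨hn0, hα⟩ | ⟨h1, h2, h3⟩
    · rw [hα, zero_mul]
      refine mul_nonneg h0.le (mul_nonneg (by positivity) (coeff_pred_nonneg hd hQ0 hdQ ?_))
      unfold alpha at hα
      exact (mul_eq_zero.mp hα).resolve_left (by positivity)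
    · rw [redLT_pv, not_lt] at h3
      have := slope_of_le hd (natDegree_topPart_le P) (natDegree_topPart_le Q) h3
      rwa [alpha_topPart, alpha_topPart, alpha_pred_topPart hℓ, alpha_pred_topPart hℓ] at this

/-- The slope of the quotient. -/
theorem BadSet.hatSlope_le {B : ℚ[X] → Prop} (hB : BadSet d P B) {Q : ℚ[X]} (hQ : B Q)
    (hQ0 : 0 ≤ toPV Q) (hdQ : Q.natDegree ≤ d) (h0 : 0 < alpha d P) (hG : 0 < alpha d (P - Q)) :
    hatSlope d (P - Q) ≤ hatSlope d P := by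
  rcases Nat.eq_zero_or_pos d with rfl | hd
  · unfold hatSlope
    rw [div_self hG.ne', div_self h0.ne']
  · unfold hatSlope
    rw [div_le_div_iff₀ hG h0, K847.PolyOrd.alpha_sub, K847.PolyOrd.alpha_sub]
    have := hB.slope Q hQ hQ0 hdQ hd
    nlinarith

end K846.BadPoly
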