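import Mathlib.RingTheory.Jacobson.Ring
import Mathlib.LinearAlgebra.Eigenspace.Triangularizable
import Mathlib.RingTheory.Nakayama
import Mathlib.Algebra.Module.Torsion.Basic
import Mathlib.RingTheory.Ideal.Quotient.Operations
import Mathlib.FieldTheory.IsAlgClosed.Basic

/-!
# Eigenvalues of endomorphisms of finite modules over finitely generated algebras
-/

set_option autoImplicit false

open Module

namespace K846.EigAlg

/-- An endomorphism of a nonzero finite module over a finitely generated algebra over an algebraically
closed field becomes non-bijective after subtracting a suitable scalar. -/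
theorem exists_not_bijective {k A M : Type*} [Field k] [IsAlgClosed k] [CommRing A] [Algebra k A]
    [Algebra.FiniteType k A] [AddCommGroup M] [Module A M] [Module.Finite A M] [Nontrivial M]
    (f : M →ₗ[A] M) : ∃ c : k, ¬ Function.Bijective (fun m : M => f m - algebraMap k A c • m) := by
  -- a maximal ideal containing the annihilator
  have hann : Module.annihilator A M ≠ ⊤ := by
    intro h
    rw [Module.annihilator_eq_top_iff] at h
    exact not_subsingleton M h
  obtain ⟨m, hm, hle⟩ := Ideal.exists_le_maximal _ hann
  let _ : Field (A ⧸ m) := Ideal.Quotient.field m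
  have : Module.Finite k (A ⧸ m) := finite_of_finite_type_of_isJacobsonRing k (A ⧸ m)
  let _ : Module k M := Module.compHom M (algebraMap k A)
  have : IsScalarTower k A M := ⟨fun a b x => by
    change (a • b) • x = algebraMap k A a • (b • x)
    rw [Algebra.smul_def, mul_smul]⟩
  let N : Submodule A M := m • (⊤ : Submodule A M)
  have hN : N ≠ ⊤ := by
    intro h
    obtain ⟨r, hr1, hr2⟩ := Submodule.exists_sub_one_mem_and_smul_eq_zero_of_fg_of_le_smul m
      (⊤ : Submodule A M) Module.Finite.fg_top h.ge
    have h3 : r ∈ Module.annihilator A M := by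
      rw [Module.mem_annihilator]
      exact fun x => hr2 x trivial
    have h4 : (1 : A) ∈ m := by
      have := m.sub_mem (hle h3) hr1
      simpa using this
    exact hm.ne_top (m.eq_top_iff_one.mpr h4)
  have : Nontrivial (M ⧸ N) := Submodule.Quotient.nontrivial_iff.mpr hN
  -- the quotient is finite over `A / m` and so over `k`
  let _ : Module (A ⧸ m) (M ⧸ N) := inferInstanceAs (Module (A ⧸ m) (M ⧸ m • (⊤ : Submodule A M)))
  have hsc : IsScalarTower A (A ⧸ m) (M ⧸ N) := ⟨fun a b x => by
    obtain ⟨b, rfl⟩ := Ideal.Quotient.mk_surjective b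
    obtain ⟨x, rfl⟩ := Submodule.Quotient.mk_surjective _ x
    change (Ideal.Quotient.mk m (a * b)) • (Submodule.Quotient.mk x : M ⧸ N) = _
    change (Submodule.Quotient.mk ((a * b) • x) : M ⧸ N) = a • (Submodule.Quotient.mk (b • x) : M ⧸ N)
    rw [mul_smul]; rfl⟩
  have hsc2 : IsScalarTower k (A ⧸ m) (M ⧸ N) := ⟨fun a b x => by
    rw [← algebraMap_smul A a b, smul_assoc, algebraMap_smul]⟩
  have hf1 : Module.Finite (A ⧸ m) (M ⧸ N) := Module.Finite.of_restrictScalars_finite A _ _
  have hf2 : Module.Finite k (M ⧸ N) := Module.Finite.trans (A ⧸ m) _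
  let g : (M ⧸ N) →ₗ[A] (M ⧸ N) := N.mapQ N f (by
    rw [Submodule.smul_le]
    intro r hr x _
    change f (r • x) ∈ N
    rw [map_smul]
    exact Submodule.smul_mem_smul hr trivial)
  obtain ⟨c, hc⟩ := Module.End.exists_eigenvalue (g.restrictScalars k)
  refine ⟨c, fun hbij => ?_⟩
  obtain ⟨v, hv⟩ := hc.exists_hasEigenvector
  have hv1 : g v = c • v := hv.apply_eq_smul
  -- the map `f - c` induces a surjective, hence injective, endomorphism of the quotient
  let F : M →ₗ[A] M := f - algebraMap k A c • LinearMap.id
  have hF : Function.Surjective F := hbij.2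
  let G : (M ⧸ N) →ₗ[A] (M ⧸ N) := g - algebraMap k A c • LinearMap.id
  have hG : Function.Surjective G := by
    intro y
    obtain ⟨y, rfl⟩ := Submodule.Quotient.mk_surjective _ y
    obtain ⟨x, rfl⟩ := hF y
    exact ⟨Submodule.Quotient.mk x, rfl⟩
  have hGi : Function.Injective (G.restrictScalars k) :=
    LinearMap.injective_iff_surjective.mpr hG
  apply hv.2
  apply hGi
  rw [map_zero]
  change g v - algebraMap k A c • v = 0
  rw [hv1, algebraMap_smul, sub_self]

end K846.EigAlg
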