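import Groth.Prelude.Def_StabCat
import Mathlib.CategoryTheory.Abelian.Basic
import Mathlib.CategoryTheory.Subobject.Lattice
import Mathlib.CategoryTheory.Subobject.Limits
import Mathlib.CategoryTheory.Limits.Preserves.Shapes.Kernels
import Mathlib.CategoryTheory.Preadditive.AdditiveFunctor

/-!
# Images of chains of subobjects whose inclusions remain monomorphisms
-/

set_option autoImplicit false
set_option linter.unusedSectionVars false

universe v u v' u'

open CategoryTheory CategoryTheory.Limits

namespace K846.FibSub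

variable {C : Type u} [Category.{v} C] [Abelian C] {D : Type u'} [Category.{v'} D] [Abelian D]
variable (Φ : C ⥤ D) [Φ.PreservesZeroMorphisms]

theorem imageSubobject_congr {A B : D} {f g : A ⟶ B} (h : f = g) : imageSubobject f = imageSubobject g := by
  subst h
  rfl

/-- The image of a subobject. -/
noncomputable def im {E : C} (a : Subobject E) : Subobject (Φ.obj E) := imageSubobject (Φ.map a.arrow)

theorem im_eq {E : C} (a : Subobject E) [Mono (Φ.map a.arrow)] : im Φ a = Subobject.mk (Φ.map a.arrow) :=
  imageSubobject_mono _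

/-- The underlying object of the image. -/
noncomputable def imIso {E : C} (a : Subobject E) [Mono (Φ.map a.arrow)] : (im Φ a : D) ≅ Φ.obj (a : C) :=
  Subobject.isoOfEq _ _ (im_eq Φ a) ≪≫ Subobject.underlyingIso (Φ.map a.arrow)

theorem imIso_hom {E : C} (a : Subobject E) [Mono (Φ.map a.arrow)] :
    (imIso Φ a).hom ≫ Φ.map a.arrow = (im Φ a).arrow := by
  simp only [imIso, Iso.trans_hom, Category.assoc]
  rw [Subobject.underlyingIso_hom_comp_eq_mk]
  simp

theorem im_mono {E : C} {a b : Subobject E} (h : a ≤ b) : im Φ a ≤ im Φ b := by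
  have e : Φ.map a.arrow = Φ.map (Subobject.ofLE a b h) ≫ Φ.map b.arrow := by
    rw [← Φ.map_comp, Subobject.ofLE_arrow]
  exact (imageSubobject_congr e).trans_le (imageSubobject_comp_le _ _)

theorem ofLE_im {E : C} {a b : Subobject E} (h : a ≤ b) [Mono (Φ.map a.arrow)] [Mono (Φ.map b.arrow)] :
    Subobject.ofLE (im Φ a) (im Φ b) (im_mono Φ h) ≫ (imIso Φ b).hom =
      (imIso Φ a).hom ≫ Φ.map (Subobject.ofLE a b h) := by
  rw [← cancel_mono (Φ.map b.arrow), Category.assoc, imIso_hom, Subobject.ofLE_arrow, Category.assoc,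
    ← Φ.map_comp, Subobject.ofLE_arrow, imIso_hom]

theorem im_bot {E : C} : im Φ (⊥ : Subobject E) = ⊥ := by
  exact (imageSubobject_congr (by rw [Subobject.bot_arrow, Φ.map_zero])).trans imageSubobject_zero

theorem im_top {E : C} : im Φ (⊤ : Subobject E) = ⊤ := by
  have : IsIso (Φ.map (⊤ : Subobject E).arrow) := inferInstance
  rw [im_eq]
  exact Subobject.mk_eq_top_of_isIso _

/-- The image of a quotient of subobjects. -/
noncomputable def cokIso [PreservesColimitsOfShape WalkingParallelPair Φ] {E : C} {a b : Subobject E}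
    (h : a ≤ b) [Mono (Φ.map a.arrow)] [Mono (Φ.map b.arrow)] :
    cokernel (Subobject.ofLE (im Φ a) (im Φ b) (im_mono Φ h)) ≅
      Φ.obj (cokernel (Subobject.ofLE a b h)) :=
  cokernel.mapIso _ _ (imIso Φ a) (imIso Φ b) (ofLE_im Φ h) ≪≫
    (PreservesCokernel.iso Φ (Subobject.ofLE a b h)).symm

section Series

variable [PreservesColimitsOfShape WalkingParallelPair Φ] {E : C} (s : LTSeries (Subobject E))
  (hm : ∀ i, Mono (Φ.map (s i).arrow)) (h0 : ∀ i : Fin s.length, ¬ IsZero (Φ.obj (StabCat.factor s i)))

include hm h0 in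
theorem ne (i : Fin s.length) : im Φ (s i.castSucc) ≠ im Φ (s i.succ) := by
  intro he
  have := hm i.castSucc
  have := hm i.succ
  have e := cokIso Φ (le_of_lt (s.step i))
  have hz : IsZero (cokernel (Subobject.ofLE (im Φ (s i.castSucc))
      (im Φ (s i.succ)) (im_mono Φ (le_of_lt (s.step i))))) := by
    have : IsIso (Subobject.ofLE (im Φ (s i.castSucc))
      (im Φ (s i.succ)) (im_mono Φ (le_of_lt (s.step i)))) := by
      exact (Subobject.isoOfEq _ _ he).isIso_hom
    exact isZero_cokernel_of_epi _
  exact h0 i (hz.of_iso e.symm)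

/-- The image of a strictly increasing chain. -/
noncomputable def imSeries : LTSeries (Subobject (Φ.obj E)) where
  length := s.length
  toFun i := im Φ (s i)
  step i := lt_of_le_of_ne (im_mono Φ (le_of_lt (s.step i))) (ne Φ s hm h0 i)

/-- The factors of the image of a chain. -/
noncomputable def factorIso (i : Fin s.length) :
    StabCat.factor (imSeries Φ s hm h0) i ≅ Φ.obj (StabCat.factor s i) :=
  have := hm i.castSucc
  have := hm i.succ
  cokIso Φ (le_of_lt (s.step i))

end Series

end K846.FibSub
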