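import Groth.Agent.CurvesA.FlatH0
import Groth.Agent.CohqA.HBiprod
import Groth.Agent.CohqB.AffIso
import Groth.Agent.Sga67.CohBasic
import Groth.Prelude.Def_KLin
import Mathlib.LinearAlgebra.TensorProduct.Basis

/-!
# `g_* g^* E ≅ E^n` for a free base change of rank `n`
-/

set_option autoImplicit false
universe u
open CategoryTheory CategoryTheory.Limits AlgebraicGeometry TensorProduct

namespace K846.FinPush

attribute [local instance] Abelian.hasFiniteBiproducts

open Groth.Agent.VarietyB.PullSec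

theorem bijective_of_isBaseChange {R R' M N : Type*} [CommRing R] [CommRing R'] [Algebra R R']
    [AddCommGroup M] [Module R M] [AddCommGroup N] [Module R N] [Module R' N] [IsScalarTower R R' N]
    {n : ℕ} (b : Module.Basis (Fin n) R R') (ι : M →ₗ[R] N) (h : IsBaseChange R' ι) :
    Function.Bijective (fun m : Fin n → M => ∑ j, b j • ι (m j)) := by
  classical
  have e : (fun m : Fin n → M => ∑ j, b j • ι (m j)) =
      h.equiv ∘ (TensorProduct.equivFinsuppOfBasisLeft b).symm ∘ Finsupp.equivFunOnFinite.symm := by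
    funext m
    simp only [Function.comp_apply, TensorProduct.equivFinsuppOfBasisLeft_symm_apply]
    rw [Finsupp.sum_fintype _ _ (fun i => by simp), map_sum]
    refine Finset.sum_congr rfl fun j _ => ?_
    rw [IsBaseChange.equiv_tmul]
    rfl
  rw [e]
  exact h.equiv.bijective.comp ((LinearEquiv.bijective _).comp (Equiv.bijective _))

section Biprod

variable {X : Scheme.{u}} {n : ℕ} (F : Fin n → X.Modules)

theorem comp_apply {A B C : X.Modules} (f : A ⟶ B) (g : B ⟶ C) (U : X.Opens) (x : Γ(A, U)) :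
    (f ≫ g).app U x = g.app U (f.app U x) := rfl

theorem bijective_comp (U : X.Opens) :
    Function.Bijective (fun (x : Γ(⨁ F, U)) (j : Fin n) => (biproduct.π F j).app U x) := by
  constructor
  · intro x y h
    rw [Groth.Agent.CohqA.HBiprod.eq_sum F U x, Groth.Agent.CohqA.HBiprod.eq_sum F U y]
    exact Finset.sum_congr rfl fun j _ => congrArg _ (congrFun h j)
  · intro y
    refine ⟨∑ j, (biproduct.ι F j).app U (y j), funext fun j => ?_⟩
    change (biproduct.π F j).app U _ = _
    rw [map_sum, Finset.sum_eq_single j]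
    · rw [← comp_apply, biproduct.ι_π_self]; rfl
    · intro j' _ hj'
      rw [← comp_apply, biproduct.ι_π_ne _ hj']; rfl
    · intro h; exact absurd (Finset.mem_univ _) h

theorem desc_app {U : X.Opens} {M : X.Modules} (φ : ∀ j, F j ⟶ M) (x : Γ(⨁ F, U)) :
    (biproduct.desc φ).app U x = ∑ j, (φ j).app U ((biproduct.π F j).app U x) := by
  conv_lhs => rw [Groth.Agent.CohqA.HBiprod.eq_sum F U x]
  rw [map_sum]
  refine Finset.sum_congr rfl fun j _ => ?_
  rw [← comp_apply, biproduct.ι_desc]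

/-- A criterion for an isomorphism from a finite direct sum. -/
theorem isIso_desc (hF : ∀ j, Coh.IsQCoh (F j)) {M : X.Modules} (hM : Coh.IsQCoh M)
    (φ : ∀ j, F j ⟶ M)
    (h : ∀ U : X.Opens, IsAffineOpen U →
      Function.Bijective (fun m : ∀ j, Γ(F j, U) => ∑ j, (φ j).app U (m j))) :
    IsIso (biproduct.desc φ) := by
  have : Coh.IsQCoh (⨁ F) := Groth.Agent.CohqA.HBiprod.isQCoh_biproduct F hF
  refine Groth.Agent.CohqB.AffIso.isIso_of_affine_cover (biproduct.desc φ) fun x => ?_
  obtain ⟨U, hU, hx, -⟩ := exists_isAffineOpen_mem_and_subset (x := x) (U := ⊤) trivial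
  refine ⟨U, hx, hU, ?_⟩
  have e : ((biproduct.desc φ).app U : Γ(⨁ F, U) → Γ(M, U)) =
      (fun m : ∀ j, Γ(F j, U) => ∑ j, (φ j).app U (m j)) ∘
        (fun (x : Γ(⨁ F, U)) (j : Fin n) => (biproduct.π F j).app U x) := by
    funext y
    exact desc_app F φ y
  rw [e]
  exact (h U hU).comp (bijective_comp F U)

end Biprod

variable {X X' S S' : Scheme.{u}} (p : X ⟶ S) (q : X' ⟶ S') (f : S' ⟶ S) (g : X' ⟶ X)

/-- The map `E ⟶ g_* g^* E`, `m ↦ r • g^* m` for a function `r` on `S'`. -/
noncomputable def psi (E : X.Modules) (r : Γ(S', ⊤)) :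
    E ⟶ (Scheme.Modules.pushforward g).obj ((Scheme.Modules.pullback g).obj E) :=
  (Scheme.Modules.pullbackPushforwardAdjunction g).unit.app E ≫
    (Scheme.Modules.pushforward g).map (Formal.smulModΓ _ (q.appTop r))

theorem psi_app (E : X.Modules) (r : Γ(S', ⊤)) (U : X.Opens) (m : Γ(E, U)) :
    (psi q g E r).app U m = (q.appLE ⊤ (g ⁻¹ᵁ U) le_top r : Γ(X', g ⁻¹ᵁ U)) •
      (sec g E (le_refl (g ⁻¹ᵁ U)) m :
        Γ((Scheme.Modules.pullback g).obj E, g ⁻¹ᵁ U)) := by
  have h1 : (sec g E (le_refl (g ⁻¹ᵁ U)) m : Γ((Scheme.Modules.pullback g).obj E, g ⁻¹ᵁ U)) =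
      ((Scheme.Modules.pullbackPushforwardAdjunction g).unit.app E).app U m := by
    rw [sec_apply]
    have : (homOfLE (le_refl (g ⁻¹ᵁ U))).op = 𝟙 _ := rfl
    rw [this, CategoryTheory.Functor.map_id]
    rfl
  rw [h1]
  rfl

theorem isIso_desc_psi (H : IsPullback g q p f) [IsAffine S] [IsAffine S'] {n : ℕ}
    (b : letI := Groth.Agent.CurvesA.FlatH0.baseAlg f
      Module.Basis (Fin n) Γ(S, ⊤) Γ(S', ⊤)) (E : X.Modules) (hE : Coh.IsQCoh E) :
    IsIso (biproduct.desc (fun j : Fin n => psi q g E (b j))) := by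
  have : IsAffineHom f := inferInstance
  have : IsAffineHom g := MorphismProperty.of_isPullback H.flip ‹_›
  refine isIso_desc _ (fun _ => hE) (Groth.Agent.Sga67.CohBasic.isQCoh_push g
    (isQCoh_pullback g E hE)) _ fun U hU => ?_
  have h1 := Groth.Agent.CurvesA.FlatH0.isBaseChange_affine p q f g H E hE hU rfl
  let i0 := Groth.Agent.CurvesA.FlatH0.baseAlg f
  let i1 := Groth.Agent.CurvesA.FlatH0.modX p E U
  let i2 := Groth.Agent.CurvesA.FlatH0.modX q ((Scheme.Modules.pullback g).obj E) (g ⁻¹ᵁ U)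
  let i3 := Groth.Agent.CurvesA.FlatH0.modX' q f ((Scheme.Modules.pullback g).obj E) (g ⁻¹ᵁ U)
  have i4 := Groth.Agent.CurvesA.FlatH0.tower' q f ((Scheme.Modules.pullback g).obj E) (g ⁻¹ᵁ U)
  have h2 := bijective_of_isBaseChange b _ h1
  have e : ∀ m : Fin n → Γ(E, U),
      (∑ j, (psi q g E (b j)).app U (m j) :
        Γ((Scheme.Modules.pushforward g).obj ((Scheme.Modules.pullback g).obj E), U)) =
      (∑ j, b j • (Groth.Agent.CurvesA.FlatH0.secB p q f g H.w E (le_refl _)) (m j) :
        Γ((Scheme.Modules.pullback g).obj E, g ⁻¹ᵁ U)) :=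
    fun m => Finset.sum_congr rfl fun j _ => psi_app q g E (b j) U (m j)
  constructor
  · intro m m' hm
    exact h2.1 ((e m).symm.trans (hm.trans (e m')))
  · intro y
    obtain ⟨m, hm⟩ := h2.2 y
    exact ⟨m, (e m).trans hm⟩

end K846.FinPush
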