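import Groth.Agent.ShStab.K846.OpenMain

/-!
# The two inputs of the openness theorem are local on the base
-/

set_option autoImplicit false
universe u
open CategoryTheory CategoryTheory.Limits AlgebraicGeometry StabCat

namespace K846.Localize

open Groth.Agent K846.FieldPt K846.OpenMain

/-- The conclusion of Grothendieck's lemma for the pure quotients of the fibres, for all squares. -/
def GLS {X S : Scheme.{u}} (f : X ⟶ S) (L F : X.Modules) (d : ℕ) (a₀ μ₀ : ℚ) : Prop :=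
  ∃ PS : Set (Polynomial ℚ), PS.Finite ∧ ∀ (K : Type u) [Field K] [IsAlgClosed K]
    (t : Spec (CommRingCat.of K) ⟶ S) (Y : Scheme.{u}) (p : Y ⟶ X) (q : Y ⟶ Spec (CommRingCat.of K)),
    IsPullback p q f t → ∀ (G : Y.Modules) (π : (Scheme.Modules.pullback p).obj F ⟶ G), Epi π → Coh.IsCoh G →
      ShStab.IsPure Y G d → ∀ Q : Polynomial ℚ,
        @ShStab.IsHilbPoly K _ Y ⟨q⟩ ((Scheme.Modules.pullback p).obj L) G Q →
        alpha d Q ≤ a₀ → hatSlope d Q ≤ μ₀ → Q ∈ PS

theorem GLS.gLem {X S : Scheme.{u}} {f : X ⟶ S} {L F : X.Modules} {d : ℕ} {a₀ μ₀ : ℚ}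
    (h : GLS f L F d a₀ μ₀) : GLem f L F d a₀ μ₀ := by
  obtain ⟨PS, hfin, hPS⟩ := h
  exact ⟨PS, hfin, fun K _ _ t G π hπ hG hp _ Q hQ h1 h2 =>
    hPS K t _ _ _ (IsPullback.of_hasPullback f t) G π hπ hG hp Q hQ h1 h2⟩

variable {X S : Scheme.{u}} (f : X ⟶ S) {L : X.Modules} (F : X.Modules)

/-- The square over an open part of the base. -/
theorem exists_square_open {U : Scheme.{u}} (j : U ⟶ S) [IsOpenImmersion j] {K : Type u} [Field K]
    (t : Spec (CommRingCat.of K) ⟶ S) (pt : Spec (CommRingCat.of K)) (h : t pt ∈ Set.range j) {Y : Scheme.{u}}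
    {p : Y ⟶ X} {q : Y ⟶ Spec (CommRingCat.of K)} (H : IsPullback p q f t) :
    ∃ (t' : Spec (CommRingCat.of K) ⟶ U) (p' : Y ⟶ pullback f j), t' ≫ j = t ∧ p' ≫ pullback.fst f j = p ∧
      IsPullback p' q (pullback.snd f j) t' := by
  have h1 : Set.range t ⊆ Set.range j := by
    rintro _ ⟨x, rfl⟩
    rwa [eq_closedPoint x pt]
  let t' : Spec (CommRingCat.of K) ⟶ U := IsOpenImmersion.lift j t h1
  have ht' : t' ≫ j = t := IsOpenImmersion.lift_fac j t h1
  let p' : Y ⟶ pullback f j := pullback.lift p (q ≫ t') (by rw [Category.assoc, ht']; exact H.w)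
  have hp' : p' ≫ pullback.fst f j = p := pullback.lift_fst _ _ _
  refine ⟨t', p', ht', hp', ?_⟩
  refine IsPullback.of_right (h₁₂ := pullback.fst f j) (h₂₂ := j) (v₁₃ := f) ?_ (pullback.lift_snd _ _ _)
    (IsPullback.of_hasPullback f j)
  rw [hp', ht']
  exact H

/-- Grothendieck's lemma is local on the base. -/
theorem gls_of_cover {ι : Type*} [Finite ι] (U : ι → Scheme.{u}) (j : ∀ i, U i ⟶ S) [∀ i, IsOpenImmersion (j i)]
    (hc : ∀ s : S, ∃ i, s ∈ Set.range (j i)) {d : ℕ} {a₀ μ₀ : ℚ}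
    (h : ∀ i, GLS (pullback.snd f (j i)) ((Scheme.Modules.pullback (pullback.fst f (j i))).obj L)
      ((Scheme.Modules.pullback (pullback.fst f (j i))).obj F) d a₀ μ₀) : GLS f L F d a₀ μ₀ := by
  choose PS hfin hPS using h
  refine ⟨⋃ i, PS i, Set.finite_iUnion hfin, ?_⟩
  intro K _ _ t Y p q H G π hπ hG hp Q hQ h1 h2
  obtain ⟨i, hi⟩ := hc (t (IsLocalRing.closedPoint K))
  obtain ⟨t', p', ht', hp', H'⟩ := exists_square_open f (j i) t _ hi H
  have eM : ∀ M : X.Modules, Nonempty ((Scheme.Modules.pullback p').obj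
      ((Scheme.Modules.pullback (pullback.fst f (j i))).obj M) ≅ (Scheme.Modules.pullback p).obj M) := fun M =>
    ⟨(Scheme.Modules.pullbackComp p' (pullback.fst f (j i))).app M ≪≫ (Scheme.Modules.pullbackCongr hp').app M⟩
  obtain ⟨eL⟩ := eM L
  obtain ⟨eF⟩ := eM F
  let : Y.Over (Spec (CommRingCat.of K)) := ⟨q⟩
  exact Set.mem_iUnion.2 ⟨i, hPS i K t' Y p' q H' G (eF.hom ≫ π) (epi_comp _ _) hG hp Q
    (Twist.isHilbPoly_iso eL.symm (Iso.refl G) hQ) h1 h2⟩

variable [IsProper f]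

/-- `Z` over an open part of the base. -/
theorem mem_Z_open_iff (hL : PicF.IsInvertible L) {U : Scheme.{u}} (j : U ⟶ S) [IsOpenImmersion j]
    (B : Polynomial ℚ → Prop) (y : U) :
    y ∈ Z (pullback.snd f j) ((Scheme.Modules.pullback (pullback.fst f j)).obj L)
      ((Scheme.Modules.pullback (pullback.fst f j)).obj F) B ↔ j y ∈ Z f L F B := by
  constructor
  · rintro ⟨K, _, t, pt, hpt, hq⟩
    rw [← hpt, ← Scheme.Hom.comp_apply]
    have H := (IsPullback.of_hasPullback (pullback.snd f j) t).paste_horiz (IsPullback.of_hasPullback f j)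
    refine mem_Z_of_isPullback f hL F H (hq.iso ?_ ?_) pt
    · exact (Scheme.Modules.pullbackComp _ _).app L
    · exact (Scheme.Modules.pullbackComp _ _).app F
  · rintro ⟨K, _, t, pt, hpt, hq⟩
    obtain ⟨t', p', ht', hp', H'⟩ := exists_square_open f j t pt ⟨y, hpt.symm⟩ (IsPullback.of_hasPullback f t)
    have h1 : t' pt = y := by
      apply j.isOpenEmbedding.injective
      rw [← hpt, ← ht']
      rfl
    rw [← h1]
    have hL' : PicF.IsInvertible ((Scheme.Modules.pullback (pullback.fst f j)).obj L) :=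
      Groth.Agent.Fdesc.LocGen.isInvertible_pullback _ hL
    refine mem_Z_of_isPullback (pullback.snd f j) hL' _ H' (hq.iso ?_ ?_) pt
    · exact ((Scheme.Modules.pullbackComp _ _).app L ≪≫ (Scheme.Modules.pullbackCongr hp').app L).symm
    · exact ((Scheme.Modules.pullbackComp _ _).app F ≪≫ (Scheme.Modules.pullbackCongr hp').app F).symm

/-- Closedness of `Z` is local on the base. -/
theorem isClosed_Z_of_cover (hL : PicF.IsInvertible L) (B : Polynomial ℚ → Prop)
    (h : ∀ s : S, ∃ (U : Scheme.{u}) (j : U ⟶ S) (_ : IsOpenImmersion j), s ∈ Set.range j ∧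
      IsClosed (Z (pullback.snd f j) ((Scheme.Modules.pullback (pullback.fst f j)).obj L)
      ((Scheme.Modules.pullback (pullback.fst f j)).obj F) B)) : IsClosed (Z f L F B) := by
  rw [← isOpen_compl_iff, isOpen_iff_mem_nhds]
  intro s hs
  obtain ⟨U, j, hj, ⟨y, rfl⟩, hU⟩ := h s
  rw [mem_nhds_iff]
  refine ⟨j '' (Z (pullback.snd f j) ((Scheme.Modules.pullback (pullback.fst f j)).obj L)
      ((Scheme.Modules.pullback (pullback.fst f j)).obj F) B)ᶜ, ?_, ?_, ⟨y, ?_, rfl⟩⟩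
  · rintro _ ⟨z, hz, rfl⟩ h1
    exact hz ((mem_Z_open_iff f F hL j B z).2 h1)
  · exact j.isOpenEmbedding.isOpenMap _ hU.isOpen_compl
  · exact fun h1 => hs ((mem_Z_open_iff f F hL j B y).1 h1)

end K846.Localize
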