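import Groth.Agent.ShStab.K847.GLTwist
import Groth.Agent.ShStab.K846.HilbPush
import Groth.Agent.ShStab.K846.Localize
import Groth.Agent.ShStab.K846.QClosed
import Groth.Agent.Ega2.VeryAmpleAmple
import Groth.Agent.Ega2.AmpleGlobGen
import Groth.Agent.Ega2.H287.FinGenFree

/-!
# Grothendieck's lemma for the fibres of a projective family over an affine Noetherian base
-/

set_option autoImplicit false
universe u
open CategoryTheory CategoryTheory.Limits AlgebraicGeometry StabCat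

namespace K846.GLFam

open Groth.Agent Groth.Agent.Fga.QTDefs Groth.Agent.Fga.QT4b Groth.Agent.Fga.QT6a Groth.Agent.Fga.PicMon
  Groth.Agent.Fga.QA1 Groth.Agent.Fga.QT8 K277.ChiHilb K277.FibChi Groth.Agent.CycB.ClosedDev
  K277.GlobRep K846.FieldPt K846.OpenMain K846.Localize K846.HilbChi K846.HilbPush K847.Pn K847.GL

/-- Pull back of free modules. -/
theorem nonempty_pullFree {Z X : Scheme.{u}} (h : Z ⟶ X) (b : ℕ) :
    Nonempty ((Scheme.Modules.pullback h).obj (FlatMod.freeMod X b) ≅ FlatMod.freeMod Z b) := by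
  obtain ⟨e⟩ := Ega3B.PullTensor.nonempty_pullUnitIso h
  have : PreservesColimitsOfShape (Discrete (Fin b)) (Scheme.Modules.pullback h) :=
    (Scheme.Modules.pullbackPushforwardAdjunction h).leftAdjoint_preservesColimits.preservesColimitsOfShape
  exact ⟨PreservesCoproduct.iso (Scheme.Modules.pullback h) _ ≪≫ Sigma.mapIso fun _ => e⟩

/-- Adjoints of epimorphisms, for closed immersions. -/
theorem epi_homEquiv {Z X : Scheme.{u}} (i : Z ⟶ X) [IsClosedImmersion i] {W : X.Modules} {G : Z.Modules}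
    (ψ : (Scheme.Modules.pullback i).obj W ⟶ G) [Epi ψ] :
    Epi ((Scheme.Modules.pullbackPushforwardAdjunction i).homEquiv W G ψ) := by
  rw [Adjunction.homEquiv_unit]
  have h3 : Epi ((Scheme.Modules.pullbackPushforwardAdjunction i).unit.app W) := epi_unit i W
  have h4 : Epi ((Scheme.Modules.pushforward i).map ψ) := (PerfC.ClosedPush.preservesEpi i).preserves ψ
  exact epi_comp _ _

variable {n : ℕ} {X S : Scheme.{u}} {f : X ⟶ S} {g₀ : X ⟶ PZ n} {L F : X.Modules}

/-- `O(a) ⊗ O(b) = O(a + b)` on `P^n_ℤ`. -/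
theorem mc_OZ (a b : ℤ) : mc (Twist.twistProjSpace n (ULift.{u} ℤ) a) * mc (Twist.twistProjSpace n (ULift.{u} ℤ) b) =
    mc (Twist.twistProjSpace n (ULift.{u} ℤ) (a + b)) := by
  rw [← mc_tensor]
  exact mc_eq (Sga67.SerreVB.nonempty_twist_mul n (ULift.{u} ℤ) a b).some

theorem mc_gO_mul {Y : Scheme.{u}} (g : Y ⟶ PZ n) (a b : ℤ) :
    mc ((Scheme.Modules.pullback g).obj (Twist.twistProjSpace n (ULift.{u} ℤ) a)) *
      mc ((Scheme.Modules.pullback g).obj (Twist.twistProjSpace n (ULift.{u} ℤ) b)) =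
    mc ((Scheme.Modules.pullback g).obj (Twist.twistProjSpace n (ULift.{u} ℤ) (a + b))) := by
  rw [← mc_tensor]
  have h1 := pbT g (Twist.twistProjSpace n (ULift.{u} ℤ) a)
    (FormalB.TwistGen.isInvertible_twistProjSpace n (ULift.{u} ℤ) b)
  rw [← mc_eq h1]
  exact mc_eq ((Scheme.Modules.pullback g).mapIso (Sga67.SerreVB.nonempty_twist_mul n (ULift.{u} ℤ) a b).some)

theorem mc_gO_zero {Y : Scheme.{u}} (g : Y ⟶ PZ n) :
    mc ((Scheme.Modules.pullback g).obj (Twist.twistProjSpace n (ULift.{u} ℤ) 0)) = 1 := by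
  obtain ⟨e⟩ := Ega3B.PullTensor.nonempty_pullUnitIso g
  rw [← mc_one]
  exact mc_eq ((Scheme.Modules.pullback g).mapIso (Sga67.SerreVB.nonempty_twist_zero n (ULift.{u} ℤ)).some ≪≫ e)

theorem mc_gO_pow {Y : Scheme.{u}} (g : Y ⟶ PZ n) (m : ℕ) :
    mc ((Scheme.Modules.pullback g).obj (Twist.twistProjSpace n (ULift.{u} ℤ) 1)) ^ m =
    mc ((Scheme.Modules.pullback g).obj (Twist.twistProjSpace n (ULift.{u} ℤ) (m : ℤ))) := by
  induction m with
  | zero => rw [pow_zero, Nat.cast_zero, mc_gO_zero]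
  | succ m ih => rw [pow_succ, ih, mc_gO_mul]; push_cast; rfl

section Ample

variable [IsClosedImmersion (toPS g₀ f)]

include f in
theorem isAmple [IsAffine S] [IsProper f]
    (e : L ≅ (Scheme.Modules.pullback g₀).obj (Twist.twistProjSpace n (ULift.{u} ℤ) 1)) : CohB1.IsAmple L := by
  refine Ega2.VeryAmpleAmple.isAmple_of_isRelVeryAmplePn f L ⟨n, toPS g₀ f, inferInstance, toPS_toBase f g₀, ⟨?_⟩⟩
  exact e ≪≫ (Scheme.Modules.pullbackCongr (toPS_prZ f g₀)).symm.app _ ≪≫
    ((Scheme.Modules.pullbackComp (toPS g₀ f) (prZ n S)).app _).symm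

/-- A coherent module is a quotient of `O(-ρ)^b`. -/
theorem exists_epi [IsAffine S] [IsLocallyNoetherian S] [IsProper f]
    (e : L ≅ (Scheme.Modules.pullback g₀).obj (Twist.twistProjSpace n (ULift.{u} ℤ) 1)) (hF : Coh.IsCoh F)
    (h0 : ¬ IsZero F) : ∃ (b : ℕ) (_ : 1 ≤ b) (ρ : ℤ) (φ : CohB1.tensorMod (FlatMod.freeMod X b)
      ((Scheme.Modules.pullback g₀).obj (Twist.twistProjSpace n (ULift.{u} ℤ) (-ρ))) ⟶ F), Epi φ := by
  have hL := isAmple (f := f) e
  have : IsLocallyNoetherian X := LocallyOfFiniteType.isLocallyNoetherian f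
  have : CompactSpace X := hL.2.1
  obtain ⟨m, hm⟩ := Ega2.AmpleGlobGen.exists_globGen hL hF
  have hc : Coh.IsCoh (CohB1.tensorMod F (CohB1.tensorPow L m)) :=
    Fga.TwistCoh.isCoh_tensor hF (Fdesc.LocGen.isInvertible_tensorPow hL.1 m)
  obtain ⟨b, φ, hφ⟩ := Ega2.H287.FinGenFree.exists_epi_freeMod hc (hm m le_rfl)
  let N := (Scheme.Modules.pullback g₀).obj (Twist.twistProjSpace n (ULift.{u} ℤ) (-(m : ℤ)))
  have hepi : Epi ((DCoh.tensorRightMod N).map φ) := by
    have : (DCoh.tensorRightMod N).PreservesEpimorphisms := inferInstance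
    exact this.preserves φ
  obtain ⟨e₂⟩ : Nonempty (CohB1.tensorMod (CohB1.tensorMod F (CohB1.tensorPow L m)) N ≅ F) := by
    rw [← mc_eq_iff, mc_tensor, mc_tensor, mc_tensorPow, mc_eq e, mc_gO_pow, mul_assoc, mc_gO_mul, add_neg_cancel,
      mc_gO_zero, mul_one]
  have he₂ : Epi (show (DCoh.tensorRightMod N).obj (CohB1.tensorMod F (CohB1.tensorPow L m)) ⟶ F from e₂.hom) :=
    inferInstanceAs (Epi e₂.hom)
  have hepi' : Epi ((DCoh.tensorRightMod N).map φ ≫
    (show (DCoh.tensorRightMod N).obj (CohB1.tensorMod F (CohB1.tensorPow L m)) ⟶ F from e₂.hom)) := epi_comp _ _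
  refine ⟨b, ?_, m, (DCoh.tensorRightMod N).map φ ≫
    (show (DCoh.tensorRightMod N).obj (CohB1.tensorMod F (CohB1.tensorPow L m)) ⟶ F from e₂.hom), hepi'⟩
  rw [Nat.one_le_iff_ne_zero]
  rintro rfl
  apply h0
  have h1 : IsZero (FlatMod.freeMod X 0) :=
    (IsZero.iff_id_eq_zero _).2 (Limits.Sigma.hom_ext _ _ fun i => i.elim0)
  exact IsZero.of_epi ((DCoh.tensorRightMod N).map φ ≫
    (show (DCoh.tensorRightMod N).obj (CohB1.tensorMod F (CohB1.tensorPow L m)) ⟶ F from e₂.hom))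
    ((DCoh.tensorRightMod N).map_isZero h1)

/-- The closed immersions of the fibres. -/
theorem isClosedImmersion_toPA_of_isPullback {K : Type u} [Field K] {t : Spec (CommRingCat.of K) ⟶ S}
    {Y : Scheme.{u}} {p : Y ⟶ X} {q : Y ⟶ Spec (CommRingCat.of K)} (H : IsPullback p q f t) :
    IsClosedImmersion (toPA (p ≫ g₀) q) := by
  have h1 : IsClosedImmersion (toPA (gT f g₀ (Over.mk t)) (PicF.XTproj f (Over.mk t))) :=
    isClosedImmersion_toPA f g₀ (B := K) t
  have h2 : toPS (p ≫ g₀) q = H.isoPullback.hom ≫ toPS (gT f g₀ (Over.mk t)) (PicF.XTproj f (Over.mk t)) := by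
    apply PS_hom_ext
    · refine (toPS_prZ q (p ≫ g₀)).trans (Eq.trans ?_ ((Category.assoc _ _ _).trans (congrArg
        (H.isoPullback.hom ≫ ·) (toPS_prZ (PicF.XTproj f (Over.mk t)) (gT f g₀ (Over.mk t))))).symm)
      exact (H.isoPullback_hom_fst_assoc g₀).symm
    · refine (toPS_toBase q (p ≫ g₀)).trans (Eq.trans ?_ ((Category.assoc _ _ _).trans (congrArg
        (H.isoPullback.hom ≫ ·) (toPS_toBase (PicF.XTproj f (Over.mk t)) (gT f g₀ (Over.mk t))))).symm)
      exact H.isoPullback_hom_snd.symm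
  change IsClosedImmersion (toPS (p ≫ g₀) q)
  rw [h2]
  infer_instance

/-- **Grothendieck's lemma for the fibres of a projective family over an affine Noetherian base.** -/
theorem gls [IsAffine S] [IsLocallyNoetherian S] [IsProper f]
    (e : L ≅ (Scheme.Modules.pullback g₀).obj (Twist.twistProjSpace n (ULift.{u} ℤ) 1)) (hF : Coh.IsCoh F)
    (d : ℕ) (a₀ μ₀ : ℚ) : GLS f L F d a₀ μ₀ := by
  by_cases h0 : IsZero F
  · refine ⟨{0}, Set.finite_singleton _, ?_⟩
    intro K _ _ t Y p q H G π hπ hG hp Q hQ _ _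
    let : Y.Over (Spec (CommRingCat.of K)) := ⟨q⟩
    have h1 : IsZero G := IsZero.of_epi π ((Scheme.Modules.pullback p).map_isZero h0)
    exact K847.HilbBasic.hilbPoly_eq_zero K h1 hQ
  · obtain ⟨b, hb, ρ, φ, hφ⟩ := exists_epi (f := f) e hF h0
    obtain ⟨𝒮, hfin, h𝒮⟩ := K847.GLTwist.twisted.{u} n b hb ρ d a₀ μ₀
    refine ⟨𝒮, hfin, ?_⟩
    intro K _ _ t Y p q H G π hπ hG hp Q hQ h1 h2
    let : Y.Over (Spec (CommRingCat.of K)) := ⟨q⟩
    let g : Y ⟶ PZ n := p ≫ g₀
    have hcl : IsClosedImmersion (toPA g (Y ↘ Spec (CommRingCat.of K))) :=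
      isClosedImmersion_toPA_of_isPullback (f := f) H
    let N := Twist.twistProjSpace n (ULift.{u} ℤ) (-ρ)
    have hN : PicF.IsInvertible N := FormalB.TwistGen.isInvertible_twistProjSpace n _ _
    have hN' : PicF.IsInvertible ((Scheme.Modules.pullback g₀).obj N) := Fdesc.LocGen.isInvertible_pullback _ hN
    have hNK : PicF.IsInvertible (Twist.twistProjSpace n K (-ρ)) := FormalB.TwistGen.isInvertible_twistProjSpace n _ _
    obtain ⟨θ⟩ : Nonempty ((Scheme.Modules.pullback (emb K g)).obj (tw (FlatMod.freeMod (CohB1.ProjSpace n K) b) (-ρ)) ≅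
        (Scheme.Modules.pullback p).obj (CohB1.tensorMod (FlatMod.freeMod X b) ((Scheme.Modules.pullback g₀).obj N))) := by
      rw [← mc_eq_iff, mc_eq (pbT (emb K g) (FlatMod.freeMod (CohB1.ProjSpace n K) b) hNK),
        mc_eq (pbT p (FlatMod.freeMod X b) hN'), mc_tensor, mc_tensor, mc_eq (nonempty_pullFree (emb K g) b).some,
        mc_eq (nonempty_pullFree p b).some, mc_eq (embTwist K g (-ρ))]
      exact congrArg _ (mc_eq ((Scheme.Modules.pullbackComp p g₀).app N)).symm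
    let ψ : (Scheme.Modules.pullback (emb K g)).obj (tw (FlatMod.freeMod (CohB1.ProjSpace n K) b) (-ρ)) ⟶ G :=
      θ.hom ≫ (Scheme.Modules.pullback p).map φ ≫ π
    have hψ : Epi ψ := by
      have : Epi ((Scheme.Modules.pullback p).map φ) := inferInstance
      exact epi_comp _ _
    let q' : tw (FlatMod.freeMod (CohB1.ProjSpace n K) b) (-ρ) ⟶ (Scheme.Modules.pushforward (emb K g)).obj G :=
      (Scheme.Modules.pullbackPushforwardAdjunction (emb K g)).homEquiv _ _ ψ
    have hq' : Epi q' := epi_homEquiv (emb K g) ψ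
    have hG' : Coh.IsCoh ((Scheme.Modules.pushforward (emb K g)).obj G) :=
      ⟨CohqA.AffPush.isQCoh_push (emb K g) G hG.1, CohqA.AffPush.isFT_push (emb K g) G hG.1 hG.2⟩
    have eL : (Scheme.Modules.pullback p).obj L ≅
        (Scheme.Modules.pullback g).obj (Twist.twistProjSpace n (ULift.{u} ℤ) 1) :=
      (Scheme.Modules.pullback p).mapIso e ≪≫ (Scheme.Modules.pullbackComp p g₀).app _
    exact h𝒮 K _ q' hG' hq' (ClPush.isPure_push (emb K g) hp) Q (hp_push eL hG hQ) h1 fun _ => h2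

end Ample

end K846.GLFam
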