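import Groth.Agent.CycB.PushStalk
import Groth.Agent.CycB.ClosedDev
import Groth.Agent.Fdesc.StalkExt
import Groth.Agent.Ega1.ClosedUnit
import Groth.Agent.Sga67.FlatPre
import Groth.Agent.Ega1.QcqsPush
import Groth.Agent.Sga67.CohBasic
import Groth.Agent.ShStab.K846.FibSub

/-!
# Extension of submodules from the generic fibre

`isIso_counit`: `i^* i_* G ≅ G` for a flat topological immersion `i` with surjective maps of local rings.
`ext i F A` for a subobject `A` of `i^* F`: the kernel of `F ⟶ i_* (i^* F / A)`; its restriction is `A`.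
-/

set_option autoImplicit false
universe u
open CategoryTheory CategoryTheory.Limits AlgebraicGeometry

namespace K846.GenFib

open Groth.Agent Groth.Agent.CycB.StalkExact Groth.Agent.CycB.PushStalk Groth.Agent.Fdesc.PullbackStalk

section Counit

variable {X Z : Scheme.{u}} (i : Z ⟶ X)

theorem pushStalk_unit (F : X.Modules) (z : Z) (t : F.presheaf.stalk (i z)) :
    pushStalk i ((Scheme.Modules.pullback i).obj F) z
      (stalkLin ((Scheme.Modules.pullbackPushforwardAdjunction i).unit.app F) (i z) t) =
    canAdd i F z t := by
  obtain ⟨V, hV, s, rfl⟩ := TopCat.Presheaf.exists_germ_eq F.presheaf t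
  refine Eq.trans ?_ (canAdd_germ i F z V hV s).symm
  refine (congrArg (pushStalk i ((Scheme.Modules.pullback i).obj F) z)
    (stalkLin_germ ((Scheme.Modules.pullbackPushforwardAdjunction i).unit.app F) (i z) hV s)).trans ?_
  exact pushStalk_germ i _ z V hV _

theorem isIso_counit [Flat i] (hi : Topology.IsInducing i) (hs : ∀ z, Function.Surjective (i.stalkMap z))
    (G : Z.Modules) : IsIso ((Scheme.Modules.pullbackPushforwardAdjunction i).counit.app G) := by
  refine CycB.ClosedDev.isIso_of_stalkFun _ fun z => ?_
  rw [ConcreteCategory.isIso_iff_bijective]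
  change Function.Bijective (stalkLin ((Scheme.Modules.pullbackPushforwardAdjunction i).counit.app G) z)
  have key : ∀ t, stalkLin ((Scheme.Modules.pullbackPushforwardAdjunction i).counit.app G) z
      (canAdd i ((Scheme.Modules.pushforward i).obj G) z t) = pushStalk i G z t := by
    intro t
    let ε : (Scheme.Modules.pullback i).obj ((Scheme.Modules.pushforward i).obj G) ⟶ G :=
      (Scheme.Modules.pullbackPushforwardAdjunction i).counit.app G
    let u : (Scheme.Modules.pushforward i).obj G ⟶
        (Scheme.Modules.pushforward i).obj ((Scheme.Modules.pullback i).obj ((Scheme.Modules.pushforward i).obj G)) :=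
      (Scheme.Modules.pullbackPushforwardAdjunction i).unit.app ((Scheme.Modules.pushforward i).obj G)
    have h1 : u ≫ (Scheme.Modules.pushforward i).map ε = 𝟙 _ :=
      (Scheme.Modules.pullbackPushforwardAdjunction i).right_triangle_components G
    have h3 := pushStalk_natural i ε z (stalkLin u (i z) t)
    have h4 : stalkLin ((Scheme.Modules.pushforward i).map ε) (i z) (stalkLin u (i z) t) = t := by
      rw [← LinearMap.comp_apply, ← stalkLin_comp, h1, stalkLin_id]
      rfl
    rw [h4] at h3
    have h5 := pushStalk_unit i ((Scheme.Modules.pushforward i).obj G) z t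
    rw [← h5]
    exact h3.symm
  have hp := pushStalk_bijective i hi G z
  have hc1 : Function.Injective (canAdd i ((Scheme.Modules.pushforward i).obj G) z) :=
    Fdesc.StalkExt.canAdd_injective i _ z
  have hc2 : Function.Surjective (canAdd i ((Scheme.Modules.pushforward i).obj G) z) :=
    Ega1.ClosedUnit.canAdd_surjective i _ z (hs z)
  constructor
  · intro a b hab
    obtain ⟨a, rfl⟩ := hc2 a
    obtain ⟨b, rfl⟩ := hc2 b
    rw [key, key] at hab
    rw [hp.1 hab]
  · intro b
    obtain ⟨a, rfl⟩ := hp.2 b
    exact ⟨_, key a⟩

end Counit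

section Ext

variable {X Z : Scheme.{u}} (i : Z ⟶ X) (F : X.Modules)

/-- The map whose kernel is the extension of a subobject of the pull back. -/
noncomputable def extMap (A : Subobject ((Scheme.Modules.pullback i).obj F)) :
    F ⟶ (Scheme.Modules.pushforward i).obj (cokernel A.arrow) :=
  (Scheme.Modules.pullbackPushforwardAdjunction i).homEquiv F (cokernel A.arrow) (cokernel.π A.arrow)

/-- The extension of a subobject of the pull back. -/
noncomputable def ext (A : Subobject ((Scheme.Modules.pullback i).obj F)) : Subobject F :=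
  kernelSubobject (extMap i F A)

theorem extMap_comp {A B : Subobject ((Scheme.Modules.pullback i).obj F)} (h : A ≤ B) :
    ∃ c : cokernel A.arrow ⟶ cokernel B.arrow,
      extMap i F B = extMap i F A ≫ (Scheme.Modules.pushforward i).map c := by
  let c : cokernel A.arrow ⟶ cokernel B.arrow := cokernel.desc A.arrow (cokernel.π B.arrow) (by
    rw [← Subobject.ofLE_arrow h, Category.assoc, cokernel.condition, comp_zero])
  refine ⟨c, ?_⟩
  unfold extMap
  rw [← Adjunction.homEquiv_naturality_right]
  congr 1
  exact (cokernel.π_desc _ _ _).symm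

theorem kernelSubobject_congr {C : Type*} [Category C] [Abelian C] {A B : C} {f g : A ⟶ B} (h : f = g) :
    kernelSubobject f = kernelSubobject g := by
  subst h
  rfl

theorem ext_mono {A B : Subobject ((Scheme.Modules.pullback i).obj F)} (h : A ≤ B) : ext i F A ≤ ext i F B := by
  obtain ⟨c, hc⟩ := extMap_comp i F h
  exact (kernelSubobject_comp_le _ _).trans_eq (kernelSubobject_congr hc).symm

theorem kernelSubobject_cokernel {C : Type*} [Category C] [Abelian C] {E : C} (A : Subobject E) :
    kernelSubobject (cokernel.π A.arrow) = A := by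
  have h := (ShortComplex.exact_iff_image_eq_kernel _).1 (ShortComplex.exact_cokernel A.arrow)
  change imageSubobject A.arrow = kernelSubobject (cokernel.π A.arrow) at h
  rw [← h, imageSubobject_mono, Subobject.mk_arrow]

theorem ext_top : ext i F ⊤ = ⊤ := by
  have h0 : IsZero (cokernel (⊤ : Subobject ((Scheme.Modules.pullback i).obj F)).arrow) :=
    isZero_cokernel_of_epi _
  have h1 : extMap i F ⊤ = 0 := ((Scheme.Modules.pushforward i).map_isZero h0).eq_of_tgt _ _
  exact (kernelSubobject_congr h1).trans kernelSubobject_zero

/-- The restriction of the extension. -/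
theorem im_ext [Flat i] (hc : ∀ G, IsIso ((Scheme.Modules.pullbackPushforwardAdjunction i).counit.app G))
    (A : Subobject ((Scheme.Modules.pullback i).obj F)) :
    FibSub.im (Scheme.Modules.pullback i) (ext i F A) = A := by
  have hfl := Sga67.FlatPre.preservesFiniteLimits_pullback i
  have hcol : PreservesFiniteColimits (Scheme.Modules.pullback i) :=
    ⟨fun _ _ _ => (Scheme.Modules.pullbackPushforwardAdjunction i).leftAdjoint_preservesColimits.preservesColimitsOfShape⟩
  have hci := hc (cokernel A.arrow)
  have h1 : (Scheme.Modules.pullback i).map (extMap i F A) ≫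
      (Scheme.Modules.pullbackPushforwardAdjunction i).counit.app (cokernel A.arrow) = cokernel.π A.arrow := by
    exact ((Scheme.Modules.pullbackPushforwardAdjunction i).homEquiv_counit (X := F) (Y := cokernel A.arrow)
      (g := extMap i F A)).symm.trans (Equiv.symm_apply_apply _ _)
  let T : ShortComplex X.Modules := ShortComplex.mk (kernelSubobject (extMap i F A)).arrow (extMap i F A)
    (kernelSubobject_arrow_comp _)
  have hT : T.Exact := by
    rw [ShortComplex.exact_iff_image_eq_kernel]
    change imageSubobject (kernelSubobject (extMap i F A)).arrow = kernelSubobject (extMap i F A)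
    rw [imageSubobject_mono, Subobject.mk_arrow]
  have hT' := hT.map (Scheme.Modules.pullback i)
  have h2 := (ShortComplex.exact_iff_image_eq_kernel _).1 hT'
  change FibSub.im (Scheme.Modules.pullback i) (ext i F A) = kernelSubobject ((Scheme.Modules.pullback i).map
    (extMap i F A)) at h2
  rw [h2, ← kernelSubobject_comp_mono ((Scheme.Modules.pullback i).map (extMap i F A))
    ((Scheme.Modules.pullbackPushforwardAdjunction i).counit.app (cokernel A.arrow)), kernelSubobject_congr h1,
    kernelSubobject_cokernel]

end Ext

section Chain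

variable {X Z : Scheme.{u}} (i : Z ⟶ X) (F : X.Modules)

open Classical in
/-- The extension of a subobject of the pull back, `0` for the zero subobject. -/
noncomputable def ext' (A : Subobject ((Scheme.Modules.pullback i).obj F)) : Subobject F :=
  if A = ⊥ then ⊥ else ext i F A

theorem ext'_bot : ext' i F ⊥ = ⊥ := if_pos rfl

theorem ext'_of_ne {A : Subobject ((Scheme.Modules.pullback i).obj F)} (h : A ≠ ⊥) : ext' i F A = ext i F A :=
  if_neg h

theorem ext'_top (h0 : ¬ IsZero ((Scheme.Modules.pullback i).obj F)) : ext' i F ⊤ = ⊤ := by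
  rw [ext'_of_ne, ext_top]
  intro h
  apply h0
  have h1 : (⊤ : Subobject ((Scheme.Modules.pullback i).obj F)).arrow = 0 := by
    rw [h, Subobject.bot_arrow]
  have h2 : IsIso (⊤ : Subobject ((Scheme.Modules.pullback i).obj F)).arrow := inferInstance
  rw [IsZero.iff_id_eq_zero, ← IsIso.inv_hom_id (⊤ : Subobject ((Scheme.Modules.pullback i).obj F)).arrow]
  rw [show inv (⊤ : Subobject ((Scheme.Modules.pullback i).obj F)).arrow ≫
    (⊤ : Subobject ((Scheme.Modules.pullback i).obj F)).arrow = inv (⊤ : Subobject
      ((Scheme.Modules.pullback i).obj F)).arrow ≫ 0 from congrArg _ h1, comp_zero]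

variable [Flat i] (hc : ∀ G, IsIso ((Scheme.Modules.pullbackPushforwardAdjunction i).counit.app G))

include hc

theorem im_ext' (A : Subobject ((Scheme.Modules.pullback i).obj F)) :
    FibSub.im (Scheme.Modules.pullback i) (ext' i F A) = A := by
  by_cases h : A = ⊥
  · rw [h, ext'_bot]
    exact FibSub.im_bot _
  · rw [ext'_of_ne i F h]
    exact im_ext i F hc A

theorem ext'_strictMono : StrictMono (ext' i F) := by
  intro A B h
  have hB : B ≠ ⊥ := ne_bot_of_gt h
  have hle : ext' i F A ≤ ext' i F B := by
    by_cases hA : A = ⊥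
    · rw [hA, ext'_bot]
      exact bot_le
    · rw [ext'_of_ne i F hA, ext'_of_ne i F hB]
      exact ext_mono i F h.le
  refine lt_of_le_of_ne hle fun he => h.ne ?_
  rw [← im_ext' i F hc A, he, im_ext' i F hc B]

/-- The extension of a chain. -/
noncomputable def chain (s : LTSeries (Subobject ((Scheme.Modules.pullback i).obj F))) : LTSeries (Subobject F) :=
  s.map (ext' i F) (ext'_strictMono i F hc)

theorem im_chain (s : LTSeries (Subobject ((Scheme.Modules.pullback i).obj F)))
    (j : Fin ((chain i F hc s).length + 1)) :
    FibSub.im (Scheme.Modules.pullback i) (chain i F hc s j) = s j := im_ext' i F hc (s j)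

omit hc [Flat i] in
theorem isCoh_ext' [IsLocallyNoetherian X] [QuasiCompact i] [QuasiSeparated i] (hF : Coh.IsCoh F)
    {A : Subobject ((Scheme.Modules.pullback i).obj F)} (hA : Coh.IsQCoh (cokernel A.arrow)) :
    Coh.IsCoh (ext' i F A : X.Modules) := by
  by_cases h : A = ⊥
  · rw [h, ext'_bot]
    have h1 : IsZero ((⊥ : Subobject F) : X.Modules) := (isZero_zero _).of_iso Subobject.botCoeIsoZero
    have hz : Coh.IsCoh (kernel (𝟙 F)) := Sga67.CohBasic.isCoh_kernel (𝟙 F) hF hF.1
    have h2 : IsZero (kernel (𝟙 F)) := isZero_kernel_of_mono _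
    exact Sga67.CohBasic.isCoh_of_iso (h2.iso h1) hz
  · rw [ext'_of_ne i F h]
    have h1 : Coh.IsQCoh ((Scheme.Modules.pushforward i).obj (cokernel A.arrow)) :=
      Ega1.QcqsPush.isQCoh_pushforward i _ hA
    have h2 := Sga67.CohBasic.isCoh_kernel (extMap i F A) hF h1
    exact Sga67.CohBasic.isCoh_of_iso (kernelSubobjectIso (extMap i F A)).symm h2

end Chain

end K846.GenFib
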