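import Groth.Agent.ShStab.K846.OpenPt
import Groth.Agent.ShStab.K846.GenFib
import Groth.Agent.ShStab.K849.InstHN
import Groth.Agent.S4799
import Groth.Agent.Pic13.H504.KernelFamily
import Groth.Agent.Flat2E.GenericFibre
import Groth.Agent.CycB.FiberStalk
import Groth.Agent.Fdesc.FlatBC

/-!
# Tools for generic Harder-Narasimhan filtrations

`hilb_const`: Hilbert polynomials of the fibres over an open subset over which the sheaf is flat.
`exists_flat`: a finite family of coherent sheaves is flat over a nonempty open subset.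
`mono_fiber`: subobjects with flat quotient remain subobjects on the fibres.
`isIso_counit_generic`: the generic fibre.
-/

set_option autoImplicit false
universe u
open CategoryTheory CategoryTheory.Limits AlgebraicGeometry StabCat Polynomial

namespace K846.GenHilb

open Groth.Agent K846.FieldPt K846.OpenMain K846.Localize K846.OpenFib

/-- `ℓ`-semistability is invariant under isomorphism. -/
theorem isEllSemistable_iso {k : Type u} [Field k] {X : Scheme.{u}} [X.Over (Spec (CommRingCat.of k))]
    {L E E' : X.Modules} {d ℓ : ℕ} (e : E ≅ E') (h : ShStab.IsEllSemistable k X L E d ℓ) :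
    ShStab.IsEllSemistable k X L E' d ℓ := by
  obtain ⟨h1, h2, h3, h4⟩ := h
  refine ⟨Groth.Agent.Sga67.CohBasic.isCoh_of_iso e h1, fun h => h2 (h.of_iso e),
    fun F ι hι hF h0 => ?_, fun F ι hι hF P Q hP hQ h0 h5 => ?_⟩
  · have : Mono (ι ≫ e.inv) := mono_comp _ _
    exact h3 F (ι ≫ e.inv) this hF h0
  · have : Mono (ι ≫ e.inv) := mono_comp _ _
    exact h4 F (ι ≫ e.inv) this hF P Q hP (Twist.isHilbPoly_iso (Iso.refl L) e.symm hQ) h0 h5

/-- The facts on Hilbert polynomials in the form of `K849`. -/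
theorem inst {k : Type u} [Field k] {X : Scheme.{u}} [X.Over (Spec (CommRingCat.of k))]
    {L : X.Modules} (H : K846.Gies.HilbFacts k X L) : K849.Inst.HilbFacts k X L (K846.Gies.hp k L) where
  spec _ hF := K846.Gies.isHilbPoly_hp H hF
  pos F hF h0 := H.pos F _ hF h0 (K846.Gies.isHilbPoly_hp H hF)
  add S hS h₁ h₂ h₃ := K846.Gies.hp_add H S hS h₁ h₂ h₃
  dim _ hF h0 := K846.Gies.natDegree_eq H hF h0

section Const

variable {X S : Scheme.{u}} (f : X ⟶ S) [IsProper f] [IsLocallyNoetherian S] {L G : X.Modules}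

/-- Constancy of the Hilbert polynomials of field-valued fibres over an open subset over which `G` is flat. -/
theorem hilb_const_pt (hL : PicF.IsInvertible L) (hG : Coh.IsCoh G) (U : S.Opens)
    (hfl : ∀ x : X, f.base x ∈ U → FlatMod.IsFlatOverAt f G x) {P : ℚ[X]}
    {K : Type u} [Field K] (σ : Spec (CommRingCat.of K) ⟶ S) (pt : Spec (CommRingCat.of K))
    {Y' : Scheme.{u}} [Y'.Over (Spec (CommRingCat.of K))] (p : Y' ⟶ X)
    (H : IsPullback p (Y' ↘ Spec (CommRingCat.of K)) f σ)
    {K₂ : Type u} [Field K₂] (σ₂ : Spec (CommRingCat.of K₂) ⟶ S) (pt₂ : Spec (CommRingCat.of K₂))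
    {Y₂ : Scheme.{u}} [Y₂.Over (Spec (CommRingCat.of K₂))] (p₂ : Y₂ ⟶ X)
    (H₂ : IsPullback p₂ (Y₂ ↘ Spec (CommRingCat.of K₂)) f σ₂) (ha : σ pt ∈ U) (hb : σ₂ pt₂ ∈ U)
    (hs : σ pt ⤳ σ₂ pt₂)
    (hP : ShStab.IsHilbPoly K Y' ((Scheme.Modules.pullback p).obj L) ((Scheme.Modules.pullback p).obj G) P) :
    ShStab.IsHilbPoly K₂ Y₂ ((Scheme.Modules.pullback p₂).obj L) ((Scheme.Modules.pullback p₂).obj G) P := by
  have : IsLocallyNoetherian X := LocallyOfFiniteType.isLocallyNoetherian f
  have : IsLocallyNoetherian (pullback f U.ι) :=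
    LocallyOfFiniteType.isLocallyNoetherian (pullback.fst f U.ι)
  obtain ⟨ta, qa, hta, hqa, Ha⟩ := exists_square_open f U.ι σ pt (by simpa using ha) H
  obtain ⟨tb, qb, htb, hqb, Hb⟩ := exists_square_open f U.ι σ₂ pt₂ (by simpa using hb) H₂
  have hLU : PicF.IsInvertible ((Scheme.Modules.pullback (pullback.fst f U.ι)).obj L) :=
    Groth.Agent.Fdesc.LocGen.isInvertible_pullback _ hL
  have hGU : Coh.IsCoh ((Scheme.Modules.pullback (pullback.fst f U.ι)).obj G) :=
    Groth.Agent.FormalA.PullbackQC.isCoh_pullback _ _ hG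
  have hflU : FlatMod.IsFlatOver (pullback.snd f U.ι) ((Scheme.Modules.pullback (pullback.fst f U.ι)).obj G) := by
    intro z
    refine Fdesc.FlatBC.isFlatOverAt_pullback (IsPullback.of_hasPullback f U.ι) G z (hfl _ ?_)
    have h1 : f.base ((pullback.fst f U.ι).base z) = U.ι ((pullback.snd f U.ι) z) := by
      rw [← Scheme.Hom.comp_apply, ← Scheme.Hom.comp_apply, pullback.condition]
    rw [h1]
    exact ((pullback.snd f U.ι) z).2
  have hsp : ta pt ⤳ tb pt₂ := by
    rw [← U.ι.isOpenEmbedding.isInducing.specializes_iff, ← Scheme.Hom.comp_apply, ← Scheme.Hom.comp_apply,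
      hta, htb]
    exact hs
  have key := Twist.isHilbPoly_of_specializes (pullback.snd f U.ι) ta pt qa Ha tb pt₂ qb Hb hsp hLU hGU hflU (P := P)
  have eM : ∀ M : X.Modules, Nonempty ((Scheme.Modules.pullback qa).obj
      ((Scheme.Modules.pullback (pullback.fst f U.ι)).obj M) ≅ (Scheme.Modules.pullback p).obj M) := fun M =>
    ⟨(Scheme.Modules.pullbackComp qa (pullback.fst f U.ι)).app M ≪≫ (Scheme.Modules.pullbackCongr hqa).app M⟩
  have eN : ∀ M : X.Modules, Nonempty ((Scheme.Modules.pullback qb).obj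
      ((Scheme.Modules.pullback (pullback.fst f U.ι)).obj M) ≅ (Scheme.Modules.pullback p₂).obj M) := fun M =>
    ⟨(Scheme.Modules.pullbackComp qb (pullback.fst f U.ι)).app M ≪≫ (Scheme.Modules.pullbackCongr hqb).app M⟩
  obtain ⟨e1⟩ := eM L
  obtain ⟨e2⟩ := eM G
  obtain ⟨e3⟩ := eN L
  obtain ⟨e4⟩ := eN G
  exact Twist.isHilbPoly_iso e3 e4 (key.1 (Twist.isHilbPoly_iso e1.symm e2.symm hP))

/-- Constancy of the Hilbert polynomials of the fibres over an open subset over which `G` is flat. -/
theorem hilb_const (hL : PicF.IsInvertible L) (hG : Coh.IsCoh G) (U : S.Opens)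
    (hfl : ∀ x : X, f.base x ∈ U → FlatMod.IsFlatOverAt f G x) {P : ℚ[X]} {a b : S} (ha : a ∈ U) (hb : b ∈ U)
    (hab : a ⤳ b)
    (hP : @ShStab.IsHilbPoly (S.residueField a) _ (f.fiber a)
      (fibOver f a) (CohIII.fiberMod f L a) (CohIII.fiberMod f G a) P) :
    @ShStab.IsHilbPoly (S.residueField b) _ (f.fiber b)
      (fibOver f b) (CohIII.fiberMod f L b) (CohIII.fiberMod f G b) P := by
  let := fibOver f a
  let := fibOver f b
  have ea : S.fromSpecResidueField a (IsLocalRing.closedPoint (S.residueField a)) = a :=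
    Scheme.fromSpecResidueField_apply a _
  have eb : S.fromSpecResidueField b (IsLocalRing.closedPoint (S.residueField b)) = b :=
    Scheme.fromSpecResidueField_apply b _
  exact hilb_const_pt f hL hG U hfl (K := S.residueField a) (S.fromSpecResidueField a)
    (IsLocalRing.closedPoint (S.residueField a)) (f.fiberι a) (isPullback_fiber f a)
    (K₂ := S.residueField b) (S.fromSpecResidueField b) (IsLocalRing.closedPoint (S.residueField b))
    (f.fiberι b) (isPullback_fiber f b) (ea.symm ▸ ha) (eb.symm ▸ hb) (by rw [ea, eb]; exact hab) hP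

end Const

/-- Generic flatness of a finite family. -/
theorem exists_flat {X S : Scheme.{u}} (f : X ⟶ S) [IsProper f] [IsIntegral S] [IsLocallyNoetherian S]
    {I : Type*} [Finite I] (G : I → X.Modules) (hG : ∀ i, Coh.IsCoh (G i)) :
    ∃ U : S.Opens, (U : Set S).Nonempty ∧ ∀ i, ∀ x : X, f.base x ∈ U → FlatMod.IsFlatOverAt f (G i) x := by
  have : IsLocallyNoetherian X := LocallyOfFiniteType.isLocallyNoetherian f
  have : Fintype I := Fintype.ofFinite I
  have h1 : ∀ i, ∃ U : S.Opens, (U : Set S).Nonempty ∧ ∀ x : X, f.base x ∈ U → FlatMod.IsFlatOverAt f (G i) x := by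
    intro i
    have : Coh.IsQCoh (G i) := (hG i).1
    exact S4799.result f (G i) (Twist.isFP_of_isCoh (hG i))
  choose U hU hfl using h1
  refine ⟨⨅ i, U i, ⟨genericPoint S, ?_⟩, fun i x hx => hfl i x ?_⟩
  · rw [TopologicalSpace.Opens.coe_iInf, Set.mem_iInter]
    intro i
    exact ((genericPoint_spec S).mem_open_set_iff (U i).isOpen).mpr (by simpa using hU i)
  · exact (iInf_le U i : (⨅ i, U i) ≤ U i) hx

/-- Subobjects with flat quotient remain subobjects on the fibres. -/
theorem mono_fiber {X S : Scheme.{u}} (f : X ⟶ S) {F : X.Modules} (A : Subobject F) (U : S.Opens)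
    (hfl : ∀ x : X, f.base x ∈ U → FlatMod.IsFlatOverAt f (cokernel A.arrow) x) (s : S) (hs : s ∈ U) :
    Mono ((Scheme.Modules.pullback (f.fiberι s)).map A.arrow) := by
  have hT : (ShortComplex.mk A.arrow (cokernel.π A.arrow) (cokernel.condition _)).ShortExact :=
    { exact := ShortComplex.exact_cokernel A.arrow }
  refine Pic13.H504.KernelFamily.mono_pullback_map (isPullback_fiber f s) _ hT fun z => hfl _ ?_
  have h1 : f.base ((f.fiberι s).base z) = s := by
    rw [← Scheme.Hom.comp_apply, (isPullback_fiber f s).w, Scheme.Hom.comp_apply]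
    exact Scheme.fromSpecResidueField_apply s _
  rw [h1]
  exact hs

section Generic

variable {X S : Scheme.{u}} (f : X ⟶ S) [IsIntegral S]

theorem flat_generic : Flat (f.fiberι (genericPoint S)) := by
  have := Flat2E.GenericFibre.flat_fromSpecResidueField_genericPoint S
  exact inferInstanceAs (Flat (pullback.fst _ _))

theorem isIso_counit_generic (G : (f.fiber (genericPoint S)).Modules) :
    IsIso ((Scheme.Modules.pullbackPushforwardAdjunction (f.fiberι (genericPoint S))).counit.app G) := by
  have := flat_generic f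
  exact GenFib.isIso_counit (f.fiberι (genericPoint S)) (f.fiberι (genericPoint S)).isEmbedding.isInducing
    (fun z => CycB.FiberStalk.stalkMap_fiberι_surjective f (genericPoint S) z) G

end Generic

end K846.GenHilb
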