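import Groth.Agent.ShStab.K846.Joint
import Groth.Agent.ShStab.K846.HomAbs

/-!
# Objects jointly embedded in a stable object, with the same reduced invariant
-/

set_option autoImplicit false

universe v u w

open CategoryTheory CategoryTheory.Limits

namespace K846.JointSt

open K846.JH

variable {C : Type u} [Category.{v} C] [Abelian C]
variable {V : Type w} [AddCommGroup V] [LinearOrder V] [IsOrderedAddMonoid V] [Module ℚ V]
  [PosSMulStrictMono ℚ V]
variable {ok : C → Prop} {P : C → V} {α : V →ₗ[ℚ] ℚ}

omit [PosSMulStrictMono ℚ V] in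
/-- Objects jointly embedded in a semistable object have smaller reduced invariant. -/
theorem le_of_jointly_mono (h : Lat.Add ok P) {E : C} (hE : ok E) (hss : SS ok P α E)
    (n : ℕ) (F : C) (hF : ok F) (p : Fin n → (F ⟶ E))
    (hp : ∀ (T : C) (t : T ⟶ F), (∀ j, t ≫ p j = 0) → t = 0) :
    α (P E) • P F ≤ α (P F) • P E := by
  have key := Joint.of_jointly_mono h (fun F => ok F ∧ α (P E) • P F ≤ α (P F) • P E)
    (fun Z hZ h0 => ⟨hZ, by rw [h.v_zero h0]; simp⟩)
    (fun e hA => ⟨h.ok_iso e hA.1, by rw [← h.v_iso e hA.1]; exact hA.2⟩)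
    (fun S hS h₁ h₂ h₃ hQ₁ hQ₃ => ⟨h₂, by
      rw [h.add S hS h₁ h₂ h₃, map_add, smul_add, add_smul]
      exact add_le_add hQ₁.2 hQ₃.2⟩) hE
    (fun F ι hι hF => ⟨hF, hss F ι hι hF⟩) n F hF p hp
  exact key.2

/-- An object jointly embedded in a stable object with the same reduced invariant contains the
stable object. -/
theorem exists_hom (h : Lat.Add ok P) {E : C} (hE : ok E) (hss : SS ok P α E) (hst : St ok P α E) :
    ∀ (n : ℕ) (F : C), ok F → ¬ IsZero F → ∀ p : Fin n → (F ⟶ E),
      (∀ (T : C) (t : T ⟶ F), (∀ j, t ≫ p j = 0) → t = 0) →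
      α (P E) • P F = α (P F) • P E → ∃ θ : E ⟶ F, Mono θ := by
  intro n
  induction n with
  | zero =>
    intro F hF hF0 p hp _
    exfalso
    apply hF0
    rw [IsZero.iff_id_eq_zero]
    exact hp F (𝟙 F) fun j => j.elim0
  | succ n ih =>
    intro F hF hF0 p hp heq
    let φ := p (Fin.last n)
    have hk : ok (kernel φ) := h.ok_kernel φ hF hE
    have hi : ok (Abelian.image φ) := h.ok_image φ hF hE
    have hpk : ∀ (T : C) (t : T ⟶ kernel φ), (∀ j : Fin n, t ≫ kernel.ι φ ≫ p j.castSucc = 0) →
        t = 0 := by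
      intro T t ht
      have : t ≫ kernel.ι φ = 0 := by
        refine hp T _ fun j => ?_
        refine Fin.lastCases ?_ (fun i => ?_) j
        · rw [Category.assoc]
          exact (congrArg (t ≫ ·) (kernel.condition φ)).trans comp_zero
        · rw [Category.assoc]
          exact ht i
      rw [← cancel_mono (kernel.ι φ), this, zero_comp]
    have h1 := le_of_jointly_mono h hE hss n (kernel φ) hk
      (fun j => kernel.ι φ ≫ p j.castSucc) hpk
    have h2 := hss _ (Abelian.image.ι φ) inferInstance hi
    have h3 := HomAbs.P_kernel_add_image h hF hE φ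
    rw [h3, map_add, smul_add, add_smul] at heq
    have h4 : α (P E) • P (kernel φ) = α (P (kernel φ)) • P E := by
      refine le_antisymm h1 ?_
      by_contra hlt
      rw [not_le] at hlt
      exact absurd heq (add_lt_add_of_lt_of_le hlt h2).ne
    have h5 : α (P E) • P (Abelian.image φ) = α (P (Abelian.image φ)) • P E := by
      rw [h4] at heq
      exact add_left_cancel heq
    by_cases hz : IsZero (kernel φ)
    · have hm : Mono φ := Preadditive.mono_of_isZero_kernel φ hz
      have hφ : IsIso φ := by
        by_contra hn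
        have h6 := hst F φ hm hF hF0 hn
        have h7 : P F = P (Abelian.image φ) := by rw [h3, h.v_zero hz, zero_add]
        rw [h7, h5] at h6
        exact h6.false
      exact ⟨inv φ, inferInstance⟩
    · obtain ⟨θ, hθ⟩ := ih (kernel φ) hk hz (fun j => kernel.ι φ ≫ p j.castSucc) hpk h4
      exact ⟨θ ≫ kernel.ι φ, inferInstance⟩

end K846.JointSt
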