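import Groth.Agent.ShStab.K846.OpenMain
import Groth.Agent.ShStab.K846.AscGen
import Groth.Prelude.Def_ega3

/-!
# The stability conditions on the fibres, in terms of quotients of field-valued fibres
-/

set_option autoImplicit false
universe u
open CategoryTheory CategoryTheory.Limits AlgebraicGeometry StabCat

namespace K846.OpenFib

open K849.PolyOrd BadPoly FieldPt OpenMain

section

variable {X S : Scheme.{u}} (f : X ⟶ S)

/-- The fibre as a scheme over the residue field. -/
noncomputable abbrev fibOver (s : S) : (f.fiber s).Over (Spec (CommRingCat.of (S.residueField s))) :=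
  ⟨f.fiberToSpecResidueField s⟩

theorem isPullback_fiber (s : S) :
    IsPullback (f.fiberι s) (f.fiberToSpecResidueField s) f (S.fromSpecResidueField s) :=
  IsPullback.of_hasPullback _ _

/-- The square over an extension of the residue field. -/
theorem isPullback_bc (s : S) (K : Type u) [Field K] [Algebra (S.residueField s) K] :
    letI := fibOver f s
    IsPullback (Curv2.bcFst (S.residueField s) (f.fiber s) K ≫ f.fiberι s)
      (Curv2.bcSnd (S.residueField s) (f.fiber s) K) f
      (Spec.map (CommRingCat.ofHom (algebraMap (S.residueField s) K)) ≫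
        S.fromSpecResidueField s) := by
  let := fibOver f s
  exact (Ascent.isPullback_bc (S.residueField s) (f.fiber s) K).paste_horiz (isPullback_fiber f s)

theorem isProper_fiber [IsProper f] (s : S) : IsProper (f.fiberToSpecResidueField s) :=
  MorphismProperty.of_isPullback (isPullback_fiber f s) ‹_›

end

section

variable {X S : Scheme.{u}} (f : X ⟶ S) [IsProper f] {L : X.Modules} (hLi : PicF.IsInvertible L)
  (F : X.Modules)

include hLi

/-- The set `Z` in terms of the base changes of the fibre. -/
theorem mem_Z_iff (s : S) (B : Polynomial ℚ → Prop) :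
    s ∈ Z f L F B ↔ ∃ (K : Type u) (_ : Field K) (_ : Algebra (S.residueField s) K),
      letI := fibOver f s
      HasQuot K (Curv2.bcSnd (S.residueField s) (f.fiber s) K)
        ((Scheme.Modules.pullback (Curv2.bcFst (S.residueField s) (f.fiber s) K)).obj
          (CohIII.fiberMod f L s))
        ((Scheme.Modules.pullback (Curv2.bcFst (S.residueField s) (f.fiber s) K)).obj
          (CohIII.fiberMod f F s)) B := by
  let := fibOver f s
  constructor
  · rintro ⟨K, _, t, pt, hpt, hq⟩
    obtain ⟨_, ht⟩ := exists_algebra t pt hpt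
    refine ⟨K, inferInstance, inferInstance, ?_⟩
    have h := hasQuot_trans f hLi F (K := K) (K' := K) (t := t) (t' := t) (by
      have : CommRingCat.ofHom (algebraMap K K) = 𝟙 _ := rfl
      rw [this, Spec.map_id, Category.id_comp]) (IsPullback.of_hasPullback f t)
      (ht ▸ isPullback_bc f s K) hq
    exact h.iso ((Scheme.Modules.pullbackComp _ _).app L).symm
      ((Scheme.Modules.pullbackComp _ _).app F).symm
  · rintro ⟨K, _, _, hq⟩
    have h := mem_Z_of_isPullback f hLi F (isPullback_bc f s K)
      (hq.iso ((Scheme.Modules.pullbackComp _ _).app L)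
        ((Scheme.Modules.pullbackComp _ _).app F)) (IsLocalRing.closedPoint K)
    have e : (Spec.map (CommRingCat.ofHom (algebraMap (S.residueField s) K)) ≫
        S.fromSpecResidueField s) (IsLocalRing.closedPoint K) = s :=
      Scheme.fromSpecResidueField_apply s _
    rwa [e] at h

theorem mem_Z_of_fiber (s : S) {B : Polynomial ℚ → Prop}
    (h : HasQuot (S.residueField s) (f.fiberToSpecResidueField s)
      (CohIII.fiberMod f L s) (CohIII.fiberMod f F s) B) : s ∈ Z f L F B := by
  have h := mem_Z_of_isPullback f hLi F (isPullback_fiber f s) h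
    (IsLocalRing.closedPoint (S.residueField s))
  have e : (S.fromSpecResidueField s) (IsLocalRing.closedPoint (S.residueField s)) = s :=
    Scheme.fromSpecResidueField_apply s _
  exact (congrArg (· ∈ Z f L F B) e).mp h

end

section

variable {X S : Scheme.{u}} [IsLocallyNoetherian S] (f : X ⟶ S) [IsProper f] {L : X.Modules}
  (hLi : PicF.IsInvertible L) (hamp : FAmple f L) {F : X.Modules} (hF : Coh.IsCoh F)
  {P : Polynomial ℚ}

include hLi hF in
/-- The Hilbert polynomials of the fibres at points determine those of field-valued fibres. -/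
theorem fHilb_of_fiber (hP : ∀ s : S, @ShStab.IsHilbPoly (S.residueField s) _ (f.fiber s)
    (fibOver f s) (CohIII.fiberMod f L s) (CohIII.fiberMod f F s) P) : FHilb f L F P := by
  have : IsLocallyNoetherian X := LocallyOfFiniteType.isLocallyNoetherian f
  intro K _ t Y p q H
  let pt : Spec (CommRingCat.of K) := IsLocalRing.closedPoint K
  obtain ⟨s, hs⟩ : ∃ s, t pt = s := ⟨_, rfl⟩
  obtain ⟨_, ht⟩ := exists_algebra t pt hs
  clear hs
  let := fibOver f s
  let : Y.Over (Spec (CommRingCat.of K)) := ⟨q⟩
  have : IsProper (f.fiber s ↘ Spec (CommRingCat.of (S.residueField s))) := isProper_fiber f s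
  subst ht
  obtain ⟨g, hg, Hg⟩ := exists_square (K := S.residueField s) (K' := K) f
    (isPullback_fiber f s) H
  have Hg' : IsPullback g (Y ↘ Spec (CommRingCat.of K))
    (f.fiber s ↘ Spec (CommRingCat.of (S.residueField s)))
    (Spec.map (CommRingCat.ofHom (algebraMap (S.residueField s) K))) := Hg
  have hL' : PicF.IsInvertible (CohIII.fiberMod f L s) :=
    Groth.Agent.Fdesc.LocGen.isInvertible_pullback _ hLi
  have hF' : Coh.IsCoh (CohIII.fiberMod f F s) :=
    have := Ascent.isLocallyNoetherian_of_proper (S.residueField s) (f.fiber s)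
    Groth.Agent.FormalA.PullbackQC.isCoh_pullback _ _ hF
  exact Twist.isHilbPoly_iso
    ((Scheme.Modules.pullbackComp g _).app L ≪≫ (Scheme.Modules.pullbackCongr hg).app L)
    ((Scheme.Modules.pullbackComp g _).app F ≪≫ (Scheme.Modules.pullbackCongr hg).app F)
    ((Ascent.isHilbPoly_pull g Hg' hL' hF').mpr (hP s))

omit [IsLocallyNoetherian S] [IsProper f] in
include hamp in
theorem isAmple_fiber (s : S) : CohB1.IsAmple (CohIII.fiberMod f L s) :=
  hamp _ _ _ _ _ (isPullback_fiber f s)

variable (hP : FHilb f L F P) {d : ℕ} (hd : P.natDegree ≤ d) (h0 : 0 < alpha d P)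

include hLi hamp hF hP hd h0

omit h0 in
/-- The complement of `Z` in terms of the base changes of the fibre. -/
theorem not_mem_Z_iff (B : Polynomial ℚ → Prop) (s : S) :
    s ∉ Z f L F (fun Q => B (P - Q)) ↔
      ∀ (K : Type u) [Field K] [Algebra (S.residueField s) K],
        letI := fibOver f s
        Gies.okd K ((Scheme.Modules.pullback (Curv2.bcFst (S.residueField s) (f.fiber s) K)).obj
            (CohIII.fiberMod f L s)) d
          ((Scheme.Modules.pullback (Curv2.bcFst (S.residueField s) (f.fiber s) K)).obj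
            (CohIII.fiberMod f F s)) ∧
        Gies.hp K ((Scheme.Modules.pullback (Curv2.bcFst (S.residueField s) (f.fiber s) K)).obj
            (CohIII.fiberMod f L s))
          ((Scheme.Modules.pullback (Curv2.bcFst (S.residueField s) (f.fiber s) K)).obj
            (CohIII.fiberMod f F s)) = P ∧
        ∀ (F₀ : (Curv2.bc (S.residueField s) (f.fiber s) K).Modules)
          (ι : F₀ ⟶ (Scheme.Modules.pullback (Curv2.bcFst (S.residueField s) (f.fiber s) K)).obj
            (CohIII.fiberMod f F s)), Mono ι → Coh.IsCoh F₀ →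
          ¬ B (Gies.hp K ((Scheme.Modules.pullback
            (Curv2.bcFst (S.residueField s) (f.fiber s) K)).obj (CohIII.fiberMod f L s)) F₀) := by
  let := fibOver f s
  have : IsProper (f.fiber s ↘ Spec (CommRingCat.of (S.residueField s))) := isProper_fiber f s
  have : IsLocallyNoetherian X := LocallyOfFiniteType.isLocallyNoetherian f
  have := Ascent.isLocallyNoetherian_of_proper (S.residueField s) (f.fiber s)
  have hLs := isAmple_fiber f hamp s
  have hFs : Coh.IsCoh (CohIII.fiberMod f F s) :=
    Groth.Agent.FormalA.PullbackQC.isCoh_pullback _ _ hF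
  have hps : Gies.hp (S.residueField s) (CohIII.fiberMod f L s) (CohIII.fiberMod f F s) = P :=
    Gies.hp_eq (hP _ _ _ _ _ (isPullback_fiber f s))
  have hLK : ∀ (K : Type u) [Field K] [Algebra (S.residueField s) K],
      CohB1.IsAmple ((Scheme.Modules.pullback
        (Curv2.bcFst (S.residueField s) (f.fiber s) K)).obj (CohIII.fiberMod f L s)) := by
    intro K _ _
    have : IsAffineHom (Curv2.bcFst (S.residueField s) (f.fiber s) K) :=
      MorphismProperty.of_isPullback (Ascent.isPullback_bc (S.residueField s) (f.fiber s) K).flip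
        inferInstance
    exact Ascent.isAmple_pullback _ hLs
  have hpK : ∀ (K : Type u) [Field K] [Algebra (S.residueField s) K],
      Gies.hp K ((Scheme.Modules.pullback (Curv2.bcFst (S.residueField s) (f.fiber s) K)).obj
            (CohIII.fiberMod f L s))
          ((Scheme.Modules.pullback (Curv2.bcFst (S.residueField s) (f.fiber s) K)).obj
            (CohIII.fiberMod f F s)) = P := by
    intro K _ _
    rw [← hps]
    exact Ascent.hp_bc (k := S.residueField s)
      (fun k _ X _ _ L hL => Facts.hilbFacts k hL) hLs K hFs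
  have hFK : ∀ (K : Type u) [Field K] [Algebra (S.residueField s) K],
      Coh.IsCoh ((Scheme.Modules.pullback (Curv2.bcFst (S.residueField s) (f.fiber s) K)).obj
            (CohIII.fiberMod f F s)) := by
    intro K _ _
    have := Ascent.isLocallyNoetherian_of_proper K (Curv2.bc (S.residueField s) (f.fiber s) K)
    exact Groth.Agent.FormalA.PullbackQC.isCoh_pullback _ _ hFs
  rw [mem_Z_iff f hLi F s]
  constructor
  · intro h K _ _
    refine ⟨⟨hFK K, by rw [hpK K]; exact hd⟩, hpK K, fun F₀ ι h1 h2 h3 => h ⟨K, inferInstance,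
      inferInstance, ?_⟩⟩
    have := (hasQuot_iff (K := K) (hLK K) (hFK K) B).mpr ⟨F₀, ι, h1, h2, h3⟩
    rw [hpK K] at this
    exact this
  · rintro h ⟨K, _, _, hq⟩
    obtain ⟨-, -, h3⟩ := h K
    have hq' : HasQuot K ((Curv2.bc (S.residueField s) (f.fiber s) K) ↘ Spec (CommRingCat.of K))
        ((Scheme.Modules.pullback (Curv2.bcFst (S.residueField s) (f.fiber s) K)).obj
          (CohIII.fiberMod f L s))
        ((Scheme.Modules.pullback (Curv2.bcFst (S.residueField s) (f.fiber s) K)).obj
          (CohIII.fiberMod f F s)) (fun Q => B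
            (Gies.hp K ((Scheme.Modules.pullback (Curv2.bcFst (S.residueField s) (f.fiber s) K)).obj
          (CohIII.fiberMod f L s))
        ((Scheme.Modules.pullback (Curv2.bcFst (S.residueField s) (f.fiber s) K)).obj
          (CohIII.fiberMod f F s)) - Q)) := by
      rw [hpK]
      exact hq
    obtain ⟨F₀, ι, h4, h5, h6⟩ := (hasQuot_iff (hLK K) (hFK K) _).mp hq'
    exact h3 F₀ ι h4 h5 h6

omit h0 in
/-- Badness of the fibre itself. -/
theorem not_mem_of_fiber (B : Polynomial ℚ → Prop) (s : S) (h : s ∉ Z f L F (fun Q => B (P - Q))) :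
    letI := fibOver f s
    Gies.okd (S.residueField s) (CohIII.fiberMod f L s) d (CohIII.fiberMod f F s) ∧
    Gies.hp (S.residueField s) (CohIII.fiberMod f L s) (CohIII.fiberMod f F s) = P ∧
      ∀ (F₀ : (f.fiber s).Modules) (ι : F₀ ⟶ CohIII.fiberMod f F s), Mono ι → Coh.IsCoh F₀ →
        ¬ B (Gies.hp (S.residueField s) (CohIII.fiberMod f L s) F₀) := by
  let := fibOver f s
  have : IsProper (f.fiber s ↘ Spec (CommRingCat.of (S.residueField s))) := isProper_fiber f s
  have : IsLocallyNoetherian X := LocallyOfFiniteType.isLocallyNoetherian f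
  have := Ascent.isLocallyNoetherian_of_proper (S.residueField s) (f.fiber s)
  have hLs := isAmple_fiber f hamp s
  have hFs : Coh.IsCoh (CohIII.fiberMod f F s) :=
    Groth.Agent.FormalA.PullbackQC.isCoh_pullback _ _ hF
  have hps : Gies.hp (S.residueField s) (CohIII.fiberMod f L s) (CohIII.fiberMod f F s) = P :=
    Gies.hp_eq (hP _ _ _ _ _ (isPullback_fiber f s))
  refine ⟨⟨hFs, by rw [hps]; exact hd⟩, hps, fun F₀ ι h1 h2 h3 => h ?_⟩
  apply mem_Z_of_fiber f hLi F s
  have := (hasQuot_iff hLs hFs B).mpr ⟨F₀, ι, h1, h2, h3⟩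
  rw [hps] at this
  exact this

/-- The fibre at `s` is semistable iff `s` is not in `Z`. -/
theorem isSemistable_iff (s : S) :
    @ShStab.IsSemistable (S.residueField s) _ (f.fiber s) (fibOver f s)
      (CohIII.fiberMod f L s) (CohIII.fiberMod f F s) d ↔
    s ∉ Z f L F (fun Q => Bss d P (P - Q)) := by
  let := fibOver f s
  have : IsProper (f.fiber s ↘ Spec (CommRingCat.of (S.residueField s))) := isProper_fiber f s
  have : IsLocallyNoetherian X := LocallyOfFiniteType.isLocallyNoetherian f
  have := Ascent.isLocallyNoetherian_of_proper (S.residueField s) (f.fiber s)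
  have hLs := isAmple_fiber f hamp s
  have Hs := Facts.hilbFacts (S.residueField s) hLs
  have hps : Gies.hp (S.residueField s) (CohIII.fiberMod f L s) (CohIII.fiberMod f F s) = P :=
    Gies.hp_eq (hP _ _ _ _ _ (isPullback_fiber f s))
  constructor
  · intro hss
    rw [not_mem_Z_iff f hLi hamp hF hP hd (Bss d P)]
    intro K _ _
    have := Ascent.isLocallyNoetherian_of_proper K (Curv2.bc (S.residueField s) (f.fiber s) K)
    have HK := Ascent.hilb_bc (k := S.residueField s)
      (fun k _ X _ _ L hL => Facts.hilbFacts k hL) hLs K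
    have hK := Ascent2.isSemistable_bc (k := S.residueField s)
      (fun k _ X _ _ L hL => Facts.hilbFacts k hL) hLs K hss
    have hpK := Ascent.hp_bc (k := S.residueField s)
      (fun k _ X _ _ L hL => Facts.hilbFacts k hL) hLs K hss.1
    rw [hps] at hpK
    have hok : Gies.okd K ((Scheme.Modules.pullback
        (Curv2.bcFst (S.residueField s) (f.fiber s) K)).obj (CohIII.fiberMod f L s)) d
        ((Scheme.Modules.pullback (Curv2.bcFst (S.residueField s) (f.fiber s) K)).obj
          (CohIII.fiberMod f F s)) := ⟨hK.1, by rw [hpK]; exact hd⟩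
    refine ⟨hok, hpK, ?_⟩
    rw [Bad.isSemistable_iff_bad HK hok (by rw [hpK]; exact h0), hpK] at hK
    exact hK
  · intro h
    obtain ⟨h1, h2, h3⟩ := not_mem_of_fiber f hLi hamp hF hP hd (Bss d P) s h
    rw [Bad.isSemistable_iff_bad Hs h1 (by rw [h2]; exact h0), h2]
    exact h3

/-- The fibre at `s` is `ℓ`-semistable iff `s` is not in `Z`. -/
theorem isEllSemistable_iff (ℓ : ℕ) (s : S) :
    @ShStab.IsEllSemistable (S.residueField s) _ (f.fiber s) (fibOver f s)
      (CohIII.fiberMod f L s) (CohIII.fiberMod f F s) d ℓ ↔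
    s ∉ Z f L F (fun Q => Blss d ℓ P (P - Q)) := by
  let := fibOver f s
  have : IsProper (f.fiber s ↘ Spec (CommRingCat.of (S.residueField s))) := isProper_fiber f s
  have : IsLocallyNoetherian X := LocallyOfFiniteType.isLocallyNoetherian f
  have := Ascent.isLocallyNoetherian_of_proper (S.residueField s) (f.fiber s)
  have hLs := isAmple_fiber f hamp s
  have Hs := Facts.hilbFacts (S.residueField s) hLs
  have hps : Gies.hp (S.residueField s) (CohIII.fiberMod f L s) (CohIII.fiberMod f F s) = P :=
    Gies.hp_eq (hP _ _ _ _ _ (isPullback_fiber f s))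
  constructor
  · intro hss
    rw [not_mem_Z_iff f hLi hamp hF hP hd (Blss d ℓ P)]
    intro K _ _
    have := Ascent.isLocallyNoetherian_of_proper K (Curv2.bc (S.residueField s) (f.fiber s) K)
    have HK := Ascent.hilb_bc (k := S.residueField s)
      (fun k _ X _ _ L hL => Facts.hilbFacts k hL) hLs K
    have hK := AscGen.isEllSemistable_bc (k := S.residueField s)
      (fun k _ X _ _ L hL => Facts.hilbFacts k hL) hLs K hss
    have hpK := Ascent.hp_bc (k := S.residueField s)
      (fun k _ X _ _ L hL => Facts.hilbFacts k hL) hLs K hss.1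
    rw [hps] at hpK
    have hok : Gies.okd K ((Scheme.Modules.pullback
        (Curv2.bcFst (S.residueField s) (f.fiber s) K)).obj (CohIII.fiberMod f L s)) d
        ((Scheme.Modules.pullback (Curv2.bcFst (S.residueField s) (f.fiber s) K)).obj
          (CohIII.fiberMod f F s)) := ⟨hK.1, by rw [hpK]; exact hd⟩
    refine ⟨hok, hpK, ?_⟩
    rw [Bad.isEllSemistable_iff_bad HK hok (by rw [hpK]; exact h0), hpK] at hK
    exact hK
  · intro h
    obtain ⟨h1, h2, h3⟩ := not_mem_of_fiber f hLi hamp hF hP hd (Blss d ℓ P) s h
    rw [Bad.isEllSemistable_iff_bad Hs h1 (by rw [h2]; exact h0), h2]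
    exact h3

/-- The fibre at `s` is geometrically stable iff `s` is not in `Z`. -/
theorem isGeomStable_iff (s : S) :
    @ShStab.IsGeomStable (S.residueField s) _ (f.fiber s) (fibOver f s)
      (CohIII.fiberMod f L s) (CohIII.fiberMod f F s) d ↔
    s ∉ Z f L F (fun Q => Bst d P (P - Q)) := by
  let := fibOver f s
  have : IsProper (f.fiber s ↘ Spec (CommRingCat.of (S.residueField s))) := isProper_fiber f s
  have : IsLocallyNoetherian X := LocallyOfFiniteType.isLocallyNoetherian f
  have := Ascent.isLocallyNoetherian_of_proper (S.residueField s) (f.fiber s)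
  have hLs := isAmple_fiber f hamp s
  have hFs : Coh.IsCoh (CohIII.fiberMod f F s) :=
    Groth.Agent.FormalA.PullbackQC.isCoh_pullback _ _ hF
  have hps : Gies.hp (S.residueField s) (CohIII.fiberMod f L s) (CohIII.fiberMod f F s) = P :=
    Gies.hp_eq (hP _ _ _ _ _ (isPullback_fiber f s))
  rw [not_mem_Z_iff f hLi hamp hF hP hd (Bst d P)]
  refine forall_congr' fun K => forall_congr' fun _ => forall_congr' fun _ => ?_
  have := Ascent.isLocallyNoetherian_of_proper K (Curv2.bc (S.residueField s) (f.fiber s) K)
  have HK := Ascent.hilb_bc (k := S.residueField s)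
    (fun k _ X _ _ L hL => Facts.hilbFacts k hL) hLs K
  have hpK := Ascent.hp_bc (k := S.residueField s)
    (fun k _ X _ _ L hL => Facts.hilbFacts k hL) hLs K hFs
  rw [hps] at hpK
  have hFK : Coh.IsCoh ((Scheme.Modules.pullback (Curv2.bcFst (S.residueField s) (f.fiber s) K)).obj
            (CohIII.fiberMod f F s)) := Groth.Agent.FormalA.PullbackQC.isCoh_pullback _ _ hFs
  have hok : Gies.okd K ((Scheme.Modules.pullback
      (Curv2.bcFst (S.residueField s) (f.fiber s) K)).obj (CohIII.fiberMod f L s)) d
      ((Scheme.Modules.pullback (Curv2.bcFst (S.residueField s) (f.fiber s) K)).obj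
        (CohIII.fiberMod f F s)) := ⟨hFK, by rw [hpK]; exact hd⟩
  have e := Bad.isStable_iff_bad HK hok (by rw [hpK]; exact h0)
  rw [hpK] at e
  constructor
  · intro h
    exact ⟨hok, hpK, e.mp h⟩
  · rintro ⟨-, -, h⟩
    exact e.mpr h

/-- The fibre at `s` is geometrically `ℓ`-stable iff `s` is not in `Z`. -/
theorem isGeomEllStable_iff (ℓ : ℕ) (s : S) :
    (∀ (K : Type u) [Field K] [Algebra (S.residueField s) K],
      letI := fibOver f s
      ShStab.IsEllStable K (Curv2.bc (S.residueField s) (f.fiber s) K)
        ((Scheme.Modules.pullback (Curv2.bcFst (S.residueField s) (f.fiber s) K)).obj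
          (CohIII.fiberMod f L s))
        ((Scheme.Modules.pullback (Curv2.bcFst (S.residueField s) (f.fiber s) K)).obj
          (CohIII.fiberMod f F s)) d ℓ) ↔
    s ∉ Z f L F (fun Q => Blst d ℓ P (P - Q)) := by
  let := fibOver f s
  have : IsProper (f.fiber s ↘ Spec (CommRingCat.of (S.residueField s))) := isProper_fiber f s
  have : IsLocallyNoetherian X := LocallyOfFiniteType.isLocallyNoetherian f
  have := Ascent.isLocallyNoetherian_of_proper (S.residueField s) (f.fiber s)
  have hLs := isAmple_fiber f hamp s
  have hFs : Coh.IsCoh (CohIII.fiberMod f F s) :=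
    Groth.Agent.FormalA.PullbackQC.isCoh_pullback _ _ hF
  have hps : Gies.hp (S.residueField s) (CohIII.fiberMod f L s) (CohIII.fiberMod f F s) = P :=
    Gies.hp_eq (hP _ _ _ _ _ (isPullback_fiber f s))
  rw [not_mem_Z_iff f hLi hamp hF hP hd (Blst d ℓ P)]
  refine forall_congr' fun K => forall_congr' fun _ => forall_congr' fun _ => ?_
  have := Ascent.isLocallyNoetherian_of_proper K (Curv2.bc (S.residueField s) (f.fiber s) K)
  have HK := Ascent.hilb_bc (k := S.residueField s)
    (fun k _ X _ _ L hL => Facts.hilbFacts k hL) hLs K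
  have hpK := Ascent.hp_bc (k := S.residueField s)
    (fun k _ X _ _ L hL => Facts.hilbFacts k hL) hLs K hFs
  rw [hps] at hpK
  have hFK : Coh.IsCoh ((Scheme.Modules.pullback (Curv2.bcFst (S.residueField s) (f.fiber s) K)).obj
            (CohIII.fiberMod f F s)) := Groth.Agent.FormalA.PullbackQC.isCoh_pullback _ _ hFs
  have hok : Gies.okd K ((Scheme.Modules.pullback
      (Curv2.bcFst (S.residueField s) (f.fiber s) K)).obj (CohIII.fiberMod f L s)) d
      ((Scheme.Modules.pullback (Curv2.bcFst (S.residueField s) (f.fiber s) K)).obj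
        (CohIII.fiberMod f F s)) := ⟨hFK, by rw [hpK]; exact hd⟩
  have e := Bad.isEllStable_iff_bad (ℓ := ℓ) HK hok (by rw [hpK]; exact h0)
  rw [hpK] at e
  constructor
  · intro h
    exact ⟨hok, hpK, e.mp h⟩
  · rintro ⟨-, -, h⟩
    exact e.mpr h

end

end K846.OpenFib
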