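import Groth.Agent.ShStab.K846.FieldPt
import Groth.Agent.ShStab.K846.Facts
import Groth.Agent.Mor.K385.VeryAmpleBC
import Groth.Agent.Ega2.VeryAmpleAmple

/-!
# Openness of semistability: reduction to the Quot scheme and to Grothendieck's lemma

`isClosed_Z_bad`: if for every polynomial `Φ` the set of points of `S` over which `F` has a quotient with
Hilbert polynomial `Φ` is closed, and if the pure quotients of bounded slope have only finitely many Hilbert
polynomials, then for every set `B` of destabilising polynomials the set of points over which `F` has a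
submodule with Hilbert polynomial in `B` is closed.
-/

set_option autoImplicit false
universe u
open CategoryTheory CategoryTheory.Limits AlgebraicGeometry StabCat

namespace K846.OpenMain

open K849.PolyOrd BadPoly FieldPt

section Field

variable {K : Type u} [Field K] {Y : Scheme.{u}} [Y.Over (Spec (CommRingCat.of K))]
  [IsProper (Y ↘ Spec (CommRingCat.of K))] {L : Y.Modules} (hL : CohB1.IsAmple L)

include hL

theorem hp_sub {F₀ F : Y.Modules} (ι : F₀ ⟶ F) [Mono ι] (h₀ : Coh.IsCoh F₀) (hF : Coh.IsCoh F) :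
    Gies.hp K L F₀ = Gies.hp K L F - Gies.hp K L (cokernel ι) := by
  have := Ascent.isLocallyNoetherian_of_proper K Y
  have H := Facts.hilbFacts K hL
  have h := Gies.add_coh H
  have e : Gies.hp K L (cokernel ι) = Gies.hp K L F - Gies.hp K L F₀ :=
    toPV_injective (h.v_cokernel ι h₀ hF)
  rw [e, sub_sub_cancel]

/-- Submodules and quotients. -/
theorem hasQuot_iff {F : Y.Modules} (hF : Coh.IsCoh F) (B : Polynomial ℚ → Prop) :
    HasQuot K (Y ↘ Spec (CommRingCat.of K)) L F (fun Q => B (Gies.hp K L F - Q)) ↔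
      ∃ (F₀ : Y.Modules) (ι : F₀ ⟶ F), Mono ι ∧ Coh.IsCoh F₀ ∧ B (Gies.hp K L F₀) := by
  have := Ascent.isLocallyNoetherian_of_proper K Y
  have H := Facts.hilbFacts K hL
  have h := Gies.add_coh H
  constructor
  · rintro ⟨G, π, h1, h2, Q, h3, h4⟩
    refine ⟨kernel π, kernel.ι π, inferInstance, h.ok_kernel π hF h2, ?_⟩
    have e : Gies.hp K L (kernel π) = Gies.hp K L F - Gies.hp K L G :=
      toPV_injective (h.v_kernel π hF h2)
    have e3 : Gies.hp K L G = Q := Gies.hp_eq h3
    rw [e, e3]
    exact h4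
  · rintro ⟨F₀, ι, h1, h2, h3⟩
    have hc := h.ok_cokernel ι h2 hF
    have e : Gies.hp K L (cokernel ι) = Gies.hp K L F - Gies.hp K L F₀ :=
      toPV_injective (h.v_cokernel ι h2 hF)
    refine ⟨cokernel ι, cokernel.π ι, inferInstance, hc, Gies.hp K L (cokernel ι),
      Gies.isHilbPoly_hp H hc, ?_⟩
    rw [e]
    change B (_ - (_ - _))
    rw [sub_sub_cancel]
    exact h3

end Field

variable {X S : Scheme.{u}} (f : X ⟶ S) (L F : X.Modules)

/-- `L` is ample on all field-valued fibres. -/
def FAmple : Prop :=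
  ∀ (K : Type u) [Field K] (t : Spec (CommRingCat.of K) ⟶ S) (Y : Scheme.{u}) (p : Y ⟶ X)
    (q : Y ⟶ Spec (CommRingCat.of K)), IsPullback p q f t →
      CohB1.IsAmple ((Scheme.Modules.pullback p).obj L)

/-- `P` is the Hilbert polynomial of all field-valued fibres. -/
def FHilb (P : Polynomial ℚ) : Prop :=
  ∀ (K : Type u) [Field K] (t : Spec (CommRingCat.of K) ⟶ S) (Y : Scheme.{u}) (p : Y ⟶ X)
    (q : Y ⟶ Spec (CommRingCat.of K)), IsPullback p q f t →
      @ShStab.IsHilbPoly K _ Y ⟨q⟩ ((Scheme.Modules.pullback p).obj L)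
        ((Scheme.Modules.pullback p).obj F) P

/-- The conclusion of Grothendieck's lemma for the pure quotients of the fibres. -/
def GLem (d : ℕ) (a₀ μ₀ : ℚ) : Prop :=
  ∃ PS : Set (Polynomial ℚ), PS.Finite ∧ ∀ (K : Type u) [Field K] [IsAlgClosed K]
    (t : Spec (CommRingCat.of K) ⟶ S) (G : (pullback f t).Modules)
    (π : (Scheme.Modules.pullback (pullback.fst f t)).obj F ⟶ G), Epi π → Coh.IsCoh G →
      ShStab.IsPure (pullback f t) G d → ¬ IsZero G → ∀ Q : Polynomial ℚ,
        @ShStab.IsHilbPoly K _ (pullback f t) ⟨pullback.snd f t⟩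
          ((Scheme.Modules.pullback (pullback.fst f t)).obj L) G Q →
        alpha d Q ≤ a₀ → hatSlope d Q ≤ μ₀ → Q ∈ PS

variable {f L F} [IsProper f]

theorem fAmple_of_veryAmple (h : RelAmple.IsRelVeryAmplePn f L) : FAmple f L := by
  intro K _ t Y p q H
  have : IsProper q := MorphismProperty.of_isPullback H ‹_›
  exact Groth.Agent.Ega2.VeryAmpleAmple.isAmple_of_isRelVeryAmplePn q _
    (Groth.Agent.K385.VeryAmpleBC.of_isPullback H h)

theorem isClosed_Z_bad [IsLocallyNoetherian S] (hLi : PicF.IsInvertible L) (hamp : FAmple f L)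
    (hF : Coh.IsCoh F) {P : Polynomial ℚ} (hP : FHilb f L F P) {d : ℕ} (hd : P.natDegree ≤ d)
    (h0 : 0 < alpha d P) {B : Polynomial ℚ → Prop} (hB : BadSet d P B)
    (hGL : GLem f L F d (alpha d P) (hatSlope d P))
    (hQ : ∀ Φ : Polynomial ℚ, IsClosed (Z f L F (fun Q => Q = Φ))) :
    IsClosed (Z f L F (fun Q => B (P - Q))) := by
  have : IsLocallyNoetherian X := LocallyOfFiniteType.isLocallyNoetherian f
  obtain ⟨PS, hfin, hPS⟩ := hGL
  have key : Z f L F (fun Q => B (P - Q)) =
      ⋃ Φ ∈ {Φ : Polynomial ℚ | Φ ∈ PS ∧ B (P - Φ)}, Z f L F (fun Q => Q = Φ) := by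
    ext s
    simp only [Set.mem_iUnion, Set.mem_ofPred_eq, exists_prop]
    constructor
    · rintro ⟨K, _, t, pt, hpt, hq⟩
      let K' := AlgebraicClosure K
      let t' : Spec (CommRingCat.of K') ⟶ S :=
        Spec.map (CommRingCat.ofHom (algebraMap K K')) ≫ t
      let Y := pullback f t'
      let : Y.Over (Spec (CommRingCat.of K')) := ⟨pullback.snd f t'⟩
      have : IsProper (Y ↘ Spec (CommRingCat.of K')) :=
        inferInstanceAs (IsProper (pullback.snd f t'))
      have H' : IsPullback (pullback.fst f t') (pullback.snd f t') f t' :=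
        IsPullback.of_hasPullback f t'
      have hq' := hasQuot_trans f hLi F (K := K) (K' := K') (t := t) (t' := t') rfl
        (IsPullback.of_hasPullback f t) H' hq
      have hL' := hamp K' t' Y _ _ H'
      have hP' := hP K' t' Y _ _ H'
      have := Ascent.isNoetherian_of_proper K' Y
      have HK := Facts.hilbFacts K' hL'
      have hF' : Coh.IsCoh ((Scheme.Modules.pullback (pullback.fst f t')).obj F) :=
        Groth.Agent.FormalA.PullbackQC.isCoh_pullback _ _ hF
      have hpF : Gies.hp K' ((Scheme.Modules.pullback (pullback.fst f t')).obj L)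
          ((Scheme.Modules.pullback (pullback.fst f t')).obj F) = P := Gies.hp_eq hP'
      rw [← hpF] at hB h0 hd hq' ⊢
      obtain ⟨F₀, ι, hι, hF₀, hbad⟩ := (hasQuot_iff (K := K') hL' hF' B).mp hq'
      obtain ⟨T, hT, hBT, hnz, hpure, hok, hα, hsl⟩ :=
        Bad.exists_saturated HK ⟨hF', hd⟩ hB h0 ι hF₀ hbad
      have e : Gies.hp K' ((Scheme.Modules.pullback (pullback.fst f t')).obj L)
          (T : Y.Modules) = Gies.hp K' ((Scheme.Modules.pullback (pullback.fst f t')).obj L)
          ((Scheme.Modules.pullback (pullback.fst f t')).obj F) - Gies.hp K'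
          ((Scheme.Modules.pullback (pullback.fst f t')).obj L) (cokernel T.arrow) :=
        hp_sub (K := K') hL' T.arrow hT hF'
      rw [hpF] at hα hsl
      refine ⟨Gies.hp K' ((Scheme.Modules.pullback (pullback.fst f t')).obj L) (cokernel T.arrow),
        ⟨?_, ?_⟩, ?_⟩
      · exact hPS K' t' (cokernel T.arrow) (cokernel.π T.arrow) inferInstance hok.1 hpure hnz _
          (Gies.isHilbPoly_hp HK hok.1) hα hsl
      · rw [← e]
        exact hBT
      · refine ⟨K', inferInstance, t', IsLocalRing.closedPoint K', ?_,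
          cokernel T.arrow, cokernel.π T.arrow, inferInstance, hok.1, _,
          Gies.isHilbPoly_hp HK hok.1, rfl⟩
        rw [← hpt]
        change t (Spec.map (CommRingCat.ofHom (algebraMap K K')) _) = _
        exact congrArg _ (eq_closedPoint _ _)
    · rintro ⟨Φ, ⟨-, hΦ⟩, K, _, t, pt, hpt, hq⟩
      exact ⟨K, inferInstance, t, pt, hpt, hq.mono fun Q hQ => hQ ▸ hΦ⟩
  rw [key]
  exact (hfin.subset fun Φ h => h.1).isClosed_biUnion fun Φ _ => hQ Φ

end K846.OpenMain
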