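import Groth.Agent.ShStab.K846.RelAmp

/-!
# The stability conditions on the fibre at one point, and openness over an open part of the base

As in `OpenFib`, with the Hilbert polynomial prescribed only for the fibre at the point considered.
`isOpen_semistable`, `isOpen_ellSemistable`: openness over an open subset `U` of the base, with the hypotheses only
over `U`.
-/

set_option autoImplicit false
universe u
open CategoryTheory CategoryTheory.Limits AlgebraicGeometry StabCat

namespace K846.OpenPt

open K849.PolyOrd BadPoly FieldPt OpenMain OpenFib Localize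

section

variable {X S : Scheme.{u}} [IsLocallyNoetherian S] (f : X ⟶ S) [IsProper f] {L : X.Modules}
  (hLi : PicF.IsInvertible L) (hamp : FAmple f L) {F : X.Modules} (hF : Coh.IsCoh F)
  {P : Polynomial ℚ}

include hLi hF in
/-- The Hilbert polynomial of the fibre at a point determines those of the field-valued fibres over it. -/
theorem hilb_at (s : S) (hP : @ShStab.IsHilbPoly (S.residueField s) _ (f.fiber s)
    (fibOver f s) (CohIII.fiberMod f L s) (CohIII.fiberMod f F s) P)
    (K : Type u) [Field K] (t : Spec (CommRingCat.of K) ⟶ S) (pt : Spec (CommRingCat.of K)) (hs : t pt = s)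
    (Y : Scheme.{u}) (p : Y ⟶ X) (q : Y ⟶ Spec (CommRingCat.of K)) (H : IsPullback p q f t) :
      @ShStab.IsHilbPoly K _ Y ⟨q⟩ ((Scheme.Modules.pullback p).obj L)
        ((Scheme.Modules.pullback p).obj F) P := by
  have : IsLocallyNoetherian X := LocallyOfFiniteType.isLocallyNoetherian f
  obtain ⟨_, ht⟩ := exists_algebra t pt hs
  clear hs
  let := fibOver f s
  let : Y.Over (Spec (CommRingCat.of K)) := ⟨q⟩
  have : IsProper (f.fiber s ↘ Spec (CommRingCat.of (S.residueField s))) := isProper_fiber f s
  subst ht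
  obtain ⟨g, hg, Hg⟩ := exists_square (K := S.residueField s) (K' := K) f
    (isPullback_fiber f s) H
  have Hg' : IsPullback g (Y ↘ Spec (CommRingCat.of K))
    (f.fiber s ↘ Spec (CommRingCat.of (S.residueField s)))
    (Spec.map (CommRingCat.ofHom (algebraMap (S.residueField s) K))) := Hg
  have hL' : PicF.IsInvertible (CohIII.fiberMod f L s) :=
    Groth.Agent.Fdesc.LocGen.isInvertible_pullback _ hLi
  have hF' : Coh.IsCoh (CohIII.fiberMod f F s) :=
    have := Ascent.isLocallyNoetherian_of_proper (S.residueField s) (f.fiber s)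
    Groth.Agent.FormalA.PullbackQC.isCoh_pullback _ _ hF
  exact Twist.isHilbPoly_iso
    ((Scheme.Modules.pullbackComp g _).app L ≪≫ (Scheme.Modules.pullbackCongr hg).app L)
    ((Scheme.Modules.pullbackComp g _).app F ≪≫ (Scheme.Modules.pullbackCongr hg).app F)
    ((Ascent.isHilbPoly_pull g Hg' hL' hF').mpr hP)

variable (s : S) (hP : @ShStab.IsHilbPoly (S.residueField s) _ (f.fiber s)
    (fibOver f s) (CohIII.fiberMod f L s) (CohIII.fiberMod f F s) P)
  {d : ℕ} (hd : P.natDegree ≤ d) (h0 : 0 < alpha d P)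

include hLi hamp hF hP hd h0

omit h0 in
/-- The complement of `Z` in terms of the base changes of the fibre. -/
theorem not_mem_Z_iff (B : Polynomial ℚ → Prop) :
    s ∉ Z f L F (fun Q => B (P - Q)) ↔
      ∀ (K : Type u) [Field K] [Algebra (S.residueField s) K],
        letI := fibOver f s
        Gies.okd K ((Scheme.Modules.pullback (Curv2.bcFst (S.residueField s) (f.fiber s) K)).obj
            (CohIII.fiberMod f L s)) d
          ((Scheme.Modules.pullback (Curv2.bcFst (S.residueField s) (f.fiber s) K)).obj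
            (CohIII.fiberMod f F s)) ∧
        Gies.hp K ((Scheme.Modules.pullback (Curv2.bcFst (S.residueField s) (f.fiber s) K)).obj
            (CohIII.fiberMod f L s))
          ((Scheme.Modules.pullback (Curv2.bcFst (S.residueField s) (f.fiber s) K)).obj
            (CohIII.fiberMod f F s)) = P ∧
        ∀ (F₀ : (Curv2.bc (S.residueField s) (f.fiber s) K).Modules)
          (ι : F₀ ⟶ (Scheme.Modules.pullback (Curv2.bcFst (S.residueField s) (f.fiber s) K)).obj
            (CohIII.fiberMod f F s)), Mono ι → Coh.IsCoh F₀ →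
          ¬ B (Gies.hp K ((Scheme.Modules.pullback
            (Curv2.bcFst (S.residueField s) (f.fiber s) K)).obj (CohIII.fiberMod f L s)) F₀) := by
  let := fibOver f s
  have : IsProper (f.fiber s ↘ Spec (CommRingCat.of (S.residueField s))) := isProper_fiber f s
  have : IsLocallyNoetherian X := LocallyOfFiniteType.isLocallyNoetherian f
  have := Ascent.isLocallyNoetherian_of_proper (S.residueField s) (f.fiber s)
  have hLs := isAmple_fiber f hamp s
  have hFs : Coh.IsCoh (CohIII.fiberMod f F s) :=
    Groth.Agent.FormalA.PullbackQC.isCoh_pullback _ _ hF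
  have hps : Gies.hp (S.residueField s) (CohIII.fiberMod f L s) (CohIII.fiberMod f F s) = P :=
    Gies.hp_eq hP
  have hLK : ∀ (K : Type u) [Field K] [Algebra (S.residueField s) K],
      CohB1.IsAmple ((Scheme.Modules.pullback
        (Curv2.bcFst (S.residueField s) (f.fiber s) K)).obj (CohIII.fiberMod f L s)) := by
    intro K _ _
    have : IsAffineHom (Curv2.bcFst (S.residueField s) (f.fiber s) K) :=
      MorphismProperty.of_isPullback (Ascent.isPullback_bc (S.residueField s) (f.fiber s) K).flip
        inferInstance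
    exact Ascent.isAmple_pullback _ hLs
  have hpK : ∀ (K : Type u) [Field K] [Algebra (S.residueField s) K],
      Gies.hp K ((Scheme.Modules.pullback (Curv2.bcFst (S.residueField s) (f.fiber s) K)).obj
            (CohIII.fiberMod f L s))
          ((Scheme.Modules.pullback (Curv2.bcFst (S.residueField s) (f.fiber s) K)).obj
            (CohIII.fiberMod f F s)) = P := by
    intro K _ _
    rw [← hps]
    exact Ascent.hp_bc (k := S.residueField s)
      (fun k _ X _ _ L hL => Facts.hilbFacts k hL) hLs K hFs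
  have hFK : ∀ (K : Type u) [Field K] [Algebra (S.residueField s) K],
      Coh.IsCoh ((Scheme.Modules.pullback (Curv2.bcFst (S.residueField s) (f.fiber s) K)).obj
            (CohIII.fiberMod f F s)) := by
    intro K _ _
    have := Ascent.isLocallyNoetherian_of_proper K (Curv2.bc (S.residueField s) (f.fiber s) K)
    exact Groth.Agent.FormalA.PullbackQC.isCoh_pullback _ _ hFs
  rw [mem_Z_iff f hLi F s]
  constructor
  · intro h K _ _
    refine ⟨⟨hFK K, by rw [hpK K]; exact hd⟩, hpK K, fun F₀ ι h1 h2 h3 => h ⟨K, inferInstance,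
      inferInstance, ?_⟩⟩
    have := (hasQuot_iff (K := K) (hLK K) (hFK K) B).mpr ⟨F₀, ι, h1, h2, h3⟩
    rw [hpK K] at this
    exact this
  · rintro h ⟨K, _, _, hq⟩
    obtain ⟨-, -, h3⟩ := h K
    have hq' : HasQuot K ((Curv2.bc (S.residueField s) (f.fiber s) K) ↘ Spec (CommRingCat.of K))
        ((Scheme.Modules.pullback (Curv2.bcFst (S.residueField s) (f.fiber s) K)).obj
          (CohIII.fiberMod f L s))
        ((Scheme.Modules.pullback (Curv2.bcFst (S.residueField s) (f.fiber s) K)).obj
          (CohIII.fiberMod f F s)) (fun Q => B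
            (Gies.hp K ((Scheme.Modules.pullback (Curv2.bcFst (S.residueField s) (f.fiber s) K)).obj
          (CohIII.fiberMod f L s))
        ((Scheme.Modules.pullback (Curv2.bcFst (S.residueField s) (f.fiber s) K)).obj
          (CohIII.fiberMod f F s)) - Q)) := by
      rw [hpK]
      exact hq
    obtain ⟨F₀, ι, h4, h5, h6⟩ := (hasQuot_iff (hLK K) (hFK K) _).mp hq'
    exact h3 F₀ ι h4 h5 h6

omit h0 in
/-- Badness of the fibre itself. -/
theorem not_mem_of_fiber (B : Polynomial ℚ → Prop) (h : s ∉ Z f L F (fun Q => B (P - Q))) :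
    letI := fibOver f s
    Gies.okd (S.residueField s) (CohIII.fiberMod f L s) d (CohIII.fiberMod f F s) ∧
    Gies.hp (S.residueField s) (CohIII.fiberMod f L s) (CohIII.fiberMod f F s) = P ∧
      ∀ (F₀ : (f.fiber s).Modules) (ι : F₀ ⟶ CohIII.fiberMod f F s), Mono ι → Coh.IsCoh F₀ →
        ¬ B (Gies.hp (S.residueField s) (CohIII.fiberMod f L s) F₀) := by
  let := fibOver f s
  have : IsProper (f.fiber s ↘ Spec (CommRingCat.of (S.residueField s))) := isProper_fiber f s
  have : IsLocallyNoetherian X := LocallyOfFiniteType.isLocallyNoetherian f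
  have := Ascent.isLocallyNoetherian_of_proper (S.residueField s) (f.fiber s)
  have hLs := isAmple_fiber f hamp s
  have hFs : Coh.IsCoh (CohIII.fiberMod f F s) :=
    Groth.Agent.FormalA.PullbackQC.isCoh_pullback _ _ hF
  have hps : Gies.hp (S.residueField s) (CohIII.fiberMod f L s) (CohIII.fiberMod f F s) = P :=
    Gies.hp_eq hP
  refine ⟨⟨hFs, by rw [hps]; exact hd⟩, hps, fun F₀ ι h1 h2 h3 => h ?_⟩
  apply mem_Z_of_fiber f hLi F s
  have := (hasQuot_iff hLs hFs B).mpr ⟨F₀, ι, h1, h2, h3⟩
  rw [hps] at this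
  exact this

/-- The fibre at `s` is semistable iff `s` is not in `Z`. -/
theorem isSemistable_iff :
    @ShStab.IsSemistable (S.residueField s) _ (f.fiber s) (fibOver f s)
      (CohIII.fiberMod f L s) (CohIII.fiberMod f F s) d ↔
    s ∉ Z f L F (fun Q => Bss d P (P - Q)) := by
  let := fibOver f s
  have : IsProper (f.fiber s ↘ Spec (CommRingCat.of (S.residueField s))) := isProper_fiber f s
  have : IsLocallyNoetherian X := LocallyOfFiniteType.isLocallyNoetherian f
  have := Ascent.isLocallyNoetherian_of_proper (S.residueField s) (f.fiber s)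
  have hLs := isAmple_fiber f hamp s
  have Hs := Facts.hilbFacts (S.residueField s) hLs
  have hps : Gies.hp (S.residueField s) (CohIII.fiberMod f L s) (CohIII.fiberMod f F s) = P :=
    Gies.hp_eq hP
  constructor
  · intro hss
    rw [not_mem_Z_iff f hLi hamp hF s hP hd (Bss d P)]
    intro K _ _
    have := Ascent.isLocallyNoetherian_of_proper K (Curv2.bc (S.residueField s) (f.fiber s) K)
    have HK := Ascent.hilb_bc (k := S.residueField s)
      (fun k _ X _ _ L hL => Facts.hilbFacts k hL) hLs K
    have hK := Ascent2.isSemistable_bc (k := S.residueField s)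
      (fun k _ X _ _ L hL => Facts.hilbFacts k hL) hLs K hss
    have hpK := Ascent.hp_bc (k := S.residueField s)
      (fun k _ X _ _ L hL => Facts.hilbFacts k hL) hLs K hss.1
    rw [hps] at hpK
    have hok : Gies.okd K ((Scheme.Modules.pullback
        (Curv2.bcFst (S.residueField s) (f.fiber s) K)).obj (CohIII.fiberMod f L s)) d
        ((Scheme.Modules.pullback (Curv2.bcFst (S.residueField s) (f.fiber s) K)).obj
          (CohIII.fiberMod f F s)) := ⟨hK.1, by rw [hpK]; exact hd⟩
    refine ⟨hok, hpK, ?_⟩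
    rw [Bad.isSemistable_iff_bad HK hok (by rw [hpK]; exact h0), hpK] at hK
    exact hK
  · intro h
    obtain ⟨h1, h2, h3⟩ := not_mem_of_fiber f hLi hamp hF s hP hd (Bss d P) h
    rw [Bad.isSemistable_iff_bad Hs h1 (by rw [h2]; exact h0), h2]
    exact h3

/-- The fibre at `s` is `ℓ`-semistable iff `s` is not in `Z`. -/
theorem isEllSemistable_iff (ℓ : ℕ) :
    @ShStab.IsEllSemistable (S.residueField s) _ (f.fiber s) (fibOver f s)
      (CohIII.fiberMod f L s) (CohIII.fiberMod f F s) d ℓ ↔
    s ∉ Z f L F (fun Q => Blss d ℓ P (P - Q)) := by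
  let := fibOver f s
  have : IsProper (f.fiber s ↘ Spec (CommRingCat.of (S.residueField s))) := isProper_fiber f s
  have : IsLocallyNoetherian X := LocallyOfFiniteType.isLocallyNoetherian f
  have := Ascent.isLocallyNoetherian_of_proper (S.residueField s) (f.fiber s)
  have hLs := isAmple_fiber f hamp s
  have Hs := Facts.hilbFacts (S.residueField s) hLs
  have hps : Gies.hp (S.residueField s) (CohIII.fiberMod f L s) (CohIII.fiberMod f F s) = P :=
    Gies.hp_eq hP
  constructor
  · intro hss
    rw [not_mem_Z_iff f hLi hamp hF s hP hd (Blss d ℓ P)]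
    intro K _ _
    have := Ascent.isLocallyNoetherian_of_proper K (Curv2.bc (S.residueField s) (f.fiber s) K)
    have HK := Ascent.hilb_bc (k := S.residueField s)
      (fun k _ X _ _ L hL => Facts.hilbFacts k hL) hLs K
    have hK := AscGen.isEllSemistable_bc (k := S.residueField s)
      (fun k _ X _ _ L hL => Facts.hilbFacts k hL) hLs K hss
    have hpK := Ascent.hp_bc (k := S.residueField s)
      (fun k _ X _ _ L hL => Facts.hilbFacts k hL) hLs K hss.1
    rw [hps] at hpK
    have hok : Gies.okd K ((Scheme.Modules.pullback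
        (Curv2.bcFst (S.residueField s) (f.fiber s) K)).obj (CohIII.fiberMod f L s)) d
        ((Scheme.Modules.pullback (Curv2.bcFst (S.residueField s) (f.fiber s) K)).obj
          (CohIII.fiberMod f F s)) := ⟨hK.1, by rw [hpK]; exact hd⟩
    refine ⟨hok, hpK, ?_⟩
    rw [Bad.isEllSemistable_iff_bad HK hok (by rw [hpK]; exact h0), hpK] at hK
    exact hK
  · intro h
    obtain ⟨h1, h2, h3⟩ := not_mem_of_fiber f hLi hamp hF s hP hd (Blss d ℓ P) h
    rw [Bad.isEllSemistable_iff_bad Hs h1 (by rw [h2]; exact h0), h2]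
    exact h3

/-- The fibre at `s` is geometrically stable iff `s` is not in `Z`. -/
theorem isGeomStable_iff :
    @ShStab.IsGeomStable (S.residueField s) _ (f.fiber s) (fibOver f s)
      (CohIII.fiberMod f L s) (CohIII.fiberMod f F s) d ↔
    s ∉ Z f L F (fun Q => Bst d P (P - Q)) := by
  let := fibOver f s
  have : IsProper (f.fiber s ↘ Spec (CommRingCat.of (S.residueField s))) := isProper_fiber f s
  have : IsLocallyNoetherian X := LocallyOfFiniteType.isLocallyNoetherian f
  have := Ascent.isLocallyNoetherian_of_proper (S.residueField s) (f.fiber s)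
  have hLs := isAmple_fiber f hamp s
  have hFs : Coh.IsCoh (CohIII.fiberMod f F s) :=
    Groth.Agent.FormalA.PullbackQC.isCoh_pullback _ _ hF
  have hps : Gies.hp (S.residueField s) (CohIII.fiberMod f L s) (CohIII.fiberMod f F s) = P :=
    Gies.hp_eq hP
  rw [not_mem_Z_iff f hLi hamp hF s hP hd (Bst d P)]
  refine forall_congr' fun K => forall_congr' fun _ => forall_congr' fun _ => ?_
  have := Ascent.isLocallyNoetherian_of_proper K (Curv2.bc (S.residueField s) (f.fiber s) K)
  have HK := Ascent.hilb_bc (k := S.residueField s)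
    (fun k _ X _ _ L hL => Facts.hilbFacts k hL) hLs K
  have hpK := Ascent.hp_bc (k := S.residueField s)
    (fun k _ X _ _ L hL => Facts.hilbFacts k hL) hLs K hFs
  rw [hps] at hpK
  have hFK : Coh.IsCoh ((Scheme.Modules.pullback (Curv2.bcFst (S.residueField s) (f.fiber s) K)).obj
            (CohIII.fiberMod f F s)) := Groth.Agent.FormalA.PullbackQC.isCoh_pullback _ _ hFs
  have hok : Gies.okd K ((Scheme.Modules.pullback
      (Curv2.bcFst (S.residueField s) (f.fiber s) K)).obj (CohIII.fiberMod f L s)) d
      ((Scheme.Modules.pullback (Curv2.bcFst (S.residueField s) (f.fiber s) K)).obj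
        (CohIII.fiberMod f F s)) := ⟨hFK, by rw [hpK]; exact hd⟩
  have e := Bad.isStable_iff_bad HK hok (by rw [hpK]; exact h0)
  rw [hpK] at e
  constructor
  · intro h
    exact ⟨hok, hpK, e.mp h⟩
  · rintro ⟨-, -, h⟩
    exact e.mpr h

/-- The fibre at `s` is geometrically `ℓ`-stable iff `s` is not in `Z`. -/
theorem isGeomEllStable_iff (ℓ : ℕ) :
    (∀ (K : Type u) [Field K] [Algebra (S.residueField s) K],
      letI := fibOver f s
      ShStab.IsEllStable K (Curv2.bc (S.residueField s) (f.fiber s) K)
        ((Scheme.Modules.pullback (Curv2.bcFst (S.residueField s) (f.fiber s) K)).obj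
          (CohIII.fiberMod f L s))
        ((Scheme.Modules.pullback (Curv2.bcFst (S.residueField s) (f.fiber s) K)).obj
          (CohIII.fiberMod f F s)) d ℓ) ↔
    s ∉ Z f L F (fun Q => Blst d ℓ P (P - Q)) := by
  let := fibOver f s
  have : IsProper (f.fiber s ↘ Spec (CommRingCat.of (S.residueField s))) := isProper_fiber f s
  have : IsLocallyNoetherian X := LocallyOfFiniteType.isLocallyNoetherian f
  have := Ascent.isLocallyNoetherian_of_proper (S.residueField s) (f.fiber s)
  have hLs := isAmple_fiber f hamp s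
  have hFs : Coh.IsCoh (CohIII.fiberMod f F s) :=
    Groth.Agent.FormalA.PullbackQC.isCoh_pullback _ _ hF
  have hps : Gies.hp (S.residueField s) (CohIII.fiberMod f L s) (CohIII.fiberMod f F s) = P :=
    Gies.hp_eq hP
  rw [not_mem_Z_iff f hLi hamp hF s hP hd (Blst d ℓ P)]
  refine forall_congr' fun K => forall_congr' fun _ => forall_congr' fun _ => ?_
  have := Ascent.isLocallyNoetherian_of_proper K (Curv2.bc (S.residueField s) (f.fiber s) K)
  have HK := Ascent.hilb_bc (k := S.residueField s)
    (fun k _ X _ _ L hL => Facts.hilbFacts k hL) hLs K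
  have hpK := Ascent.hp_bc (k := S.residueField s)
    (fun k _ X _ _ L hL => Facts.hilbFacts k hL) hLs K hFs
  rw [hps] at hpK
  have hFK : Coh.IsCoh ((Scheme.Modules.pullback (Curv2.bcFst (S.residueField s) (f.fiber s) K)).obj
            (CohIII.fiberMod f F s)) := Groth.Agent.FormalA.PullbackQC.isCoh_pullback _ _ hFs
  have hok : Gies.okd K ((Scheme.Modules.pullback
      (Curv2.bcFst (S.residueField s) (f.fiber s) K)).obj (CohIII.fiberMod f L s)) d
      ((Scheme.Modules.pullback (Curv2.bcFst (S.residueField s) (f.fiber s) K)).obj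
        (CohIII.fiberMod f F s)) := ⟨hFK, by rw [hpK]; exact hd⟩
  have e := Bad.isEllStable_iff_bad (ℓ := ℓ) HK hok (by rw [hpK]; exact h0)
  rw [hpK] at e
  constructor
  · intro h
    exact ⟨hok, hpK, e.mp h⟩
  · rintro ⟨-, -, h⟩
    exact e.mpr h

end

section Open

variable {X S : Scheme.{u}} (f : X ⟶ S) {L F : X.Modules}

theorem fAmple_open (h : FAmple f L) {U : Scheme.{u}} (j : U ⟶ S) :
    FAmple (pullback.snd f j) ((Scheme.Modules.pullback (pullback.fst f j)).obj L) := by
  intro K _ t Y p q H
  exact Groth.Agent.Flat2H.FamDict.isAmple_of_iso ((Scheme.Modules.pullbackComp _ _).app L).symm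
    (h K _ Y _ q (H.paste_horiz (IsPullback.of_hasPullback f j)))

theorem gls_open {d : ℕ} {a₀ μ₀ : ℚ} (h : GLS f L F d a₀ μ₀) {U : Scheme.{u}} (j : U ⟶ S) :
    GLS (pullback.snd f j) ((Scheme.Modules.pullback (pullback.fst f j)).obj L)
      ((Scheme.Modules.pullback (pullback.fst f j)).obj F) d a₀ μ₀ := by
  obtain ⟨PS, hfin, hPS⟩ := h
  refine ⟨PS, hfin, ?_⟩
  intro K _ _ t Y p q H G π hπ hG hp Q hQ h1 h2
  let : Y.Over (Spec (CommRingCat.of K)) := ⟨q⟩
  have hπ' : Epi (((Scheme.Modules.pullbackComp p (pullback.fst f j)).app F).inv ≫ π) := epi_comp _ _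
  exact hPS K _ Y _ q (H.paste_horiz (IsPullback.of_hasPullback f j)) G
    (((Scheme.Modules.pullbackComp p (pullback.fst f j)).app F).inv ≫ π) hπ' hG hp Q
    (Twist.isHilbPoly_iso ((Scheme.Modules.pullbackComp _ _).app L) (Iso.refl G) hQ) h1 h2

variable [IsNoetherian S] [IsProper f] (hL : RelAmple.IsRelAmple f L) (hF : Coh.IsCoh F)
  {P : Polynomial ℚ} {d : ℕ} (U : S.Opens)
  (hP : ∀ s ∈ U, @ShStab.IsHilbPoly (S.residueField s) _ (f.fiber s)
    (fibOver f s) (CohIII.fiberMod f L s) (CohIII.fiberMod f F s) P)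

include hL hF hP in
theorem fHilb_open : FHilb (pullback.snd f U.ι) ((Scheme.Modules.pullback (pullback.fst f U.ι)).obj L)
    ((Scheme.Modules.pullback (pullback.fst f U.ι)).obj F) P := by
  intro K _ t Y p q H
  let : Y.Over (Spec (CommRingCat.of K)) := ⟨q⟩
  have h1 := hilb_at f (RelAmp.isInvertible hL) hF ((t ≫ U.ι) (IsLocalRing.closedPoint K)) (hP _ (t _).2)
    K (t ≫ U.ι) _ rfl Y _ q (H.paste_horiz (IsPullback.of_hasPullback f U.ι))
  exact Twist.isHilbPoly_iso ((Scheme.Modules.pullbackComp _ _).app L).symm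
    ((Scheme.Modules.pullbackComp _ _).app F).symm h1

include hL hF hP in
theorem isOpen_of_bad (hd : P.natDegree ≤ d) (h0 : 0 < alpha d P) {B : Polynomial ℚ → Prop} (hB : BadSet d P B) :
    IsOpen {s : S | s ∈ U ∧ s ∉ Z f L F (fun Q => B (P - Q))} := by
  have hLi := RelAmp.isInvertible hL
  have hclosed : IsClosed (Z (pullback.snd f U.ι) ((Scheme.Modules.pullback (pullback.fst f U.ι)).obj L)
      ((Scheme.Modules.pullback (pullback.fst f U.ι)).obj F) (fun Q => B (P - Q))) := by
    have : IsLocallyNoetherian X := LocallyOfFiniteType.isLocallyNoetherian f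
    refine isClosed_Z_bad (Groth.Agent.Fdesc.LocGen.isInvertible_pullback _ hLi)
      (fAmple_open f (RelAmp.fAmple hL) U.ι) (Groth.Agent.FormalA.PullbackQC.isCoh_pullback _ _ hF)
      (fHilb_open f hL hF U hP) hd h0 hB (gls_open f (RelAmp.gls hL hF d _ _) U.ι).gLem fun Φ => ?_
    have h1 : Z (pullback.snd f U.ι) ((Scheme.Modules.pullback (pullback.fst f U.ι)).obj L)
      ((Scheme.Modules.pullback (pullback.fst f U.ι)).obj F) (fun Q => Q = Φ) =
        U.ι ⁻¹' (Z f L F (fun Q => Q = Φ)) := by
      ext y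
      exact mem_Z_open_iff f F hLi U.ι _ y
    rw [h1]
    exact (RelAmp.isClosed_Z hL hF Φ).preimage U.ι.continuous
  have h2 : {s : S | s ∈ U ∧ s ∉ Z f L F (fun Q => B (P - Q))} =
      U.ι '' (Z (pullback.snd f U.ι) ((Scheme.Modules.pullback (pullback.fst f U.ι)).obj L)
      ((Scheme.Modules.pullback (pullback.fst f U.ι)).obj F) (fun Q => B (P - Q)))ᶜ := by
    ext s
    constructor
    · rintro ⟨hs, h⟩
      exact ⟨⟨s, hs⟩, fun h' => h ((mem_Z_open_iff f F hLi U.ι _ _).1 h'), rfl⟩
    · rintro ⟨y, hy, rfl⟩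
      exact ⟨y.2, fun h' => hy ((mem_Z_open_iff f F hLi U.ι _ y).2 h')⟩
  rw [h2]
  exact U.ι.isOpenEmbedding.isOpenMap _ hclosed.isOpen_compl

include hL hF hP

/-- **Openness of semistability** over an open part of the base. -/
theorem isOpen_semistable (hd : P.natDegree ≤ d) (h0 : 0 < alpha d P) :
    IsOpen {s : S | s ∈ U ∧ @ShStab.IsSemistable (S.residueField s) _ (f.fiber s)
    (fibOver f s) (CohIII.fiberMod f L s) (CohIII.fiberMod f F s) d} := by
  have h := isOpen_of_bad f hL hF U hP hd h0 (badSet_ss hd h0)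
  convert h using 2
  ext s
  refine and_congr_right fun hs => ?_
  exact isSemistable_iff f (RelAmp.isInvertible hL) (RelAmp.fAmple hL) hF s (hP s hs) hd h0

/-- **Openness of `ℓ`-semistability** over an open part of the base. -/
theorem isOpen_ellSemistable (hd : P.natDegree ≤ d) (h0 : 0 < alpha d P) {ℓ : ℕ} (hℓ : 1 ≤ ℓ) :
    IsOpen {s : S | s ∈ U ∧ @ShStab.IsEllSemistable (S.residueField s) _ (f.fiber s)
    (fibOver f s) (CohIII.fiberMod f L s) (CohIII.fiberMod f F s) d ℓ} := by
  have h := isOpen_of_bad f hL hF U hP hd h0 (badSet_lss hℓ h0)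
  convert h using 2
  ext s
  refine and_congr_right fun hs => ?_
  exact isEllSemistable_iff f (RelAmp.isInvertible hL) (RelAmp.fAmple hL) hF s (hP s hs) hd h0 ℓ

end Open

end K846.OpenPt
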