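import Groth.Agent.ShStab.K846.QClosed

/-!
# The scheme of quotients with a given Hilbert polynomial, at field-valued points

`exists_quotPhi`: over an affine Noetherian base, `X` closed in `P^n_S`, `L = O(1)`, `F` coherent and `Φ` a
polynomial: a proper `S`-scheme `Q` with a flat coherent quotient of `F_Q` such that
(i) at every field-valued point of `Q` the quotient has Hilbert polynomial `Φ` (with respect to `L`);
(ii) every coherent quotient with Hilbert polynomial `Φ` of a field-valued fibre of `F` comes from a point of `Q`.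
-/

set_option autoImplicit false
universe u
open CategoryTheory CategoryTheory.Limits AlgebraicGeometry

namespace K846.QuotPhi

open Groth.Agent Groth.Agent.Fga.QTDefs Groth.Agent.Fga.QT4b Groth.Agent.Fga.QT6a Groth.Agent.Fga.QT6c
  Groth.Agent.Fga.QA1 Groth.Agent.Fga.QT8 K277.ChiHilb K277.FibChi
  K277.GlobRep K846.FieldPt K846.HilbChi K846.QClosed

variable {n : ℕ} {X S : Scheme.{u}} {f : X ⟶ S} {g₀ : X ⟶ PZ n} {L F : X.Modules}
  [IsClosedImmersion (toPS g₀ f)] [IsProper f]

theorem exists_quotPhi [IsAffine S] [IsLocallyNoetherian S]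
    (e : L ≅ (Scheme.Modules.pullback g₀).obj (Twist.twistProjSpace n (ULift.{u} ℤ) 1)) (hF : Coh.IsCoh F)
    (Φ : Polynomial ℚ) :
    ∃ (Q : Over S) (Ku : FGA.QuotSet f F Q), IsProper Q.hom ∧ IsLocallyNoetherian Q.left ∧
      (∃ (r : ℕ) (c : Q.left ⟶ CohB1.ProjSpaceOver r S),
        IsClosedImmersion c ∧ c ≫ CohB1.ProjSpaceOver.toBase r S = Q.hom) ∧
      (∀ (k : Type u) [Field k] (s : Spec (CommRingCat.of k) ⟶ S) (g : Over.mk s ⟶ Q),
        @ShStab.IsHilbPoly k _ (pullback f s) ⟨pullback.snd f s⟩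
          ((Scheme.Modules.pullback (pullback.fst f s)).obj L)
          (cokernel (FGA.quotPull f F g Ku.1).arrow) Φ ∧
        Coh.IsCoh (cokernel (FGA.quotPull f F g Ku.1).arrow)) ∧
      (∀ (k : Type u) [Field k] (s : Spec (CommRingCat.of k) ⟶ S) (G : (pullback f s).Modules)
        (π : (Scheme.Modules.pullback (pullback.fst f s)).obj F ⟶ G) [Epi π], Coh.IsCoh G →
        @ShStab.IsHilbPoly k _ (pullback f s) ⟨pullback.snd f s⟩
          ((Scheme.Modules.pullback (pullback.fst f s)).obj L) G Φ →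
        ∃ g : Over.mk s ⟶ Q, FGA.quotPull f F g Ku.1 = Subobject.mk (kernel.ι π)) := by
  obtain ⟨a, p, E, hE⟩ := exists_globGen f g₀ hF
  obtain ⟨Q, K, hQ, hK, huniv, r, c, hc, hcQ⟩ := K277.PartMain.main hF hE Φ
  have hprop : IsProper Q.hom := by
    rw [← hcQ]
    have := Ega3B.ProjProper.isProper_toBase r S
    infer_instance
  refine ⟨Q, K, hprop, hQ, ⟨r, c, hc, hcQ⟩, ?_, ?_⟩
  · intro k _ s g
    let e₁ := Fga.QT6b.cokernelPullIso (PicF.XTmap f g) (FGA.ETiso f F g) K.1
    have hM' : Coh.IsCoh ((Scheme.Modules.pullback (PicF.XTmap f g)).obj (cokernel K.1.arrow)) :=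
      FormalA.PullbackQC.isCoh_pullback _ _ K.2.1
    have hM : Coh.IsCoh (cokernel (FGA.quotPull f F g K.1).arrow) :=
      Groth.Agent.CohqB.LocalQC.isCoh_of_iso e₁.symm hM'
    refine ⟨?_, hM⟩
    refine (isHilbPoly_field_iff (g₀ := g₀) e s hM Φ).2 fun m => ?_
    let _ : (PicF.XT f (Over.mk s)).Over (Spec (CommRingCat.of k)) := ⟨Groth.Agent.Fga.QT6c.prB f s⟩
    have h1 := field_eq f g₀ Q K.2.1.1 s g m
    have h2 : chi k (gT f g₀ (Over.mk s)) (cokernel (FGA.quotPull f F g K.1).arrow) m =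
        chi k (gT f g₀ (Over.mk s)) ((Scheme.Modules.pullback (PicF.XTmap f g)).obj (cokernel K.1.arrow)) m :=
      Fga.EulerIso.eulerCharLE_congr k (Ega2.Tens.mapTIso e₁ (Iso.refl _)) n
    rw [← hK (g.left (IsLocalRing.closedPoint k)) m]
    rw [← h1, ← h2]
  · intro k _ t G π hπ hG hQ'
    let T : Over S := Over.mk t
    let K₁ : Subobject (FGA.ET f F T) := Subobject.mk (kernel.ι π)
    let e₁ : cokernel K₁.arrow ≅ G := cokerIso π
    have hG₁ : Coh.IsCoh (cokernel K₁.arrow) := Groth.Agent.CohqB.LocalQC.isCoh_of_iso e₁.symm hG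
    let K' : FGA.QuotSet f F T := ⟨K₁, hG₁, flat_over_field (K := k) _ _⟩
    have : IsLocallyNoetherian T.left := inferInstanceAs (IsLocallyNoetherian (Spec (CommRingCat.of k)))
    obtain ⟨g, hg, -⟩ := huniv T K' (by
      intro t' m
      obtain rfl : t' = IsLocalRing.closedPoint k := eq_closedPoint _ _
      have h1 := (isHilbPoly_field_iff (g₀ := g₀) e t hG Φ).1 hQ' m
      rw [← h1]
      let _ : (PicF.XT f (Over.mk t)).Over (Spec (CommRingCat.of k)) := ⟨Groth.Agent.Fga.QT6c.prB f t⟩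
      have h2 := field_eq f g₀ T hG₁.1 t (𝟙 T) m
      have h3 : ((𝟙 T : T ⟶ T).left (IsLocalRing.closedPoint k)) = IsLocalRing.closedPoint k := rfl
      rw [h3] at h2
      change (chiAt f g₀ T (IsLocalRing.closedPoint k) (cokernel K₁.arrow) m : ℚ) = _
      rw [← h2]
      norm_cast
      have h4 : PicF.XTmap f (𝟙 T) = 𝟙 _ := by
        apply pullback.hom_ext <;> simp [PicF.XTmap, T] <;> rfl
      let e₂ : (Scheme.Modules.pullback (PicF.XTmap f (𝟙 T))).obj (cokernel K₁.arrow) ≅ G :=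
        (Scheme.Modules.pullbackCongr h4).app _ ≪≫ (Scheme.Modules.pullbackId _).app _ ≪≫ e₁
      exact Fga.EulerIso.eulerCharLE_congr k (Ega2.Tens.mapTIso e₂ (Iso.refl _)) n)
    exact ⟨g, hg⟩

end K846.QuotPhi
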