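import Groth.Agent.ShStab.K846.OpenPt

/-!
# Semistability of a field-valued fibre and of the fibre over the residue field
-/

set_option autoImplicit false
universe u
open CategoryTheory CategoryTheory.Limits AlgebraicGeometry StabCat

namespace K846.SSPt

open K849.PolyOrd BadPoly FieldPt OpenMain OpenFib Localize OpenPt

/-- Semistability in terms of quotients. -/
theorem isSemistable_iff_hasQuot {K : Type u} [Field K] {Y : Scheme.{u}} [Y.Over (Spec (CommRingCat.of K))]
    [IsProper (Y ↘ Spec (CommRingCat.of K))] {L F : Y.Modules} (hL : CohB1.IsAmple L) (hF : Coh.IsCoh F)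
    {P : Polynomial ℚ} (hP : ShStab.IsHilbPoly K Y L F P) {d : ℕ} (hd : P.natDegree ≤ d) (h0 : 0 < alpha d P) :
    ShStab.IsSemistable K Y L F d ↔
      ¬ HasQuot K (Y ↘ Spec (CommRingCat.of K)) L F (fun Q => Bss d P (P - Q)) := by
  have := Ascent.isLocallyNoetherian_of_proper K Y
  have H := Facts.hilbFacts K hL
  have hp := Gies.hp_eq hP
  have h1 := Bad.isSemistable_iff_bad H (E := F) (d := d) ⟨hF, by rw [hp]; exact hd⟩ (by rw [hp]; exact h0)
  have h2 := hasQuot_iff (K := K) hL hF (Bss d P)
  rw [hp] at h1 h2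
  rw [h1, h2]
  push Not
  rfl

/-- Semistability of `ℓ`-type in terms of quotients. -/
theorem isEllSemistable_iff_hasQuot {K : Type u} [Field K] {Y : Scheme.{u}} [Y.Over (Spec (CommRingCat.of K))]
    [IsProper (Y ↘ Spec (CommRingCat.of K))] {L F : Y.Modules} (hL : CohB1.IsAmple L) (hF : Coh.IsCoh F)
    {P : Polynomial ℚ} (hP : ShStab.IsHilbPoly K Y L F P) {d : ℕ} (hd : P.natDegree ≤ d) (h0 : 0 < alpha d P)
    (ℓ : ℕ) :
    ShStab.IsEllSemistable K Y L F d ℓ ↔
      ¬ HasQuot K (Y ↘ Spec (CommRingCat.of K)) L F (fun Q => Blss d ℓ P (P - Q)) := by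
  have := Ascent.isLocallyNoetherian_of_proper K Y
  have H := Facts.hilbFacts K hL
  have hp := Gies.hp_eq hP
  have h1 := Bad.isEllSemistable_iff_bad H (E := F) (d := d) (ℓ := ℓ) ⟨hF, by rw [hp]; exact hd⟩
    (by rw [hp]; exact h0)
  have h2 := hasQuot_iff (K := K) hL hF (Blss d ℓ P)
  rw [hp] at h1 h2
  rw [h1, h2]
  push Not
  rfl

section

variable {X S : Scheme.{u}} [IsLocallyNoetherian S] (f : X ⟶ S) [IsProper f] {L : X.Modules}
  (hLi : PicF.IsInvertible L) (hamp : FAmple f L) {F : X.Modules} (hF : Coh.IsCoh F)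
  {P : Polynomial ℚ} (s : S) (hP : @ShStab.IsHilbPoly (S.residueField s) _ (f.fiber s)
    (fibOver f s) (CohIII.fiberMod f L s) (CohIII.fiberMod f F s) P)
  {d : ℕ} (hd : P.natDegree ≤ d) (h0 : 0 < alpha d P)
  {K : Type u} [Field K] (t : Spec (CommRingCat.of K) ⟶ S) (pt : Spec (CommRingCat.of K)) (hs : t pt = s)
  {Y : Scheme.{u}} [Y.Over (Spec (CommRingCat.of K))] (p : Y ⟶ X)
  (H : IsPullback p (Y ↘ Spec (CommRingCat.of K)) f t)

include hLi hs H in
theorem hasQuot_pt_iff {B : Polynomial ℚ → Prop}
    (h : letI := fibOver f s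
      s ∈ Z f L F B → HasQuot (S.residueField s) (f.fiberToSpecResidueField s)
        (CohIII.fiberMod f L s) (CohIII.fiberMod f F s) B) :
    HasQuot K (Y ↘ Spec (CommRingCat.of K)) ((Scheme.Modules.pullback p).obj L)
      ((Scheme.Modules.pullback p).obj F) B ↔
    HasQuot (S.residueField s) (f.fiberToSpecResidueField s)
        (CohIII.fiberMod f L s) (CohIII.fiberMod f F s) B := by
  constructor
  · intro hq
    apply h
    rw [← hs]
    exact mem_Z_of_isPullback f hLi F H hq pt
  · intro hq
    obtain ⟨_, ht⟩ := exists_algebra t pt hs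
    exact hasQuot_trans f hLi F (K := S.residueField s) (K' := K) ht (isPullback_fiber f s) H hq

include hLi hamp hF hP hd h0 hs H

/-- Semistability of a field-valued fibre is that of the fibre over the residue field. -/
theorem isSemistable_pt_iff :
    ShStab.IsSemistable K Y ((Scheme.Modules.pullback p).obj L) ((Scheme.Modules.pullback p).obj F) d ↔
    @ShStab.IsSemistable (S.residueField s) _ (f.fiber s) (fibOver f s)
      (CohIII.fiberMod f L s) (CohIII.fiberMod f F s) d := by
  let := fibOver f s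
  have : IsProper (f.fiber s ↘ Spec (CommRingCat.of (S.residueField s))) := isProper_fiber f s
  have : IsLocallyNoetherian X := LocallyOfFiniteType.isLocallyNoetherian f
  have := Ascent.isLocallyNoetherian_of_proper (S.residueField s) (f.fiber s)
  have : IsProper (Y ↘ Spec (CommRingCat.of K)) := MorphismProperty.of_isPullback H ‹IsProper f›
  have := Ascent.isLocallyNoetherian_of_proper K Y
  have hLs := isAmple_fiber f hamp s
  have hFs : Coh.IsCoh (CohIII.fiberMod f F s) := Groth.Agent.FormalA.PullbackQC.isCoh_pullback _ _ hF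
  have hLY := hamp K t Y p _ H
  have hFY : Coh.IsCoh ((Scheme.Modules.pullback p).obj F) :=
    Groth.Agent.FormalA.PullbackQC.isCoh_pullback _ _ hF
  have hPY : ShStab.IsHilbPoly K Y ((Scheme.Modules.pullback p).obj L) ((Scheme.Modules.pullback p).obj F) P :=
    hilb_at f hLi hF s hP K t pt hs Y p _ H
  have e1 := isSemistable_iff_hasQuot hLY hFY hPY hd h0
  have e2 := isSemistable_iff_hasQuot hLs hFs hP hd h0
  refine e1.trans ((not_congr ?_).trans e2.symm)
  refine hasQuot_pt_iff f hLi s t pt hs p H fun hZ => ?_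
  by_contra hq
  exact (isSemistable_iff f hLi hamp hF s hP hd h0).1 (e2.2 hq) hZ

/-- `ℓ`-semistability of a field-valued fibre is that of the fibre over the residue field. -/
theorem isEllSemistable_pt_iff (ℓ : ℕ) :
    ShStab.IsEllSemistable K Y ((Scheme.Modules.pullback p).obj L) ((Scheme.Modules.pullback p).obj F) d ℓ ↔
    @ShStab.IsEllSemistable (S.residueField s) _ (f.fiber s) (fibOver f s)
      (CohIII.fiberMod f L s) (CohIII.fiberMod f F s) d ℓ := by
  let := fibOver f s
  have : IsProper (f.fiber s ↘ Spec (CommRingCat.of (S.residueField s))) := isProper_fiber f s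
  have : IsLocallyNoetherian X := LocallyOfFiniteType.isLocallyNoetherian f
  have := Ascent.isLocallyNoetherian_of_proper (S.residueField s) (f.fiber s)
  have : IsProper (Y ↘ Spec (CommRingCat.of K)) := MorphismProperty.of_isPullback H ‹IsProper f›
  have := Ascent.isLocallyNoetherian_of_proper K Y
  have hLs := isAmple_fiber f hamp s
  have hFs : Coh.IsCoh (CohIII.fiberMod f F s) := Groth.Agent.FormalA.PullbackQC.isCoh_pullback _ _ hF
  have hLY := hamp K t Y p _ H
  have hFY : Coh.IsCoh ((Scheme.Modules.pullback p).obj F) :=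
    Groth.Agent.FormalA.PullbackQC.isCoh_pullback _ _ hF
  have hPY : ShStab.IsHilbPoly K Y ((Scheme.Modules.pullback p).obj L) ((Scheme.Modules.pullback p).obj F) P :=
    hilb_at f hLi hF s hP K t pt hs Y p _ H
  have e1 := isEllSemistable_iff_hasQuot hLY hFY hPY hd h0 ℓ
  have e2 := isEllSemistable_iff_hasQuot hLs hFs hP hd h0 ℓ
  refine e1.trans ((not_congr ?_).trans e2.symm)
  refine hasQuot_pt_iff f hLi s t pt hs p H fun hZ => ?_
  by_contra hq
  exact (isEllSemistable_iff f hLi hamp hF s hP hd h0 ℓ).1 (e2.2 hq) hZ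

end

end K846.SSPt
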