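import Groth.Agent.ShStab.K846.QuotPt
import Groth.Agent.Fdesc.LocGenPullback
import Groth.Agent.Pic13.H942.ChiFam
import Groth.Agent.Sga67.CohBasic

/-!
# Submodules over a field extension specialize to submodules over a finite extension
-/

set_option autoImplicit false
universe u
open CategoryTheory CategoryTheory.Limits AlgebraicGeometry Polynomial

namespace K846.Spread

/-- The canonical structure on a base change to a field extension. -/
noncomputable abbrev bcOver (k : Type u) [Field k] (X : Scheme.{u}) [X.Over (Spec (CommRingCat.of k))]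
    (K : Type u) [Field K] [Algebra k K] : (Curv2.bc k X K).Over (Spec (CommRingCat.of K)) :=
  ⟨Curv2.bcSnd k X K⟩

/-- Two points of a Quot scheme, one specializing to the other, have quotients with the same Hilbert
polynomial. -/
theorem isHilbPoly_of_specializes {k : Type u} [Field k] {X : Scheme.{u}}
    (f : X ⟶ Spec (CommRingCat.of k)) [IsProper f] {N : X.Modules} (hN : PicF.IsInvertible N)
    (E : X.Modules) (Q : Over (Spec (CommRingCat.of k))) [IsLocallyNoetherian Q.left]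
    (Ku : FGA.QuotSet f E Q)
    {K : Type u} [Field K] (σ : Spec (CommRingCat.of K) ⟶ Spec (CommRingCat.of k))
    (g : Over.mk σ ⟶ Q) (pt : Spec (CommRingCat.of K))
    {K₁ : Type u} [Field K₁] (σ₁ : Spec (CommRingCat.of K₁) ⟶ Spec (CommRingCat.of k))
    (g₁ : Over.mk σ₁ ⟶ Q) (pt₁ : Spec (CommRingCat.of K₁)) (hs : g.left pt ⤳ g₁.left pt₁) (P : ℚ[X]) :
    @ShStab.IsHilbPoly K _ (pullback f σ) ⟨pullback.snd f σ⟩
      ((Scheme.Modules.pullback (pullback.fst f σ)).obj N) (cokernel (FGA.quotPull f E g Ku.1).arrow) P ↔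
    @ShStab.IsHilbPoly K₁ _ (pullback f σ₁) ⟨pullback.snd f σ₁⟩
      ((Scheme.Modules.pullback (pullback.fst f σ₁)).obj N)
      (cokernel (FGA.quotPull f E g₁ Ku.1).arrow) P := by
  let _ : (PicF.XT f (Over.mk σ)).Over (Spec (CommRingCat.of K)) := ⟨pullback.snd f σ⟩
  let _ : (PicF.XT f (Over.mk σ₁)).Over (Spec (CommRingCat.of K₁)) := ⟨pullback.snd f σ₁⟩
  have hlf : LocallyOfFinitePresentation f := by
    infer_instance
  have hln : IsLocallyNoetherian (PicF.XT f Q) := by
    exact LocallyOfFiniteType.isLocallyNoetherian (PicF.XTproj f Q)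
  obtain ⟨e, -⟩ := Groth.Agent.Fga.QuotPull.exists_cokernel_quotPull (f := f) (E := E) g Ku.1
  obtain ⟨e₁, -⟩ := Groth.Agent.Fga.QuotPull.exists_cokernel_quotPull (f := f) (E := E) g₁ Ku.1
  have hN' : PicF.IsInvertible ((Scheme.Modules.pullback (pullback.fst f Q.hom)).obj N) :=
    Groth.Agent.Fdesc.LocGen.isInvertible_pullback _ hN
  have key := Twist.isHilbPoly_of_specializes (PicF.XTproj f Q) g.left pt (PicF.XTmap f g)
    (Groth.Agent.Picfga.HilbPull.isPullback_XTmap f g) g₁.left pt₁ (PicF.XTmap f g₁)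
    (Groth.Agent.Picfga.HilbPull.isPullback_XTmap f g₁) hs hN' Ku.2.1 Ku.2.2 (P := P)
  refine (Twist.isHilbPoly_iso_iff (FGA.ETiso f N g).symm e).trans (key.trans
    (Twist.isHilbPoly_iso_iff (FGA.ETiso f N g₁) e₁.symm))

theorem isCoh_sub {Y : Scheme.{u}} [IsLocallyNoetherian Y] {A : Y.Modules} (hA : Coh.IsCoh A)
    (K : Subobject A) (hK : Coh.IsCoh (cokernel K.arrow)) :
    Coh.IsCoh (Subobject.underlying.obj K : Y.Modules) := by
  have h1 := Groth.Agent.Sga67.CohBasic.isCoh_kernel (cokernel.π K.arrow) hA hK.1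
  exact Groth.Agent.Sga67.CohBasic.isCoh_of_iso
    (asIso (Abelian.factorThruImage K.arrow) : _ ≅ kernel (cokernel.π K.arrow)).symm h1

/-- A point of the Quot scheme gives a coherent submodule. -/
theorem exists_sub {k : Type u} [Field k] {X : Scheme.{u}}
    (f : X ⟶ Spec (CommRingCat.of k)) [IsProper f] {E : X.Modules} (hE : Coh.IsCoh E)
    (Q : Over (Spec (CommRingCat.of k))) (Ku : FGA.QuotSet f E Q)
    (T : Over (Spec (CommRingCat.of k))) [IsLocallyNoetherian T.left] (g₁ : T ⟶ Q) :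
    ∃ (F₁ : (PicF.XT f T).Modules) (ι₁ : F₁ ⟶ FGA.ET f E T),
      Mono ι₁ ∧ Coh.IsCoh F₁ ∧ Nonempty (cokernel (FGA.quotPull f E g₁ Ku.1).arrow ≅ cokernel ι₁) := by
  have hK₁ := Groth.Agent.Fga.QuotPull.quotPull_mem (f := f) (E := E) g₁ Ku.2
  have hln : IsLocallyNoetherian (PicF.XT f T) :=
    LocallyOfFiniteType.isLocallyNoetherian (PicF.XTproj f T)
  have hEK : Coh.IsCoh (FGA.ET f E T) :=
    Groth.Agent.FormalA.PullbackQC.isCoh_pullback _ _ hE
  exact ⟨_, (FGA.quotPull f E g₁ Ku.1).arrow, inferInstance, isCoh_sub hEK _ hK₁.1, ⟨Iso.refl _⟩⟩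

/-- Submodules over a field extension specialize to submodules over a finite extension, with the same
Hilbert polynomial of the quotient. -/
theorem exists_finite {k : Type u} [Field k] {X : Scheme.{u}}
    (f : X ⟶ Spec (CommRingCat.of k)) [IsProper f] (hL : ∃ L : X.Modules, CohB1.IsAmple L)
    {N : X.Modules} (hN : PicF.IsInvertible N) {E : X.Modules} (hE : Coh.IsCoh E)
    {K : Type u} [Field K] (σ : Spec (CommRingCat.of K) ⟶ Spec (CommRingCat.of k))
    {F : (pullback f σ).Modules} (hF : Coh.IsCoh F)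
    (ι : F ⟶ (Scheme.Modules.pullback (pullback.fst f σ)).obj E) [Mono ι] :
    ∃ (k₁ : Type u) (_ : Field k₁) (_ : Algebra k k₁) (_ : Module.Finite k k₁)
      (F₁ : (pullback f (Spec.map (CommRingCat.ofHom (algebraMap k k₁)))).Modules)
      (ι₁ : F₁ ⟶ (Scheme.Modules.pullback (pullback.fst f
        (Spec.map (CommRingCat.ofHom (algebraMap k k₁))))).obj E) (_ : Mono ι₁),
      Coh.IsCoh F₁ ∧ ∀ P : ℚ[X],
      @ShStab.IsHilbPoly K _ (pullback f σ) ⟨pullback.snd f σ⟩
        ((Scheme.Modules.pullback (pullback.fst f σ)).obj N) (cokernel ι) P ↔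
      @ShStab.IsHilbPoly k₁ _ (pullback f (Spec.map (CommRingCat.ofHom (algebraMap k k₁))))
        ⟨pullback.snd f (Spec.map (CommRingCat.ofHom (algebraMap k k₁)))⟩
        ((Scheme.Modules.pullback (pullback.fst f
          (Spec.map (CommRingCat.ofHom (algebraMap k k₁))))).obj N) (cokernel ι₁) P := by
  obtain ⟨Q, Ku, hQ, hft⟩ := QuotPt.exists_quot f hL E hE
  have := hQ.1
  have hT : IsLocallyNoetherian (Over.mk σ).left :=
    inferInstanceAs (IsLocallyNoetherian (Spec (CommRingCat.of K)))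
  have hln : IsLocallyNoetherian (pullback f σ) :=
    LocallyOfFiniteType.isLocallyNoetherian (pullback.snd f σ)
  have hEK : Coh.IsCoh ((Scheme.Modules.pullback (pullback.fst f σ)).obj E) :=
    Groth.Agent.FormalA.PullbackQC.isCoh_pullback _ _ hE
  -- the quotient
  let e₀ : cokernel (Subobject.mk ι).arrow ≅ cokernel ι :=
    cokernel.mapIso _ _ (Subobject.underlyingIso ι) (Iso.refl _) (by simp)
  have hc : Coh.IsCoh (cokernel (Subobject.mk ι).arrow) :=
    Groth.Agent.Sga67.CohBasic.isCoh_of_iso e₀.symm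
      (Groth.Agent.Sga67.CohBasic.isCoh_cokernel ι hF.1 hEK)
  obtain ⟨g, hg, -⟩ := hQ.2 (Over.mk σ) ⟨Subobject.mk ι, hc,
    Groth.Agent.Pic13.H942.ChiFam.flat_over_field _ _⟩
  obtain ⟨k₁, _, _, hfin, g₁, pt₁, hs⟩ := QuotPt.exists_finite_pt Q
    (g.left (IsLocalRing.closedPoint K))
  have hT₁ : IsLocallyNoetherian (Over.mk (Spec.map (CommRingCat.ofHom (algebraMap k k₁)))).left :=
    inferInstanceAs (IsLocallyNoetherian (Spec (CommRingCat.of k₁)))
  obtain ⟨F₁, ι₁, hι₁, hF₁, ⟨e₁⟩⟩ := exists_sub f hE Q Ku _ g₁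
  refine ⟨k₁, inferInstance, inferInstance, hfin, F₁, ι₁, hι₁, hF₁, fun P => ?_⟩
  have h1 := isHilbPoly_of_specializes f hN E Q Ku σ g (IsLocalRing.closedPoint K) _ g₁ pt₁ hs P
  rw [hg] at h1
  refine (@Twist.isHilbPoly_iso_iff K _ (pullback f σ) ⟨pullback.snd f σ⟩ _ _ _ _
      (Iso.refl _) e₀.symm P).trans (h1.trans ?_)
  exact @Twist.isHilbPoly_iso_iff k₁ _ (pullback f _) ⟨pullback.snd f _⟩ _ _ _ _
      (Iso.refl _) e₁ P

end K846.Spread
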