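import Groth.Agent.ShStab.K846.Ascent2
import Groth.Agent.ShStab.K846.JointSt

/-!
# Stable and simple implies geometrically stable
-/

set_option autoImplicit false
universe u
open CategoryTheory CategoryTheory.Limits AlgebraicGeometry Polynomial

namespace K846.StableExt

attribute [local instance] Abelian.hasFiniteBiproducts

open K849.PolyOrd Ascent

section Psi

variable {X X' S S' : Scheme.{u}} (p : X ⟶ S) (q : X' ⟶ S') (f : S' ⟶ S) (g : X' ⟶ X)

theorem psi_add (E : X.Modules) (r s : Γ(S', ⊤)) :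
    FinPush.psi q g E (r + s) = FinPush.psi q g E r + FinPush.psi q g E s := by
  refine Scheme.Modules.hom_ext _ _ fun U => ?_
  ext m
  rw [Scheme.Modules.Hom.add_app]
  change (FinPush.psi q g E (r + s)).app U m =
    (FinPush.psi q g E r).app U m + (FinPush.psi q g E s).app U m
  rw [FinPush.psi_app, FinPush.psi_app, FinPush.psi_app, map_add, add_smul]
  rfl

theorem psi_zero (E : X.Modules) : FinPush.psi q g E 0 = 0 := by
  have := psi_add q g E 0 0
  rwa [add_zero, left_eq_add] at this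

theorem psi_sum (E : X.Modules) {ι : Type*} (s : Finset ι) (r : ι → Γ(S', ⊤)) :
    FinPush.psi q g E (∑ j ∈ s, r j) = ∑ j ∈ s, FinPush.psi q g E (r j) := by
  classical
  induction s using Finset.induction_on with
  | empty => simp [psi_zero]
  | insert a s ha ih => rw [Finset.sum_insert ha, Finset.sum_insert ha, psi_add, ih]

theorem smul_psi (w : g ≫ p = q ≫ f) (E : X.Modules) (c : Γ(S, ⊤)) (r : Γ(S', ⊤)) :
    Formal.smulModΓ E (p.appTop c) ≫ FinPush.psi q g E r = FinPush.psi q g E (f.appTop c * r) := by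
  refine Scheme.Modules.hom_ext _ _ fun U => ?_
  ext m
  have h0 : (Formal.smulModΓ E (p.appTop c)).app U m = (p.appLE ⊤ U le_top c : Γ(X, U)) • m := rfl
  have h1 := FinPush.psi_app q g E r U ((p.appLE ⊤ U le_top c : Γ(X, U)) • m)
  have h2 := Groth.Agent.CurvesA.FlatH0.sec_base_smul p q f g w E (le_refl (g ⁻¹ᵁ U)) c m
  have h3 := FinPush.psi_app q g E (f.appTop c * r) U m
  refine (congrArg (fun y => (FinPush.psi q g E r).app U y) h0).trans
    (h1.trans (Eq.trans ?_ h3.symm))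
  refine (congrArg (fun y => (q.appLE ⊤ (g ⁻¹ᵁ U) le_top r : Γ(X', g ⁻¹ᵁ U)) • y) h2).trans ?_
  have h4 : ∀ (a b : Γ(X', g ⁻¹ᵁ U)) (y : Γ((Scheme.Modules.pullback g).obj E, g ⁻¹ᵁ U)),
      a • b • y = (b * a) • y := fun a b y => by rw [← mul_smul, mul_comm]
  refine (h4 _ _ _).trans ?_
  exact congrArg (fun z : Γ(X', g ⁻¹ᵁ U) =>
    z • (Groth.Agent.VarietyB.PullSec.sec g E (le_refl (g ⁻¹ᵁ U)) m :
      Γ((Scheme.Modules.pullback g).obj E, g ⁻¹ᵁ U)))
    (map_mul (q.appLE ⊤ (g ⁻¹ᵁ U) le_top).hom (f.appTop c) r).symm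

theorem isIso_smulModΓ {X : Scheme.{u}} (M : X.Modules) (r s : Coh.Γtop X) (h : r * s = 1)
    (h' : s * r = 1) : IsIso (Formal.smulModΓ M r) := by
  refine ⟨Formal.smulModΓ M s, ?_, ?_⟩
  · rw [← KLin.smulModΓ_mul, h, KLin.smulModΓ_one]
  · rw [← KLin.smulModΓ_mul, h', KLin.smulModΓ_one]

/-- A submodule `F₁ ⊂ g^* E` is everything as soon as `g_* F₁` contains `z • E` for a unit `z`. -/
theorem epi_of_factor (E : X.Modules) (z : Γ(S', ⊤)) (hz : IsUnit z) {F₁ : X'.Modules}
    (ι₁ : F₁ ⟶ (Scheme.Modules.pullback g).obj E) (θ : E ⟶ (Scheme.Modules.pushforward g).obj F₁)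
    (h : θ ≫ (Scheme.Modules.pushforward g).map ι₁ = FinPush.psi q g E z) : Epi ι₁ := by
  let adj := Scheme.Modules.pullbackPushforwardAdjunction g
  have h1 : (adj.homEquiv _ _).symm θ ≫ ι₁ = Formal.smulModΓ _ (q.appTop z) := by
    rw [← adj.homEquiv_naturality_right_symm, h, Equiv.symm_apply_eq]
    exact (adj.homEquiv_unit _ _ _).symm
  have h2 : IsIso (Formal.smulModΓ ((Scheme.Modules.pullback g).obj E) (q.appTop z)) := by
    obtain ⟨u, rfl⟩ := hz
    have e1 : (q.appTop.hom (u : Γ(S', ⊤)) : Γ(X', ⊤)) * q.appTop.hom (↑u⁻¹ : Γ(S', ⊤)) = 1 := by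
      rw [← map_mul, Units.mul_inv, map_one]
    have e2 : (q.appTop.hom (↑u⁻¹ : Γ(S', ⊤)) : Γ(X', ⊤)) * q.appTop.hom (u : Γ(S', ⊤)) = 1 := by
      rw [← map_mul, Units.inv_mul, map_one]
    exact isIso_smulModΓ _ _ _ e1 e2
  have h3 : Epi ((adj.homEquiv _ _).symm θ ≫ ι₁) := by rw [h1]; infer_instance
  exact epi_of_epi ((adj.homEquiv _ _).symm θ) ι₁

end Psi

theorem isUnit_of_ne_zero (k : Type u) [Field k] (z : Γ(Spec (CommRingCat.of k), ⊤)) (hz : z ≠ 0) :
    IsUnit z := by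
  let e : k ≃+* Γ(Spec (CommRingCat.of k), ⊤) :=
    (Scheme.ΓSpecIso (CommRingCat.of k)).symm.commRingCatIsoToRingEquiv
  have h : e.symm z ≠ 0 := by
    intro h0
    apply hz
    rw [← e.apply_symm_apply z, h0, map_zero]
  have h2 : IsUnit (e (e.symm z)) := (IsUnit.mk0 _ h).map e
  rwa [e.apply_symm_apply] at h2

section Finite

variable {k : Type u} [Field k] {X : Scheme.{u}}
  [X.Over (Spec (CommRingCat.of k))] [IsProper (X ↘ Spec (CommRingCat.of k))]
  {L : X.Modules} (Hk : Gies.HilbFacts k X L) (hL : PicF.IsInvertible L)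
  {k₁ : Type u} [Field k₁] [Algebra k k₁] [Module.Finite k k₁]
  {X' : Scheme.{u}} [X'.Over (Spec (CommRingCat.of k₁))]
  (g : X' ⟶ X) (H : IsPullback g (X' ↘ Spec (CommRingCat.of k₁)) (X ↘ Spec (CommRingCat.of k))
    (Spec.map (CommRingCat.ofHom (algebraMap k k₁))))
  (Hk₁ : Gies.HilbFacts k₁ X' ((Scheme.Modules.pullback g).obj L))

include Hk hL H Hk₁

/-- A submodule of `E_{k₁}` with the reduced Hilbert polynomial of the stable and simple module `E`
is everything. -/
theorem epi_of_eq {d : ℕ} {E : X.Modules} (hE : ShStab.IsStable k X L E d)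
    (hs : ∀ φ : E ⟶ E, ∃ c : k, φ = Formal.smulMod k E c)
    {F₁ : X'.Modules} (hF₁ : Coh.IsCoh F₁) (hF₁0 : ¬ IsZero F₁)
    (ι₁ : F₁ ⟶ (Scheme.Modules.pullback g).obj E) [Mono ι₁]
    (heq : alphaL d (Gies.hv k L E) •
        Gies.hv k₁ ((Scheme.Modules.pullback g).obj L) F₁ =
      alphaL d (Gies.hv k₁ ((Scheme.Modules.pullback g).obj L) F₁) •
        Gies.hv k L E) : Epi ι₁ := by
  have := isLocallyNoetherian_of_proper k X
  have hadd := Gies.add_coh Hk
  have hfin : (algebraMap k k₁).Finite := RingHom.finite_algebraMap.mpr ‹_›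
  have : IsFinite (Spec.map (CommRingCat.ofHom (algebraMap k k₁))) :=
    (IsFinite.SpecMap_iff _).mpr hfin
  have : IsFinite g := MorphismProperty.of_isPullback H.flip ‹_›
  obtain ⟨b⟩ := FinExt.nonempty_basis k k₁
  have hi := FinPush.isIso_desc_psi _ _ _ g H b E hE.1.1
  let D := biproduct.desc (fun j => FinPush.psi (X' ↘ Spec (CommRingCat.of k₁)) g E (b j))
  let e := (asIso D).symm
  let G := (Scheme.Modules.pushforward g).obj F₁
  have hm : Mono ((Scheme.Modules.pushforward g).map ι₁) := inferInstance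
  let κ : G ⟶ ⨁ fun _ : Fin (Module.finrank k k₁) => E := (Scheme.Modules.pushforward g).map ι₁ ≫ e.hom
  have hκ : Mono κ := mono_comp _ _
  have hG : Coh.IsCoh G := Groth.Agent.Fga.HodgePush.isCoh_push _ hF₁
  have hn : (0 : ℚ) < (Module.finrank k k₁ : ℚ) := by exact_mod_cast Module.finrank_pos
  have hGp : Gies.hp k L G = (Module.finrank k k₁ : ℚ) •
      Gies.hp k₁ ((Scheme.Modules.pullback g).obj L) F₁ :=
    Gies.hp_eq (FinExt.isHilbPoly_push g H hL hF₁ (Gies.isHilbPoly_hp Hk₁ hF₁))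
  have hv : Gies.hv k L G = (Module.finrank k k₁ : ℚ) •
      Gies.hv k₁ ((Scheme.Modules.pullback g).obj L) F₁ := by
    unfold Gies.hv
    rw [hGp, toPV_smul]
  have hG0 : ¬ IsZero G := by
    intro h0
    have h1 := hadd.v_zero h0
    rw [hv] at h1
    exact (smul_pos hn (Gies.hv_pos Hk₁ hF₁ hF₁0)).ne' h1
  obtain ⟨hE1, hE2, hE3, hE4⟩ := (Gies.isStable_iff Hk).mp hE
  obtain ⟨-, -, -, hE5⟩ := (Gies.isSemistable_iff Hk).mp (Gies.isSemistable_of_isStable hE)
  obtain ⟨θ, hθ⟩ := JointSt.exists_hom hadd (α := alphaL d) hE.1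
    (fun F ι hι hF => hE5 F ι hι (Gies.okd_of_mono Hk ι hF hE1))
    (fun F ι hι hF h0 hi => hE4 F ι hι (Gies.okd_of_mono Hk ι hF hE1) h0 hi)
    (Module.finrank k k₁) G hG hG0 (fun j => κ ≫ biproduct.π _ j)
    (fun T t ht => by
      rw [← cancel_mono κ, Limits.zero_comp]
      refine biproduct.hom_ext _ _ fun j => ?_
      rw [Category.assoc, Limits.zero_comp]
      exact ht j)
    (by rw [hv, map_smul, smul_comm, heq, smul_assoc])
  choose c hc using fun j : Fin (Module.finrank k k₁) => hs (θ ≫ κ ≫ biproduct.π _ j)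
  let z : Γ(Spec (CommRingCat.of k₁), ⊤) :=
    ∑ j, (Spec.map (CommRingCat.ofHom (algebraMap k k₁))).appTop
      ((Scheme.ΓSpecIso (CommRingCat.of k)).inv (c j)) * b j
  have key : θ ≫ (Scheme.Modules.pushforward g).map ι₁ =
      FinPush.psi (X' ↘ Spec (CommRingCat.of k₁)) g E z := by
    have h1 : θ ≫ (Scheme.Modules.pushforward g).map ι₁ = (θ ≫ κ) ≫ D := by
      simp only [κ, e, Category.assoc, Iso.symm_hom, asIso_inv, IsIso.inv_hom_id, Category.comp_id]
    have h2 : θ ≫ κ = biproduct.lift fun j => Formal.smulMod k E (c j) := by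
      refine biproduct.hom_ext _ _ fun j => ?_
      rw [biproduct.lift_π, Category.assoc]
      exact hc j
    rw [h1, h2, biproduct.lift_desc, psi_sum]
    refine Finset.sum_congr rfl fun j _ => ?_
    exact smul_psi _ _ _ g H.w E _ _
  refine epi_of_factor (X' ↘ Spec (CommRingCat.of k₁)) g E z
    (isUnit_of_ne_zero k₁ z fun hz => ?_) ι₁ θ key
  rw [hz, psi_zero] at key
  have h0 : θ = 0 := by
    rwa [← cancel_mono ((Scheme.Modules.pushforward g).map ι₁), Limits.zero_comp]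
  exact hE.2.1 (IsZero.of_mono_eq_zero θ h0)

end Finite

end K846.StableExt
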